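import Cfsg.Agent.Cit.Nil.RFour.SClosed

/-!
# (6b), `r ≥ 3`, NIL: strong closure without the centralisers of products (helper488)

`CZ Z` : `Z` is an invariant set of involutions, commuting is transitive on `Z`, and (F1): if `u` commutes with
`x u x⁻¹`, then `u` commutes with `x`.  `AZ Z z = ⟨u ∈ Z : [u, z] = 1⟩`.

* `pg_le` : a 2-group containing `z ∈ Z` normalises `AZ Z z`;
* `hb` : `b, e ∈ AZ Z z`, `u ∈ Z` commutes with `e` and moves `b` to `b` or `b e`: then `b ∈ AZ Z u`;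
* `closed_of` : `AZ Z z` is strongly closed in `S ∋ z`, if every `b ∈ S` as in `closed_of` has a suitable `u, x`.
-/

set_option autoImplicit false
set_option linter.style.haveILetI false
set_option linter.unusedSectionVars false

namespace Cfsg.Agent.Cit.Nil.RG

open Subgroup Cfsg Cfsg.Agent.Cit Cfsg.Agent.Cit.Nil.RFour

variable {G : Type*} [Group G]

/-- see the head of the file -/
structure CZ (Z : Set G) : Prop extends ComZ Z where
  f1 : ∀ x ∈ Z, ∀ u ∈ Z, u * (x * u * x⁻¹) = (x * u * x⁻¹) * u → x * u = u * x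

namespace CZ

variable {Z : Set G} {z z' u x b e g h : G} (c : CZ Z)

include c

/-- `Z ∩ N(Δ) = Δ` -/
theorem comm_of_norm (hz : z ∈ Z) (hx : x ∈ Z) (hn : x ∈ normalizer (AZ Z z : Set G)) : x * z = z * x := by
  refine c.f1 x hx z hz ?_
  have h1 : x * z * x⁻¹ ∈ AZ Z z := (mem_normalizer_iff.1 hn z).1 (ComZ.self_mem hz)
  exact c.AZ_comm hz _ (ComZ.self_mem hz) _ h1

theorem eq_of_norm (hz : z ∈ Z) (hx : x ∈ Z) (hn : x ∈ normalizer (AZ Z z : Set G)) : AZ Z x = AZ Z z :=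
  c.AZ_eq hx hz (c.comm_of_norm hz hx hn)

theorem norm_of_conj (hz : z ∈ Z) (hn : g * z * g⁻¹ ∈ normalizer (AZ Z z : Set G)) : g ∈ normalizer (AZ Z z : Set G) :=
  c.mem_norm_of hz (c.comm_of_norm hz (c.conj z hz g) hn).symm

theorem z_norm (hz : z ∈ Z) : z ∈ normalizer (AZ Z z : Set G) := le_normalizer (ComZ.self_mem hz)

/-- a 2-group containing `z` normalises `AZ Z z` -/
theorem pg_le [Finite G] (hz : z ∈ Z) {P : Subgroup G} (hP : IsPGroup 2 P) (hzP : z ∈ P) :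
    P ≤ normalizer (AZ Z z : Set G) := by
  by_contra hcon
  obtain ⟨b, hb, hb1, hb2⟩ := exists_normalizing hP (A := P ⊓ normalizer (AZ Z z : Set G)) inf_le_left
    (fun h1 => hcon (inf_eq_left.1 h1))
  apply hb1
  refine Subgroup.mem_inf.2 ⟨hb, ?_⟩
  have h2 := conj_mem_cj (g := b) (Subgroup.mem_inf.2 ⟨hzP, c.z_norm hz⟩ : z ∈ P ⊓ normalizer (AZ Z z : Set G))
  rw [hb2] at h2
  exact c.norm_of_conj hz h2.2

/-- a 2-subgroup `R` of `H ≥ AZ Z z` is `H`-conjugate into `N(AZ Z z)` -/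
theorem exists_conj_le [Finite G] (hz : z ∈ Z) {H R : Subgroup G} (hAH : AZ Z z ≤ H) (hR : IsPGroup 2 R) (hRH : R ≤ H) :
    ∃ d ∈ H, cj d R ≤ normalizer (AZ Z z : Set G) := by
  obtain ⟨P, hP⟩ := ((c.AZ_two hz).comap_subtype (K := H)).exists_le_sylow
  have hP2 : IsPGroup 2 ((P : Subgroup H).map H.subtype) := P.isPGroup'.map _
  have hzP : z ∈ (P : Subgroup H).map H.subtype :=
    ⟨⟨z, hAH (ComZ.self_mem hz)⟩, hP (mem_subgroupOf.2 (ComZ.self_mem hz)), rfl⟩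
  have hPM := c.pg_le hz hP2 hzP
  obtain ⟨m, hm⟩ := exists_le_cj P (hR.comap_subtype (K := H))
  refine ⟨(m : G)⁻¹, inv_mem m.2, ?_⟩
  intro x hx
  rw [mem_cj, inv_inv] at hx
  have h1 : (⟨(m : G) * x * (m : G)⁻¹, hRH hx⟩ : H) ∈ cj m (P : Subgroup H) := hm (mem_subgroupOf.2 hx)
  rw [mem_cj] at h1
  have h2 := hPM (mem_map_of_mem H.subtype h1)
  have h3 : H.subtype (m⁻¹ * (⟨(m : G) * x * (m : G)⁻¹, hRH hx⟩ : H) * m) = x := by
    change (m : G)⁻¹ * ((m : G) * x * (m : G)⁻¹) * (m : G) = x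
    group
  rwa [h3] at h2

/-- **(HB)** -/
theorem hb [Finite G] (hz : z ∈ Z) (hb : b ∈ AZ Z z) (he : e ∈ AZ Z z) (hu : u ∈ Z) (hue : u * e = e * u)
    (hub : u * b * u⁻¹ = b ∨ u * b * u⁻¹ = b * e) : b ∈ AZ Z u := by
  have hee := c.AZ_sq hz e he
  have hbe := c.AZ_comm hz b hb e he
  let H : Subgroup G :=
    { carrier := {h | h * e = e * h ∧ (h * b * h⁻¹ = b ∨ h * b * h⁻¹ = b * e)}
      mul_mem' := by
        rintro p q ⟨h1, h2⟩ ⟨h3, h4⟩
        refine ⟨by rw [mul_assoc, h3, ← mul_assoc, h1, mul_assoc], ?_⟩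
        have h5 : p * q * b * (p * q)⁻¹ = p * (q * b * q⁻¹) * p⁻¹ := by group
        have h6 : p * (b * e) * p⁻¹ = (p * b * p⁻¹) * e := by
          calc p * (b * e) * p⁻¹ = (p * b * p⁻¹) * (p * e * p⁻¹) := by group
            _ = _ := by rw [h1, mul_inv_cancel_right]
        rw [h5]
        rcases h4 with h4 | h4
        · rw [h4]; exact h2
        · rw [h4, h6]
          rcases h2 with h2 | h2
          · right; rw [h2]
          · left; rw [h2, mul_assoc, hee, mul_one]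
      one_mem' := ⟨by group, Or.inl (by group)⟩
      inv_mem' := by
        rintro p ⟨h1, h2⟩
        have h3 : p⁻¹ * e = e * p⁻¹ := by rw [inv_mul_eq_iff_eq_mul, ← mul_assoc, h1, mul_inv_cancel_right]
        refine ⟨h3, ?_⟩
        rcases h2 with h2 | h2
        · left; nth_rw 1 [← h2]; group
        · right
          have h4 : b = (p * b * p⁻¹) * e := by rw [h2, mul_assoc, hee, mul_one]
          calc p⁻¹ * b * p⁻¹⁻¹ = p⁻¹ * ((p * b * p⁻¹) * e) * p⁻¹⁻¹ := by rw [← h4]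
            _ = b * (p⁻¹ * e) * p := by group
            _ = b * (e * p⁻¹) * p := by rw [h3]
            _ = b * e := by group }
  have hAH : AZ Z z ≤ H := fun a ha =>
    ⟨c.AZ_comm hz a ha e he, Or.inl (by rw [c.AZ_comm hz a ha b hb, mul_inv_cancel_right])⟩
  have huH : u ∈ H := ⟨hue, hub⟩
  have hu2 : IsPGroup 2 (zpowers u) := by
    haveI : Fact (Nat.Prime 2) := ⟨Nat.prime_two⟩
    refine IsPGroup.of_card (n := 1) ?_
    rw [Nat.card_zpowers, pow_one]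
    exact orderOf_eq_prime (by rw [pow_two]; exact c.sq u hu) (c.ne u hu)
  obtain ⟨d, hd, hdM⟩ := c.exists_conj_le hz hAH hu2 (zpowers_le.2 huH)
  have h1 : d * u * d⁻¹ ∈ normalizer (AZ Z z : Set G) := hdM (conj_mem_cj (mem_zpowers u))
  have h2 := c.eq_of_norm hz (c.conj u hu d) h1
  rw [c.AZ_conj d] at h2
  -- `b = d⁻¹ (d b d⁻¹) d`
  have h3 : d * b * d⁻¹ ∈ AZ Z z := by
    rcases hd.2 with h3 | h3
    · rw [h3]; exact hb
    · rw [h3]; exact mul_mem hb he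
  rw [← h2] at h3
  exact conj_mem_cj_iff.1 h3

/-- **(SC)** -/
theorem closed_of [Finite G] (S : Sylow 2 G) (hz : z ∈ Z) (hzS : z ∈ (S : Subgroup G))
    (cnt : ∀ b ∈ (S : Subgroup G), b * b = 1 → ∀ k, b ∈ AZ Z (k * z * k⁻¹) →
      (∀ s ∈ (S : Subgroup G), s * b = b * s → s ∈ normalizer (AZ Z (k * z * k⁻¹) : Set G)) →
      (∀ u ∈ Z, z * u = u * z → u * b ≠ b * u) →
      ∃ u ∈ Z, z * u = u * z ∧ ∃ x ∈ Z, x * (k * z * k⁻¹) = (k * z * k⁻¹) * x ∧
        x * (u * (b * u * b⁻¹)) = (u * (b * u * b⁻¹)) * x) :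
    IsStronglyClosed (AZ Z z) (S : Subgroup G) := by
  have hSM := c.pg_le hz S.isPGroup' hzS
  have hA2 := c.AZ_two hz
  have hAS : AZ Z z ≤ S := by
    have h1 : IsPGroup 2 (AZ Z z ⊔ S : Subgroup G) := IsPGroup.to_sup_of_normal_left' hA2 S.isPGroup' hSM
    have h2 := S.is_maximal' h1 le_sup_right
    rw [← h2]
    exact le_sup_left
  refine ⟨hAS, fun a ha g hg => ?_⟩
  obtain ⟨b, hbdef⟩ : ∃ b, b = g * a * g⁻¹ := ⟨_, rfl⟩
  rw [← hbdef] at hg ⊢
  have haa := c.AZ_sq hz a ha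
  have hbb : b * b = 1 := by
    rw [hbdef]
    calc g * a * g⁻¹ * (g * a * g⁻¹) = g * (a * a) * g⁻¹ := by group
      _ = 1 := by rw [haa]; group
  have hbi : b⁻¹ = b := inv_eq_of_mul_eq_one_right hbb
  have hgb : g⁻¹ * b * g = a := by rw [hbdef]; group
  let R : Subgroup G := cj g⁻¹ ((S : Subgroup G) ⊓ centralizer {b})
  have hR : ∀ r ∈ R, g * r * g⁻¹ ∈ (S : Subgroup G) ⊓ centralizer {b} := by
    intro r hr
    rw [mem_cj, inv_inv] at hr
    exact hr
  have hR2 : IsPGroup 2 R := (S.isPGroup'.to_le inf_le_left).map _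
  have hRa : R ≤ centralizer {a} := by
    intro r hr
    rw [mem_centralizer_singleton_iff]
    have h1 := mem_centralizer_singleton_iff.1 (hR r hr).2
    rw [← hgb]
    calc r * (g⁻¹ * b * g) = g⁻¹ * ((g * r * g⁻¹) * b) * g := by group
      _ = g⁻¹ * (b * (g * r * g⁻¹)) * g := by rw [h1]
      _ = _ := by group
  obtain ⟨d, hd, hdR⟩ := c.exists_conj_le hz
    (H := centralizer {a}) (fun x hx => mem_centralizer_singleton_iff.2 (c.AZ_comm hz x hx a ha)) hR2 hRa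
  rw [mem_centralizer_singleton_iff] at hd
  obtain ⟨k, hk⟩ : ∃ k, k = g * d⁻¹ := ⟨_, rfl⟩
  have h5 : d⁻¹ * a * d = a := by rw [mul_assoc, ← hd, inv_mul_cancel_left]
  have hkb : b = k * a * k⁻¹ := by
    rw [hbdef, hk]
    calc g * a * g⁻¹ = g * (d⁻¹ * a * d) * g⁻¹ := by rw [h5]
      _ = _ := by group
  have hbk : b ∈ AZ Z (k * z * k⁻¹) := by rw [c.AZ_conj, hkb]; exact conj_mem_cj ha
  have hkz := c.conj z hz k
  have hcent : ∀ s ∈ (S : Subgroup G), s * b = b * s → s ∈ normalizer (AZ Z (k * z * k⁻¹) : Set G) := by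
    intro s hs hsb
    have h6 : g⁻¹ * s * g⁻¹⁻¹ ∈ R := conj_mem_cj (Subgroup.mem_inf.2 ⟨hs, mem_centralizer_singleton_iff.2 hsb⟩)
    have h7 := hdR (conj_mem_cj (g := d) h6)
    have h8 : d * (g⁻¹ * s * g⁻¹⁻¹) * d⁻¹ = k⁻¹ * s * k := by rw [hk]; group
    rw [h8] at h7
    rw [mem_normalizer_iff_cj] at h7 ⊢
    rw [c.AZ_conj, ← cj_mul]
    have h9 : s * k = k * (k⁻¹ * s * k) := by group
    rw [h9, cj_mul, h7]
  have hbM := hSM hg
  by_cases hex : ∃ u ∈ Z, z * u = u * z ∧ u * b = b * u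
  · obtain ⟨u, hu, hzu, hub⟩ := hex
    have huA : u ∈ AZ Z z := subset_closure ⟨hu, hzu⟩
    have h6 := hcent u (hAS huA) hub
    have h7 := c.eq_of_norm hkz hu h6
    rw [← c.AZ_eq hu hz hzu.symm, h7]
    exact hbk
  · push Not at hex
    obtain ⟨u, hu, hzu, x, hx, hxz, hxe⟩ := cnt b hg hbb k hbk hcent hex
    have huA : u ∈ AZ Z z := subset_closure ⟨hu, hzu⟩
    have hu2 : b * u * b⁻¹ ∈ AZ Z z := (mem_normalizer_iff.1 hbM u).1 huA
    obtain ⟨e, he⟩ : ∃ e, e = u * (b * u * b⁻¹) := ⟨_, rfl⟩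
    rw [← he] at hxe
    have heA : e ∈ AZ Z z := by rw [he]; exact mul_mem huA hu2
    have h6 : e ∈ AZ Z x := c.hb hz heA (one_mem _) hx (by group) (Or.inl (by rw [hxe, mul_inv_cancel_right]))
    rw [c.AZ_eq hx hkz hxz] at h6
    have hui : u⁻¹ = u := inv_eq_of_mul_eq_one_right (c.sq u hu)
    have h7 : u * b * u⁻¹ = b * e := by
      rw [he, ← c.AZ_comm hz _ hu2 _ huA, hui]
      calc u * b * u = 1 * (u * b * u) := by group
        _ = (b * b) * (u * b * u) := by rw [hbb]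
        _ = b * ((b * u * b) * u) := by group
        _ = b * ((b * u * b⁻¹) * u) := by rw [hbi]
    have h8 := c.hb hkz hbk h6 hu (c.AZ_comm hz _ huA _ heA) (Or.inr h7)
    rwa [c.AZ_eq hu hz hzu.symm] at h8

end CZ

end Cfsg.Agent.Cit.Nil.RG
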