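import Mathlib

/-!
# Commuting non-commutative subgroups of a 2-group of permutations (helper488)

`count` : `k` pairwise commuting non-commutative subgroups `⟨p i, q i⟩` of a 2-group of permutations of a set of
`n` points: `2 k < n`.
-/

set_option autoImplicit false
set_option linter.style.haveILetI false
set_option linter.unusedSectionVars false

namespace Cfsg.Agent.Cit.Nil.RG

open Subgroup

section

variable {P : Type*} [Group P] {ι : Type*}

/-- the subgroup generated by `p i, q i`, `i ∈ T` -/
def HT (p q : ι → P) (T : Finset ι) : Subgroup P := closure {x | ∃ i ∈ T, x = p i ∨ x = q i}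

theorem pq_aux {p q x : P} (hx : x * p = p * x ∧ x * q = q * x) (hn : p * q ≠ q * p)
    (h : x = p ∨ x = q ∨ x = p * q ∨ x = p⁻¹ * q ∨ x = q⁻¹ * (p * q)) : False := by
  apply hn
  obtain ⟨h1, h2⟩ := hx
  rcases h with rfl | rfl | rfl | rfl | rfl
  · exact h2
  · exact h1.symm
  · have h3 : p * (q * p) = p * (p * q) := by rw [← mul_assoc]; exact h1
    exact (mul_left_cancel h3).symm
  · have h3 : p⁻¹ * (q * p) = p⁻¹ * (p * q) := by
      calc p⁻¹ * (q * p) = p⁻¹ * q * p := by group
        _ = p * (p⁻¹ * q) := h1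
        _ = _ := by group
    exact (mul_left_cancel h3).symm
  · have h3 : q⁻¹ * (p * q) * q = q⁻¹ * (q * p) * q := by
      calc q⁻¹ * (p * q) * q = q * (q⁻¹ * (p * q)) := h2
        _ = _ := by group
    exact mul_left_cancel (mul_right_cancel h3)

theorem card_HT [Finite P] [DecidableEq ι] (p q : ι → P) (T : Finset ι)
    (hc : ∀ i ∈ T, ∀ j ∈ T, i ≠ j → p i * p j = p j * p i ∧ p i * q j = q j * p i ∧ q i * p j = p j * q i ∧
      q i * q j = q j * q i) (hn : ∀ i ∈ T, p i * q i ≠ q i * p i) :
    4 ^ T.card ≤ Nat.card (HT p q T) := by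
  induction T using Finset.induction_on with
  | empty =>
    rw [Finset.card_empty, pow_zero]
    exact Nat.card_pos
  | insert i T hi ih =>
    have ih := ih (fun j hj k hk => hc j (Finset.mem_insert_of_mem hj) k (Finset.mem_insert_of_mem hk))
      (fun j hj => hn j (Finset.mem_insert_of_mem hj))
    have hle : HT p q T ≤ HT p q (insert i T) := by
      refine closure_mono ?_
      rintro x ⟨j, hj, hx⟩
      exact ⟨j, Finset.mem_insert_of_mem hj, hx⟩
    have hpm : p i ∈ HT p q (insert i T) := subset_closure ⟨i, Finset.mem_insert_self i T, Or.inl rfl⟩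
    have hqm : q i ∈ HT p q (insert i T) := subset_closure ⟨i, Finset.mem_insert_self i T, Or.inr rfl⟩
    have hcom : ∀ a ∈ HT p q T, a * p i = p i * a ∧ a * q i = q i * a := by
      intro a ha
      have h1 : HT p q T ≤ centralizer {p i} ⊓ centralizer {q i} := by
        rw [HT, closure_le]
        rintro x ⟨j, hj, hx⟩
        have hji : j ≠ i := fun h2 => hi (h2 ▸ hj)
        have h3 := hc j (Finset.mem_insert_of_mem hj) i (Finset.mem_insert_self i T) hji
        rw [SetLike.mem_coe, Subgroup.mem_inf, mem_centralizer_singleton_iff, mem_centralizer_singleton_iff]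
        rcases hx with rfl | rfl
        · exact ⟨h3.1, h3.2.1⟩
        · exact ⟨h3.2.2.1, h3.2.2.2⟩
      have h2 := h1 ha
      rw [Subgroup.mem_inf, mem_centralizer_singleton_iff, mem_centralizer_singleton_iff] at h2
      exact h2
    have hni := hn i (Finset.mem_insert_self i T)
    let w : Fin 4 → P := ![1, p i, q i, p i * q i]
    have hw : ∀ n, w n ∈ HT p q (insert i T) := by
      intro n
      fin_cases n
      · exact one_mem _
      · exact hpm
      · exact hqm
      · exact mul_mem hpm hqm
    have key : ∀ n n' : Fin 4, n < n' → ¬ ((w n)⁻¹ * w n' ∈ HT p q T) := by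
      intro n n' hlt hm
      have h1 := hcom _ hm
      refine pq_aux h1 hni ?_
      fin_cases n <;> fin_cases n' <;> first | exact absurd hlt (by decide) | skip
      · left; change (1 : P)⁻¹ * p i = p i; group
      · right; left; change (1 : P)⁻¹ * q i = q i; group
      · right; right; left; change (1 : P)⁻¹ * (p i * q i) = p i * q i; group
      · right; right; right; left; rfl
      · right; left; change (p i)⁻¹ * (p i * q i) = q i; group
      · right; right; right; right; rfl
    let f : Fin 4 × HT p q T → HT p q (insert i T) := fun y => ⟨w y.1 * y.2, mul_mem (hw y.1) (hle y.2.2)⟩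
    have hf : Function.Injective f := by
      rintro ⟨n, a⟩ ⟨n', a'⟩ hff
      have h1 : w n * a = w n' * a' := congrArg Subtype.val hff
      have h2 : n = n' := by
        by_contra hne
        rcases lt_or_gt_of_ne hne with h3 | h3
        · refine key n n' h3 ?_
          have h4 : (w n)⁻¹ * w n' = (a : P) * (a' : P)⁻¹ := by
            rw [inv_mul_eq_iff_eq_mul, ← mul_assoc, h1, mul_inv_cancel_right]
          rw [h4]
          exact mul_mem a.2 (inv_mem a'.2)
        · refine key n' n h3 ?_
          have h4 : (w n')⁻¹ * w n = (a' : P) * (a : P)⁻¹ := by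
            rw [inv_mul_eq_iff_eq_mul, ← mul_assoc, ← h1, mul_inv_cancel_right]
          rw [h4]
          exact mul_mem a'.2 (inv_mem a.2)
      subst h2
      have h3 : a = a' := Subtype.ext (mul_left_cancel h1)
      rw [h3]
    have h1 := Nat.card_le_card_of_injective f hf
    rw [Nat.card_prod, Nat.card_eq_fintype_card, Fintype.card_fin] at h1
    rw [Finset.card_insert_of_notMem hi, pow_succ, mul_comm]
    exact (Nat.mul_le_mul_left 4 ih).trans h1

end

/-- see the head of the file -/
theorem count {X : Type*} [Finite X] [Nonempty X] {ι : Type*} [DecidableEq ι] (H : Subgroup (Equiv.Perm X))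
    (hH : IsPGroup 2 H) (p q : ι → Equiv.Perm X) (T : Finset ι) (hp : ∀ i ∈ T, p i ∈ H) (hq : ∀ i ∈ T, q i ∈ H)
    (hc : ∀ i ∈ T, ∀ j ∈ T, i ≠ j → p i * p j = p j * p i ∧ p i * q j = q j * p i ∧ q i * p j = p j * q i ∧
      q i * q j = q j * q i) (hn : ∀ i ∈ T, p i * q i ≠ q i * p i) : 2 * T.card < Nat.card X := by
  haveI : Fact (Nat.Prime 2) := ⟨Nat.prime_two⟩
  have h1 := card_HT p q T hc hn
  have h2 : HT p q T ≤ H := by
    rw [HT, closure_le]
    rintro x ⟨i, hi, rfl | rfl⟩
    · exact hp i hi
    · exact hq i hi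
  have h3 : 4 ^ T.card ≤ Nat.card H := h1.trans (Nat.le_of_dvd Nat.card_pos (card_dvd_of_le h2))
  obtain ⟨j, hj⟩ := IsPGroup.iff_card.1 hH
  have h4 : 2 ^ j ∣ (Nat.card X).factorial := by
    rw [← hj, ← Nat.card_perm]
    exact card_subgroup_dvd_card H
  have h5 : j < Nat.card X := by
    have h6 := Nat.emultiplicity_two_factorial_lt (n := Nat.card X) Nat.card_pos.ne'
    have h7 : (j : ℕ∞) ≤ emultiplicity 2 (Nat.card X).factorial := le_emultiplicity_of_pow_dvd h4
    exact_mod_cast lt_of_le_of_lt h7 h6
  have h6 : 2 * T.card ≤ j := by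
    rw [hj] at h3
    have h7 : (4 : ℕ) ^ T.card = 2 ^ (2 * T.card) := by rw [pow_mul]; norm_num
    rw [h7] at h3
    exact (Nat.pow_le_pow_iff_right (by norm_num)).1 h3
  omega

/-- a fixed point free involution of a finite set has a transversal -/
theorem exists_transversal {α : Type*} [DecidableEq α] (D : Finset α) (σ : α → α)
    (hi : ∀ a ∈ D, σ (σ a) = a) (hf : ∀ a ∈ D, σ a ≠ a) : ∃ T ⊆ D, (∀ a ∈ T, σ a ∉ T) ∧ D.card ≤ 2 * T.card := by
  -- a maximal free subset
  obtain ⟨T, hT, hmax⟩ := Finset.exists_max_image (D.powerset.filter fun T => ∀ a ∈ T, σ a ∉ T) Finset.card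
    ⟨∅, by simp⟩
  rw [Finset.mem_filter, Finset.mem_powerset] at hT
  refine ⟨T, hT.1, hT.2, ?_⟩
  have h1 : D ⊆ T ∪ T.image σ := by
    intro a ha
    by_contra hcon
    rw [Finset.mem_union, not_or, Finset.mem_image] at hcon
    obtain ⟨h2, h3⟩ := hcon
    push Not at h3
    have h4 := hmax (insert a T) (by
      rw [Finset.mem_filter, Finset.mem_powerset]
      refine ⟨Finset.insert_subset ha hT.1, fun b hb => ?_⟩
      rw [Finset.mem_insert] at hb ⊢
      rw [not_or]
      rcases hb with rfl | hb
      · exact ⟨hf b ha, fun h4 => h3 _ h4 (hi b ha)⟩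
      · exact ⟨fun h4 => h3 b hb h4, hT.2 b hb⟩)
    rw [Finset.card_insert_of_notMem h2] at h4
    omega
  calc D.card ≤ (T ∪ T.image σ).card := Finset.card_le_card h1
    _ ≤ T.card + (T.image σ).card := Finset.card_union_le _ _
    _ ≤ T.card + T.card := Nat.add_le_add_left Finset.card_image_le _
    _ = 2 * T.card := by ring

end Cfsg.Agent.Cit.Nil.RG
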