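import Cfsg.Agent.Cit.Nil.RG.FOne
import Cfsg.Agent.Cit.Nil.RG.CZ
import Cfsg.Agent.Cit.Nil.RG.Count

/-!
# (6b), no type I pairs, NIL: `⟨Z ∩ C(z)⟩` is strongly closed (helper488)

* `NilC Om` : the C-partners of `z` lie in a normal 2-subgroup of `C(z)`;
* `WR.cz` : (commuting = C, two members over each involution, NIL) commuting is transitive on `ZZ Om`;
* `WR.closed` : `AZ (ZZ Om) z` is strongly closed in the Sylow 2-subgroups containing `z`.
-/

set_option autoImplicit false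
set_option linter.style.haveILetI false
set_option linter.unusedSectionVars false

namespace Cfsg.Agent.Cit.Nil.RG

open Subgroup Cfsg Cit QuaternionGroup
open Cfsg.Agent.Cit.Nil.ROne Cfsg.Agent.Cit.Nil.RFour

variable {G : Type*} [Group G]

/-- the C-partners of `z` lie in `O₂(C(z))` -/
def NilC (Om : Set (Subgroup G)) : Prop := ∀ z ∈ ZZ Om, ∀ u ∈ ZZ Om, CP Om z u →
  ∃ N : Subgroup G, centralizer {z} ≤ normalizer (N : Set G) ∧ IsPGroup 2 N ∧ u ∈ N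

/-- the action by conjugation on an invariant set -/
def actX (M : Subgroup G) (X : Set G) (hX : ∀ g ∈ M, ∀ x ∈ X, g * x * g⁻¹ ∈ X) : M →* Equiv.Perm X where
  toFun g :=
    { toFun := fun x => ⟨g * x * (g : G)⁻¹, hX g g.2 x x.2⟩
      invFun := fun x => ⟨(g : G)⁻¹ * x * g, by
        have h1 := hX (g : G)⁻¹ (inv_mem g.2) x x.2
        rwa [inv_inv] at h1⟩
      left_inv := fun x => Subtype.ext (by change (g : G)⁻¹ * (g * x * (g : G)⁻¹) * g = x; group)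
      right_inv := fun x => Subtype.ext (by change (g : G) * ((g : G)⁻¹ * x * g) * (g : G)⁻¹ = x; group) }
  map_one' := Equiv.ext fun x => Subtype.ext (by change (1 : G) * x * (1 : G)⁻¹ = x; group)
  map_mul' g h := Equiv.ext fun x => Subtype.ext (by
    change ((g : G) * h) * x * ((g : G) * h)⁻¹ = g * (h * x * (h : G)⁻¹) * (g : G)⁻¹
    group)

/-- the central product of pairwise commuting 2-groups -/
theorem SS_two [Finite G] : ∀ (n : ℕ) (𝒦 : Set (Subgroup G)), 𝒦.ncard = n → (∀ K ∈ 𝒦, IsPGroup 2 K) →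
    (∀ K ∈ 𝒦, ∀ L ∈ 𝒦, K ≠ L → ∀ a ∈ K, ∀ b ∈ L, a * b = b * a) → IsPGroup 2 (SS 𝒦) := by
  intro n
  induction n with
  | zero =>
    intro 𝒦 hn _ _
    rw [Set.ncard_eq_zero] at hn
    subst hn
    rw [SS_empty]
    exact IsPGroup.of_bot
  | succ n ih =>
    intro 𝒦 hn h2 hc
    obtain ⟨K, hK⟩ : 𝒦.Nonempty := by
      rw [Set.nonempty_iff_ne_empty]; rintro rfl; rw [Set.ncard_empty] at hn; omega
    have h3 : (𝒦 \ {K}).ncard = n := by
      have h1 := Set.ncard_sdiff_singleton_add_one hK (Set.toFinite 𝒦)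
      omega
    have h4 := ih (𝒦 \ {K}) h3 (fun L hL => h2 L hL.1) fun L hL M hM => hc L hL.1 M hM.1
    have h5 : K ≤ normalizer (SS (𝒦 \ {K}) : Set G) := by
      intro k hk
      rw [mem_normalizer_iff]
      have h6 : ∀ g ∈ SS (𝒦 \ {K}), k * g = g * k := fun g hg =>
        SS_comm (fun L hL l hl => hc K hK L hL.1 (fun h7 => hL.2 h7.symm) k hk l hl) hg
      intro g
      constructor
      · intro hg
        rw [h6 g hg, mul_inv_cancel_right]; exact hg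
      · intro hg
        have h7 := h6 _ hg
        have h8 : g = k * g * k⁻¹ := by
          have h9 : k * (k * g * k⁻¹) = k * g := by rw [h7]; group
          exact (mul_left_cancel h9).symm
        rw [h8]; exact hg
    have h6 : IsPGroup 2 (K ⊔ SS (𝒦 \ {K}) : Subgroup G) := (h2 K hK).to_sup_of_normal_right' h4 h5
    refine h6.to_le (SS_le fun L hL => ?_)
    by_cases hLK : L = K
    · rw [hLK]; exact le_sup_left
    · exact (le_SS (𝒦 := 𝒦 \ {K}) ⟨hL, hLK⟩).trans le_sup_right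

namespace WR

variable {Om : Set (Subgroup G)} {K L M : Subgroup G} {z x y g g' u v w a a' b k l r s t i p q c : G}

variable [Finite G] (h : WR Om) (hC : AllC Om) (h2 : R2 Om)

include h hC h2

/-- **commuting is transitive** -/
theorem cz (hN : NilC Om) : CZ (ZZ Om) where
  sq z hz := h.zz_sq hz
  ne z hz := h.zz_ne hz
  conj z hz g := h.zz_cj hz g
  f1 x hx u hu hc := h.f1 hC h2 hx hu hc
  tr z hz w hw t ht hzw hzt := by
    by_cases hw1 : z = w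
    · rw [← hw1]; exact hzt
    by_cases ht1 : z = t
    · rw [← ht1]; exact hzw.symm
    have c1 : CP Om z w := hC w hw z hz hw1 hzw
    have c2 : CP Om z t := hC t ht z hz ht1 hzt
    obtain ⟨N, hN1, hN2, hN3⟩ := hN z hz w hw c1
    obtain ⟨K, hK⟩ := id ht
    refine h.f1 hC h2 hw ht ?_
    by_cases h5 : w * t * w⁻¹ = t
    · rw [h5]
    have hKC : K ≤ centralizer {z} := fun k hk => by
      rw [mem_centralizer_singleton_iff]
      exact (h.CP_RR c2 (h.RR_mem hz) (le_RR hK hk)).symm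
    have h3 : IsPGroup 2 (K ⊔ N : Subgroup G) := (h.two hK.1).to_sup_of_normal_right' hN2 (hKC.trans hN1)
    have h4 : cj w K ≤ K ⊔ N := by
      rintro _ ⟨k, hk, rfl⟩
      change w * k * w⁻¹ ∈ K ⊔ N
      have hw' : w ∈ K ⊔ N := (le_sup_right : N ≤ K ⊔ N) hN3
      exact mul_mem (mul_mem hw' ((le_sup_left : K ≤ K ⊔ N) hk)) (inv_mem hw')
    have h6 := h.Ov_cj hK w
    have h7 : K ≠ cj w K := by
      intro h7
      apply h5
      rw [← h6.2, ← h7, hK.2]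
    exact h.pg K hK.1 _ h6.1 _ h3 le_sup_left h4 h7 t (h.Ov_mem hK) _ (h.Ov_mem h6)

/-- the members over the elements commuting with `z` lie in the Sylow subgroups containing `z` -/
theorem RR_le (hN : NilC Om) (S : Sylow 2 G) (hz : z ∈ ZZ Om) (hzS : z ∈ (S : Subgroup G))
    (hzu : z * u = u * z) : RR Om u ≤ S := by
  have c := h.cz hC h2 hN
  let 𝒦 : Set (Subgroup G) := {K | K ∈ Om ∧ z * zz K = zz K * z}
  have h3 : IsPGroup 2 (SS 𝒦) := by
    refine SS_two _ 𝒦 rfl (fun K hK => h.two hK.1) fun K hK L hL hne a ha b hb => ?_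
    by_cases h5 : zz K = zz L
    · exact h.comm K hK.1 L hL.1 h5 hne a ha b hb
    · have h6 := c.tr z hz (zz K) ⟨K, hK.1, rfl⟩ (zz L) ⟨L, hL.1, rfl⟩ hK.2 hL.2
      exact (hC (zz L) ⟨L, hL.1, rfl⟩ (zz K) ⟨K, hK.1, rfl⟩ h5 h6).2 K ⟨hK.1, rfl⟩ L ⟨hL.1, rfl⟩ a ha b hb
  have hM := c.pg_le hz S.isPGroup' hzS
  have h4 : (S : Subgroup G) ≤ normalizer (SS 𝒦 : Set G) := by
    have key : ∀ s ∈ (S : Subgroup G), ∀ g ∈ SS 𝒦, s * g * s⁻¹ ∈ SS 𝒦 := by
      intro s hs g hg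
      refine SS_cj_le (𝒦 := 𝒦) (fun K hK => ⟨h.conj K hK.1 s, ?_⟩) hg
      rw [h.zcj hK.1]
      have h6 : zz K ∈ AZ (ZZ Om) z := subset_closure ⟨⟨K, hK.1, rfl⟩, hK.2⟩
      have h7 := (mem_normalizer_iff.1 (hM hs) _).1 h6
      exact c.AZ_comm hz _ (ComZ.self_mem hz) _ h7
    intro s hs
    rw [mem_normalizer_iff]
    intro g
    refine ⟨key s hs g, fun hg => ?_⟩
    have h6 := key s⁻¹ (inv_mem hs) _ hg
    have h7 : s⁻¹ * (s * g * s⁻¹) * s⁻¹⁻¹ = g := by group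
    rwa [h7] at h6
  have h5 : IsPGroup 2 ((S : Subgroup G) ⊔ SS 𝒦 : Subgroup G) :=
    (S.isPGroup').to_sup_of_normal_right' h3 h4
  have h6 := S.is_maximal' h5 le_sup_left
  refine SS_le fun K hK => ?_
  have h7 : K ≤ SS 𝒦 := le_SS (𝒦 := 𝒦) ⟨hK.1, by rw [hK.2]; exact hzu⟩
  rw [← h6]
  exact h7.trans le_sup_right

omit h2 in
/-- diagonal elements: commuting -/
theorem diag_comm (_hb : b * b = 1) (hu : u ∈ ZZ Om) (hv : v ∈ ZZ Om)
    (huu : ∀ p ∈ ({u, b * u * b⁻¹} : Set G), ∀ q ∈ ({v, b * v * b⁻¹} : Set G), p ≠ q ∧ p * q = q * p)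
    (hk : k ∈ RR Om u) (hl : l ∈ RR Om v) :
    (k * (b * k * b⁻¹)) * (l * (b * l * b⁻¹)) = (l * (b * l * b⁻¹)) * (k * (b * k * b⁻¹)) := by
  have hbk := h.RR_cj hk b
  have hbl := h.RR_cj hl b
  have hbu := h.zz_cj hu b
  have hbv := h.zz_cj hv b
  have c1 := hC v hv u hu (huu u (Or.inl rfl) v (Or.inl rfl)).1 (huu u (Or.inl rfl) v (Or.inl rfl)).2
  have c2 := hC _ hbv u hu (huu u (Or.inl rfl) _ (Or.inr rfl)).1 (huu u (Or.inl rfl) _ (Or.inr rfl)).2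
  have c3 := hC v hv _ hbu (huu _ (Or.inr rfl) v (Or.inl rfl)).1 (huu _ (Or.inr rfl) v (Or.inl rfl)).2
  have c4 := hC _ hbv _ hbu (huu _ (Or.inr rfl) _ (Or.inr rfl)).1 (huu _ (Or.inr rfl) _ (Or.inr rfl)).2
  have d1 : Commute k l := h.CP_RR c1 hk hl
  have d2 : Commute k (b * l * b⁻¹) := h.CP_RR c2 hk hbl
  have d3 : Commute (b * k * b⁻¹) l := h.CP_RR c3 hbk hl
  have d4 : Commute (b * k * b⁻¹) (b * l * b⁻¹) := h.CP_RR c4 hbk hbl
  exact ((d1.mul_right d2).mul_left (d3.mul_right d4)).eq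

/-- **strong closure** -/
theorem closed (hN : NilC Om) (S : Sylow 2 G) (hz : z ∈ ZZ Om) (hzS : z ∈ (S : Subgroup G)) :
    IsStronglyClosed (AZ (ZZ Om) z) (S : Subgroup G) := by
  classical
  have c := h.cz hC h2 hN
  have hSM := c.pg_le hz S.isPGroup' hzS
  refine c.closed_of S hz hzS fun b hb hbb k _ hcent hmv => ?_
  by_contra hcon
  push Not at hcon
  obtain ⟨z', hz'⟩ : ∃ z', z' = k * z * k⁻¹ := ⟨_, rfl⟩
  rw [← hz'] at hcent hcon
  have hz'Z : z' ∈ ZZ Om := by rw [hz']; exact h.zz_cj hz k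
  have hbi : b⁻¹ = b := inv_eq_of_mul_eq_one_right hbb
  -- the points
  let Δ : Set G := {u | u ∈ ZZ Om ∧ z * u = u * z}
  let X : Set G := {x | x ∈ ZZ Om ∧ x * z' = z' * x}
  have hΔ : ∀ u ∈ Δ, b * u * b⁻¹ ∈ Δ := by
    rintro u ⟨hu, hzu⟩
    refine ⟨h.zz_cj hu b, ?_⟩
    have h6 : u ∈ AZ (ZZ Om) z := subset_closure ⟨hu, hzu⟩
    have h7 := (mem_normalizer_iff.1 (hSM hb) _).1 h6
    exact c.AZ_comm hz _ (ComZ.self_mem hz) _ h7
  have hΔc : ∀ u ∈ Δ, ∀ v ∈ Δ, u * v = v * u := fun u hu v hv => c.tr z hz u hu.1 v hv.1 hu.2 hv.2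
  have hΔb : ∀ u ∈ Δ, u ≠ b * u * b⁻¹ := by
    intro u hu h6
    refine hmv u hu.1 hu.2 ?_
    calc u * b = (b * u * b⁻¹) * b := by rw [← h6]
      _ = b * u := by group
  obtain ⟨T, hT1, hT2, hT3⟩ := exists_transversal (Set.toFinite Δ).toFinset (fun u => b * u * b⁻¹)
    (by
      intro u _
      change b * (b * u * b⁻¹) * b⁻¹ = u
      calc b * (b * u * b⁻¹) * b⁻¹ = (b * b) * u * (b * b)⁻¹ := by group
        _ = u := by rw [hbb]; group)
    (by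
      intro u hu
      rw [Set.Finite.mem_toFinset] at hu
      exact (hΔb u hu).symm)
  have hTΔ : ∀ u ∈ T, u ∈ Δ := fun u hu => (Set.Finite.mem_toFinset _).1 (hT1 hu)
  -- `|X| = |Δ|`
  have hcard : Nat.card X = (Set.toFinite Δ).toFinset.card := by
    have h6 : X = (fun u => k * u * k⁻¹) '' Δ := by
      ext x
      constructor
      · rintro ⟨hx, hxz⟩
        refine ⟨k⁻¹ * x * k, ⟨?_, ?_⟩, by change k * (k⁻¹ * x * k) * k⁻¹ = x; group⟩
        · have := h.zz_cj hx k⁻¹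
          rwa [inv_inv] at this
        · have h7 : z = k⁻¹ * z' * k := by rw [hz']; group
          rw [h7]
          calc k⁻¹ * z' * k * (k⁻¹ * x * k) = k⁻¹ * (z' * x) * k := by group
            _ = k⁻¹ * (x * z') * k := by rw [hxz]
            _ = _ := by group
      · rintro ⟨u, ⟨hu, hzu⟩, rfl⟩
        refine ⟨h.zz_cj hu k, ?_⟩
        rw [hz']
        calc k * u * k⁻¹ * (k * z * k⁻¹) = k * (u * z) * k⁻¹ := by group
          _ = k * (z * u) * k⁻¹ := by rw [hzu]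
          _ = _ := by group
    rw [← Set.ncard_eq_toFinset_card Δ (Set.toFinite Δ)]
    change X.ncard = _
    rw [h6]
    exact Set.ncard_image_of_injective _ fun u v huv => mul_left_cancel (mul_right_cancel huv)
  -- the action
  obtain ⟨M', hM'⟩ : ∃ M', M' = normalizer (AZ (ZZ Om) z' : Set G) := ⟨_, rfl⟩
  rw [← hM'] at hcent
  have hX : ∀ g ∈ M', ∀ x ∈ X, g * x * g⁻¹ ∈ X := by
    rintro g hg x ⟨hx, hxz⟩
    refine ⟨h.zz_cj hx g, ?_⟩
    have h6 : x ∈ AZ (ZZ Om) z' := subset_closure ⟨hx, hxz.symm⟩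
    rw [hM'] at hg
    have h7 := (mem_normalizer_iff.1 hg _).1 h6
    exact c.AZ_comm hz'Z _ h7 _ (ComZ.self_mem hz'Z)
  let φ := actX M' X hX
  have hz'X : z' ∈ X := ⟨hz'Z, rfl⟩
  haveI : Nonempty X := ⟨⟨z', hz'X⟩⟩
  let Γ : Subgroup G := (S : Subgroup G) ⊓ centralizer {b}
  have hΓ : IsPGroup 2 Γ := S.isPGroup'.to_le inf_le_left
  let H : Subgroup (Equiv.Perm X) := (Γ.subgroupOf M').map φ
  have hH : IsPGroup 2 H := (hΓ.comap_subtype).map φ
  -- the elements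
  have hex : ∀ u : G, ∃ k k' : G, u ∈ ZZ Om → (k ∈ RR Om u ∧ k' ∈ RR Om u ∧ k * k' = u * (k' * k)) := by
    intro u
    by_cases hu : u ∈ ZZ Om
    · obtain ⟨K, hK⟩ := id hu
      obtain ⟨k, hk, hkk⟩ := h.exists_four hK.1
      obtain ⟨k', hk', hkk', hk1, hk2⟩ := h.exists_anti hK.1 hk hkk
      obtain ⟨h6, -⟩ := h.anti hK.1 hk hk' hkk hkk' hk1 hk2
      refine ⟨k, k', fun _ => ⟨le_RR hK hk, le_RR hK hk', ?_⟩⟩
      rw [h6, hK.2, ← mul_assoc, h.zz_sq hu, one_mul]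
    · exact ⟨1, 1, fun h6 => absurd h6 hu⟩
  choose κ κ' hκ using hex
  let P : G → G := fun u => κ u * (b * κ u * b⁻¹)
  let Q : G → G := fun u => κ' u * (b * κ' u * b⁻¹)
  -- they lie in `Γ`
  have hmem : ∀ u ∈ Δ, ∀ a ∈ RR Om u, a * (b * a * b⁻¹) ∈ Γ := by
    intro u hu a ha
    have h6 : a ∈ (S : Subgroup G) := h.RR_le hC h2 hN S hz hzS hu.2 ha
    refine Subgroup.mem_inf.2 ⟨mul_mem h6 (mul_mem (mul_mem hb h6) (inv_mem hb)), ?_⟩
    rw [mem_centralizer_singleton_iff]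
    have hbu := hΔ u hu
    have c1 := hC _ hbu.1 u hu.1 (hΔb u hu) (hΔc u hu _ hbu)
    have h7 := h.CP_RR c1 ha (h.RR_cj ha b)
    calc a * (b * a * b⁻¹) * b = (b * a * b⁻¹) * a * b := by rw [h7]
      _ = b * (a * (b⁻¹ * a * b)) := by group
      _ = b * (a * (b * a * b⁻¹)) := by rw [hbi]
  have hΓM : ∀ g ∈ Γ, g ∈ M' := fun g hg => hcent g hg.1 (mem_centralizer_singleton_iff.1 hg.2)
  have hPΓ : ∀ u ∈ T, P u ∈ Γ := fun u hu => hmem u (hTΔ u hu) _ (hκ u (hTΔ u hu).1).1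
  have hQΓ : ∀ u ∈ T, Q u ∈ Γ := fun u hu => hmem u (hTΔ u hu) _ (hκ u (hTΔ u hu).1).2.1
  let ψ : G → Equiv.Perm X := fun g => if hg : g ∈ M' then φ ⟨g, hg⟩ else 1
  have hψ : ∀ g (hg : g ∈ M'), ψ g = φ ⟨g, hg⟩ := fun g hg => dif_pos hg
  have hψm : ∀ g g', g ∈ M' → g' ∈ M' → g * g' = g' * g → ψ g * ψ g' = ψ g' * ψ g := by
    intro g g' hg hg' hgg
    rw [hψ g hg, hψ g' hg', ← map_mul, ← map_mul]
    exact congrArg φ (Subtype.ext hgg)
  have hψH : ∀ g ∈ Γ, ψ g ∈ H := fun g hg => by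
    rw [hψ g (hΓM g hg)]
    exact ⟨⟨g, hΓM g hg⟩, mem_subgroupOf.2 hg, rfl⟩
  have key := count H hH (fun u => ψ (P u)) (fun u => ψ (Q u)) T (fun u hu => hψH _ (hPΓ u hu))
    (fun u hu => hψH _ (hQΓ u hu)) ?_ ?_
  · rw [hcard] at key
    omega
  · intro u hu v hv huv
    have hu' := hTΔ u hu
    have hv' := hTΔ v hv
    have h6 : ∀ p ∈ ({u, b * u * b⁻¹} : Set G), ∀ q ∈ ({v, b * v * b⁻¹} : Set G), p ≠ q ∧ p * q = q * p := by
      rintro p (rfl | rfl) q (rfl | rfl)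
      · exact ⟨huv, hΔc _ hu' _ hv'⟩
      · exact ⟨fun h7 => hT2 v hv (by change b * v * b⁻¹ ∈ T; rw [← h7]; exact hu), hΔc _ hu' _ (hΔ v hv')⟩
      · exact ⟨fun h7 => hT2 u hu (by change b * u * b⁻¹ ∈ T; rw [h7]; exact hv), hΔc _ (hΔ u hu') _ hv'⟩
      · exact ⟨fun h7 => huv (mul_left_cancel (mul_right_cancel h7)), hΔc _ (hΔ u hu') _ (hΔ v hv')⟩
    have hPu := hΓM _ (hPΓ u hu)
    have hQu := hΓM _ (hQΓ u hu)
    have hPv := hΓM _ (hPΓ v hv)
    have hQv := hΓM _ (hQΓ v hv)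
    have k1 := (hκ u hu'.1).1
    have k2 := (hκ u hu'.1).2.1
    have k3 := (hκ v hv'.1).1
    have k4 := (hκ v hv'.1).2.1
    exact ⟨hψm _ _ hPu hPv (h.diag_comm hC hbb hu'.1 hv'.1 h6 k1 k3),
      hψm _ _ hPu hQv (h.diag_comm hC hbb hu'.1 hv'.1 h6 k1 k4),
      hψm _ _ hQu hPv (h.diag_comm hC hbb hu'.1 hv'.1 h6 k2 k3),
      hψm _ _ hQu hQv (h.diag_comm hC hbb hu'.1 hv'.1 h6 k2 k4)⟩
  · intro u hu heq
    have hu' := hTΔ u hu
    have hPu := hΓM _ (hPΓ u hu)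
    have hQu := hΓM _ (hQΓ u hu)
    obtain ⟨k1, k2, k3⟩ := hκ u hu'.1
    have hbu := hΔ u hu'
    have c1 := hC _ hbu.1 u hu'.1 (hΔb u hu') (hΔc u hu' _ hbu)
    -- `P Q = e Q P`
    obtain ⟨e, he⟩ : ∃ e, e = u * (b * u * b⁻¹) := ⟨_, rfl⟩
    have h6 : P u * Q u = e * (Q u * P u) := by
      change κ u * (b * κ u * b⁻¹) * (κ' u * (b * κ' u * b⁻¹)) = e * (κ' u * (b * κ' u * b⁻¹) * (κ u * (b * κ u * b⁻¹)))
      obtain ⟨α, hα⟩ : ∃ α, α = κ u := ⟨_, rfl⟩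
      obtain ⟨β, hβ⟩ : ∃ β, β = κ' u := ⟨_, rfl⟩
      rw [← hα, ← hβ] at k3
      rw [← hα] at k1
      rw [← hβ] at k2
      rw [← hα, ← hβ]
      have m1 : (b * α * b⁻¹) * β = β * (b * α * b⁻¹) := (h.CP_RR c1 k2 (h.RR_cj k1 b)).symm
      have m2 : (b * β * b⁻¹) * α = α * (b * β * b⁻¹) := (h.CP_RR c1 k1 (h.RR_cj k2 b)).symm
      have m3 : (b * u * b⁻¹) * (β * α) = (β * α) * (b * u * b⁻¹) :=
        (h.CP_RR c1 (mul_mem k2 k1) (h.RR_mem hbu.1)).symm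
      have m4 : (b * α * b⁻¹) * (b * β * b⁻¹) = (b * u * b⁻¹) * ((b * β * b⁻¹) * (b * α * b⁻¹)) := by
        calc (b * α * b⁻¹) * (b * β * b⁻¹) = b * (α * β) * b⁻¹ := by group
          _ = b * (u * (β * α)) * b⁻¹ := by rw [k3]
          _ = _ := by group
      calc α * (b * α * b⁻¹) * (β * (b * β * b⁻¹)) = α * ((b * α * b⁻¹) * β) * (b * β * b⁻¹) := by group
        _ = (α * β) * ((b * α * b⁻¹) * (b * β * b⁻¹)) := by rw [m1]; group
        _ = (u * (β * α)) * ((b * u * b⁻¹) * ((b * β * b⁻¹) * (b * α * b⁻¹))) := by rw [k3, m4]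
        _ = u * ((β * α) * (b * u * b⁻¹)) * ((b * β * b⁻¹) * (b * α * b⁻¹)) := by group
        _ = u * ((b * u * b⁻¹) * (β * α)) * ((b * β * b⁻¹) * (b * α * b⁻¹)) := by rw [m3]
        _ = (u * (b * u * b⁻¹)) * (β * (α * (b * β * b⁻¹)) * (b * α * b⁻¹)) := by group
        _ = (u * (b * u * b⁻¹)) * (β * ((b * β * b⁻¹) * α) * (b * α * b⁻¹)) := by rw [m2]
        _ = e * (β * (b * β * b⁻¹) * (α * (b * α * b⁻¹))) := by rw [he]; group
    have h7 : ψ (P u) * ψ (Q u) = ψ (Q u) * ψ (P u) := heq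
    rw [hψ _ hPu, hψ _ hQu, ← map_mul, ← map_mul] at h7
    have h8 := congrArg (fun σ : Equiv.Perm X => ((σ ⟨z', hz'X⟩ : X) : G)) h7
    have h9 : (P u * Q u) * z' * (P u * Q u)⁻¹ = (Q u * P u) * z' * (Q u * P u)⁻¹ := h8
    rw [h6] at h9
    -- `e` commutes with `y := (QP) z' (QP)⁻¹`, and with `QP`
    have m5 : e * (Q u * P u) = (Q u * P u) * e := by
      have n1 : ∀ a ∈ RR Om u, e * (a * (b * a * b⁻¹)) = (a * (b * a * b⁻¹)) * e := by
        intro a ha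
        have n2 := h.RR_cen ha
        have n3 := h.RR_cen (h.RR_cj ha b)
        have n4 := h.CP_RR c1 ha (h.RR_mem hbu.1)
        have n5 := h.CP_RR c1 (h.RR_mem hu'.1) (h.RR_cj ha b)
        have e1 : Commute u a := n2
        have e2 : Commute (b * u * b⁻¹) (b * a * b⁻¹) := n3
        have e3 : Commute (b * u * b⁻¹) a := n4.symm
        have e4 : Commute u (b * a * b⁻¹) := n5
        rw [he]
        exact ((e1.mul_right e4).mul_left (e3.mul_right e2)).eq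
      have e1 : Commute e (Q u) := n1 _ k2
      have e2 : Commute e (P u) := n1 _ k1
      exact (e1.mul_right e2).eq
    refine hcon u hu'.1 hu'.2 z' hz'Z rfl ?_
    rw [← he]
    have h10 : e * (Q u * P u) * z' * (e * (Q u * P u))⁻¹ = (Q u * P u) * (e * z' * e⁻¹) * (Q u * P u)⁻¹ := by
      rw [m5]; group
    rw [h10] at h9
    have h11 : e * z' * e⁻¹ = z' := mul_left_cancel (mul_right_cancel h9)
    rw [mul_inv_eq_iff_eq_mul] at h11
    exact h11.symm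

end WR

end Cfsg.Agent.Cit.Nil.RG
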