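import Cfsg.Agent.Cit.Nil.RG.Tri
import Mathlib.Data.Nat.Multiplicity

/-!
# (6b), general `r`: the count of the blueprint, (9.2) (after helper587's `ROne/Count`)

`Cn Om T b σ K ρ` : `σ` is a permutation of the nonempty finite type `α` of order two without fixed points, `K i`, `i : α`,
members of `Om`; `K i` commutes with `b (K i) b⁻¹`, and with `K j` and `b (K j) b⁻¹` if `j ≠ i, σ i`;
`b` does not centralise `zz (K i)`; the elements `k * b k b⁻¹`, `k ∈ K i`, are in `T`; `T` acts on `β`, `|β| = |α|`;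
the elements `z * b z b⁻¹`, `z = zz (K i)`, act nontrivially.

**`Cn.false`** : this is impossible. The kernel of `Π K i → Sym β`, `i` in a set of representatives, has at most `2 ^ k`
elements, `2 k = m = |α|`, the image is a 2-group with at least `4 ^ k` elements; but `2 ^ m` does not divide `m!`.
-/

set_option autoImplicit false
set_option linter.style.haveILetI false
set_option linter.unusedSectionVars false

namespace Cfsg.Agent.Cit.Nil.RG

open Subgroup Cfsg Cit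

variable {G : Type*} [Group G]

/-- see the head of the file -/
structure Cn {α β : Type*} (Om : Set (Subgroup G)) (T : Subgroup G) (b : G) (σ : α → α) (K : α → Subgroup G)
    (ρ : T →* Equiv.Perm β) : Prop where
  h : WR Om
  mem : ∀ i, K i ∈ Om
  inv : ∀ i, σ (σ i) = i
  ne : ∀ i, σ i ≠ i
  c0 : ∀ i, ∀ x ∈ K i, ∀ y ∈ K i, x * (b * y * b⁻¹) = b * y * b⁻¹ * x
  c1 : ∀ i j, i ≠ j → σ i ≠ j → ∀ x ∈ K i, ∀ y ∈ K j, x * y = y * x
  c2 : ∀ i j, i ≠ j → σ i ≠ j → ∀ x ∈ K i, ∀ y ∈ K j, x * (b * y * b⁻¹) = b * y * b⁻¹ * x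
  mv : ∀ i, b * zz (K i) * b⁻¹ ≠ zz (K i)
  le : ∀ i, ∀ k ∈ K i, k * (b * k * b⁻¹) ∈ T
  card : Nat.card β = Nat.card α
  fx : ∀ x : T, ∀ i, (x : G) = zz (K i) * (b * zz (K i) * b⁻¹) → ρ x ≠ 1

namespace Cn

variable [Finite G] {α β : Type*} [Finite α] {Om : Set (Subgroup G)} {T : Subgroup G} {b : G} {σ : α → α}
  {K : α → Subgroup G} {ρ : T →* Equiv.Perm β}

/-- the homomorphism `k ↦ k * b k b⁻¹` -/
def ph (c : Cn Om T b σ K ρ) (i : α) : ↥(K i) →* G where
  toFun k := k * (b * k * b⁻¹)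
  map_one' := by simp
  map_mul' x y := by
    have h1 := (c.c0 i y y.2 x x.2).symm
    change (x : G) * y * (b * (x * y) * b⁻¹) = x * (b * x * b⁻¹) * (y * (b * y * b⁻¹))
    calc (x : G) * y * (b * (x * y) * b⁻¹) = x * (y * (b * x * b⁻¹)) * (b * y * b⁻¹) := by group
      _ = x * ((b * x * b⁻¹) * y) * (b * y * b⁻¹) := by rw [h1]
      _ = _ := by group

theorem ph_apply (c : Cn Om T b σ K ρ) (i : α) (k : K i) : c.ph i k = k * (b * k * b⁻¹) := rfl

theorem ph_comm (c : Cn Om T b σ K ρ) {i j : α} (h1 : i ≠ j) (h2 : σ i ≠ j) (x : K i) (y : K j) :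
    Commute (c.ph i x) (c.ph j y) := by
  have h3 : σ j ≠ i := fun e => h2 (by rw [← e, c.inv])
  have c1 : Commute (x : G) y := c.c1 i j h1 h2 x x.2 y y.2
  have c2 : Commute (x : G) (b * y * b⁻¹) := c.c2 i j h1 h2 x x.2 y y.2
  have c3 : Commute (b * x * b⁻¹) (y : G) := (c.c2 j i h1.symm h3 y y.2 x x.2).symm
  have c4 : Commute (b * x * b⁻¹) (b * y * b⁻¹) := by
    have e : (x : G) * y = y * x := c1
    change b * x * b⁻¹ * (b * y * b⁻¹) = b * y * b⁻¹ * (b * x * b⁻¹)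
    calc b * x * b⁻¹ * (b * y * b⁻¹) = b * (x * y) * b⁻¹ := by group
      _ = b * (y * x) * b⁻¹ := by rw [e]
      _ = _ := by group
  exact (c1.mul_right c2).mul_left (c3.mul_right c4)

theorem ph_injective (c : Cn Om T b σ K ρ) (i : α) : Function.Injective (c.ph i) := by
  rw [injective_iff_map_eq_one]
  intro k hk
  rw [c.ph_apply] at hk
  have h1 : b * k * b⁻¹ = (k : G)⁻¹ := (inv_eq_of_mul_eq_one_right hk).symm
  have h3 : ∀ y ∈ K i, (k : G)⁻¹ * y = y * (k : G)⁻¹ := fun y hy => by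
    rw [← h1]; exact (c.c0 i y hy k k.2).symm
  rcases c.h.central (c.mem i) (inv_mem k.2) h3 with h4 | h4
  · exact Subtype.ext (inv_eq_one.1 h4)
  · exfalso
    have hzi : (zz (K i))⁻¹ = zz (K i) := inv_eq_of_mul_eq_one_right (c.h.zs (c.mem i))
    have h5 : (k : G) = zz (K i) := by rw [← inv_inv (k : G), h4, hzi]
    rw [h5, hzi] at h1
    exact c.mv i h1

/-! ### The representatives -/

/-- representatives of the orbits of `σ` -/
def Rp (_ : Cn Om T b σ K ρ) : Type _ := {i : α // Finite.equivFin _ i < Finite.equivFin _ (σ i)}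

instance (c : Cn Om T b σ K ρ) : Finite c.Rp :=
  inferInstanceAs (Finite {i : α // Finite.equivFin _ i < Finite.equivFin _ (σ i)})

theorem card_le (c : Cn Om T b σ K ρ) : Nat.card α ≤ 2 * Nat.card c.Rp := by
  have h1 : Function.Surjective (fun x : c.Rp × Bool => if x.2 then x.1.1 else σ x.1.1) := by
    intro i
    rcases lt_trichotomy (Finite.equivFin _ i) (Finite.equivFin _ (σ i)) with h2 | h2 | h2
    · exact ⟨(⟨i, h2⟩, true), rfl⟩
    · exact absurd ((Finite.equivFin _).injective h2).symm (c.ne i)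
    · refine ⟨(⟨σ i, by rw [c.inv]; exact h2⟩, false), ?_⟩
      change σ (σ i) = i
      exact c.inv i
  have h2 := Nat.card_le_card_of_surjective _ h1
  rw [Nat.card_prod, Nat.card_eq_fintype_card (α := Bool), Fintype.card_bool] at h2
  omega

theorem Rp.ne (c : Cn Om T b σ K ρ) {i j : c.Rp} (hij : i ≠ j) : i.1 ≠ j.1 := fun e => hij (Subtype.ext e)

theorem Rp.ne' (c : Cn Om T b σ K ρ) (i j : c.Rp) : σ i.1 ≠ j.1 := by
  intro e
  have h2 := i.2
  have h3 := j.2
  rw [← e, c.inv] at h3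
  exact lt_asymm h2 h3

theorem pairwise (c : Cn Om T b σ K ρ) : Pairwise fun i j : c.Rp => ∀ (x : K i.1) (y : K j.1),
    Commute (c.ph i.1 x) (c.ph j.1 y) := fun i j hij x y => c.ph_comm (Rp.ne c hij) (Rp.ne' c i j) x y

noncomputable instance (c : Cn Om T b σ K ρ) : Fintype c.Rp := Fintype.ofFinite _

/-- the homomorphism `(k_i) ↦ ∏ k_i * b k_i b⁻¹` -/
noncomputable def Ph (c : Cn Om T b σ K ρ) : ((i : c.Rp) → K i.1) →* G :=
  MonoidHom.noncommPiCoprod (fun i => c.ph i.1) c.pairwise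

theorem Ph_mem (c : Cn Om T b σ K ρ) (H : Subgroup G) (f : (i : c.Rp) → K i.1)
    (hf : ∀ i, c.ph i.1 (f i) ∈ H) : c.Ph f ∈ H := by
  rw [Ph, MonoidHom.noncommPiCoprod_apply]
  exact Subgroup.noncommProd_mem H _ fun i _ => hf i

theorem Ph_mem_T (c : Cn Om T b σ K ρ) (f : (i : c.Rp) → K i.1) : c.Ph f ∈ T :=
  c.Ph_mem _ _ fun i => c.le _ _ (f i).2

/-- the action of `Π K i` on `β` -/
noncomputable def ta (c : Cn Om T b σ K ρ) : ((i : c.Rp) → K i.1) →* Equiv.Perm β :=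
  ρ.comp (c.Ph.codRestrict T c.Ph_mem_T)

open Classical in
/-- the kernel -/
theorem eq_of_ta (c : Cn Om T b σ K ρ) {f : (i : c.Rp) → K i.1} (hf : c.ta f = 1) (j : c.Rp) :
    (f j : G) = 1 ∨ (f j : G) = zz (K j.1) := by
  refine c.h.central (c.mem j.1) (f j).2 fun y hy => ?_
  -- the commutator
  obtain ⟨l, hl⟩ : ∃ l : K j.1, l = f j * ⟨y, hy⟩ * (f j)⁻¹ * ⟨y, hy⟩⁻¹ := ⟨_, rfl⟩
  have h1 : f * Pi.mulSingle j ⟨y, hy⟩ * f⁻¹ * (Pi.mulSingle j ⟨y, hy⟩)⁻¹ = Pi.mulSingle j l := by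
    funext i
    by_cases hij : i = j
    · subst hij
      simp [hl]
    · simp [hij]
  have h2 : c.ta (Pi.mulSingle j l) = 1 := by
    rw [← h1, map_mul, map_mul, map_mul, hf, one_mul, map_inv, map_inv, hf, inv_one, mul_one, mul_inv_cancel]
  have h3 : c.Ph (Pi.mulSingle j l) = c.ph j.1 l :=
    MonoidHom.noncommPiCoprod_mulSingle (ϕ := fun i : c.Rp => c.ph i.1) (hcomm := c.pairwise) j l
  have h4 : (l : G) = 1 ∨ (l : G) = zz (K j.1) := by
    have h5 := c.h.conj_cases (c.mem j.1) (f j).2 hy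
    have h6 : (l : G) = (f j : G) * y * (f j : G)⁻¹ * y⁻¹ := by rw [hl]; rfl
    rcases h5 with h5 | h5
    · left; rw [h6, h5, mul_inv_cancel]
    · right; rw [h6, h5, mul_inv_cancel_right]
  rcases h4 with h4 | h4
  · have h6 : (l : G) = (f j : G) * y * (f j : G)⁻¹ * y⁻¹ := by rw [hl]; rfl
    rw [h6] at h4
    exact mul_inv_eq_iff_eq_mul.1 (mul_inv_eq_one.1 h4)
  · exfalso
    refine c.fx ⟨c.Ph (Pi.mulSingle j l), c.Ph_mem_T _⟩ j.1 ?_ h2
    change c.Ph (Pi.mulSingle j l) = _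
    rw [h3, c.ph_apply, h4]

/-- the order of the kernel -/
theorem card_ker_le (c : Cn Om T b σ K ρ) : Nat.card c.ta.ker ≤ 2 ^ Nat.card c.Rp := by
  classical
  have h1 : Function.Injective (fun (f : c.ta.ker) (i : c.Rp) => decide (f.1 i = 1)) := by
    intro f g hfg
    refine Subtype.ext (funext fun i => ?_)
    have hf := c.eq_of_ta ((MonoidHom.mem_ker).1 f.2) i
    have hg := c.eq_of_ta ((MonoidHom.mem_ker).1 g.2) i
    have h2 := congrFun hfg i
    simp only [decide_eq_decide] at h2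
    rcases hf with hf | hf
    · have h3 : f.1 i = 1 := Subtype.ext hf
      rw [h3, h2.1 h3]
    · rcases hg with hg | hg
      · have h3 : g.1 i = 1 := Subtype.ext hg
        rw [h3, h2.2 h3]
      · exact Subtype.ext (hf.trans hg.symm)
  refine (Nat.card_le_card_of_injective _ h1).trans ?_
  rw [Nat.card_fun, Nat.card_eq_fintype_card (α := Bool), Fintype.card_bool]

theorem card_pi (c : Cn Om T b σ K ρ) : Nat.card ((i : c.Rp) → K i.1) = 8 ^ Nat.card c.Rp := by
  rw [Nat.card_pi, Finset.prod_congr rfl (fun (i : c.Rp) _ => c.h.card (c.mem i.1)), Finset.prod_const,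
    Finset.card_univ, Nat.card_eq_fintype_card]

theorem isPGroup_range (c : Cn Om T b σ K ρ) : IsPGroup 2 c.ta.range := by
  haveI : Fact (Nat.Prime 2) := ⟨Nat.prime_two⟩
  have h1 : IsPGroup 2 ((i : c.Rp) → K i.1) := by
    refine IsPGroup.of_card (n := 3 * Nat.card c.Rp) ?_
    rw [c.card_pi, pow_mul]
    norm_num
  exact h1.of_surjective c.ta.rangeRestrict c.ta.rangeRestrict_surjective

/-- `2 ^ m` divides the order of the image -/
theorem two_pow_dvd (c : Cn Om T b σ K ρ) : 2 ^ Nat.card α ∣ Nat.card c.ta.range := by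
  classical
  have h1 : Nat.card ((i : c.Rp) → K i.1) = Nat.card c.ta.ker * Nat.card c.ta.range := by
    rw [← Subgroup.card_mul_index c.ta.ker, Subgroup.index_ker]
  have h2 : 8 ^ Nat.card c.Rp ≤ Nat.card ((i : c.Rp) → K i.1) := c.card_pi.ge
  have h3 := c.card_ker_le
  haveI : Finite c.ta.range := Finite.of_surjective c.ta.rangeRestrict c.ta.rangeRestrict_surjective
  obtain ⟨e, he⟩ := IsPGroup.iff_card.1 c.isPGroup_range
  rw [he]
  refine pow_dvd_pow 2 ?_
  by_contra hlt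
  rw [not_le] at hlt
  have h4 := c.card_le
  have h5 : 2 ^ e < 4 ^ Nat.card c.Rp := by
    have h6 : (4 : ℕ) ^ Nat.card c.Rp = 2 ^ (2 * Nat.card c.Rp) := by rw [pow_mul]; norm_num
    rw [h6]
    exact Nat.pow_lt_pow_right (by norm_num) (by omega)
  rw [h1, he] at h2
  have h7 : (8 : ℕ) ^ Nat.card c.Rp = 2 ^ Nat.card c.Rp * 4 ^ Nat.card c.Rp := by rw [← mul_pow]; norm_num
  rw [h7] at h2
  have h8 : 0 < 2 ^ Nat.card c.Rp := by positivity
  have h9 : Nat.card c.ta.ker * 2 ^ e < 2 ^ Nat.card c.Rp * 4 ^ Nat.card c.Rp := by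
    calc Nat.card c.ta.ker * 2 ^ e ≤ 2 ^ Nat.card c.Rp * 2 ^ e := Nat.mul_le_mul_right _ h3
      _ < 2 ^ Nat.card c.Rp * 4 ^ Nat.card c.Rp := Nat.mul_lt_mul_of_pos_left h5 h8
  exact absurd h2 (not_le.2 h9)

/-- **the count** -/
protected theorem false [Nonempty α] (c : Cn Om T b σ K ρ) : False := by
  have hm : Nat.card α ≠ 0 := Nat.card_pos.ne'
  haveI : Finite β := by
    have h1 : Nat.card β ≠ 0 := by rw [c.card]; exact hm
    exact (Nat.card_pos_iff.1 (Nat.pos_of_ne_zero h1)).2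
  have h1 : Nat.card c.ta.range ∣ Nat.card (Equiv.Perm β) := Subgroup.card_subgroup_dvd_card _
  rw [Nat.card_perm, c.card] at h1
  have h2 := c.two_pow_dvd.trans h1
  have h3 := Nat.emultiplicity_two_factorial_lt hm
  exact absurd (le_emultiplicity_of_pow_dvd h2) (not_le.2 h3)

end Cn

end Cfsg.Agent.Cit.Nil.RG
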