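import Cfsg.Agent.Cit.Nil.RG.Tri

/-!
# (6b), general `r`: free elements (helper488)

`x` an involution commuting with `z`, free on the members over `z` (`Fr Om x z`).

* `surj` : `v ∈ R_z`, `x v x⁻¹ ∈ {v, zv}`: `x` inverts `v`, and `v` or `zv` is `[x, r]`, `r ∈ R_z`.
-/

set_option autoImplicit false
set_option linter.style.haveILetI false
set_option linter.unusedSectionVars false

namespace Cfsg.Agent.Cit.Nil.RG

open Subgroup Cfsg Cit QuaternionGroup
open Cfsg.Agent.Cit.Nil.ROne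

variable {G : Type*} [Group G]

/-- the conclusion of `surj` -/
def Gd (x z : G) (𝒦 : Set (Subgroup G)) (v : G) : Prop :=
  x * v * x⁻¹ = v⁻¹ ∧ ∃ r ∈ SS 𝒦, x * r * x⁻¹ * r⁻¹ = v ∨ x * r * x⁻¹ * r⁻¹ = z * v

namespace WR

variable {Om : Set (Subgroup G)} {𝒦 𝒦' : Set (Subgroup G)} {K L M : Subgroup G} {z x y g g' u v w a a' b k r s t : G}

/-! ### Commutators `[x, r] = x r x⁻¹ r⁻¹` -/

theorem com_mul (hc : r * (x * s * x⁻¹ * s⁻¹) = x * s * x⁻¹ * s⁻¹ * r) :
    x * (r * s) * x⁻¹ * (r * s)⁻¹ = (x * r * x⁻¹ * r⁻¹) * (x * s * x⁻¹ * s⁻¹) := by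
  calc x * (r * s) * x⁻¹ * (r * s)⁻¹ = x * r * x⁻¹ * (x * s * x⁻¹ * s⁻¹) * r⁻¹ := by group
    _ = x * r * x⁻¹ * r⁻¹ * (r * (x * s * x⁻¹ * s⁻¹)) * r⁻¹ := by group
    _ = x * r * x⁻¹ * r⁻¹ * (x * s * x⁻¹ * s⁻¹ * r) * r⁻¹ := by rw [hc]
    _ = _ := by group

/-- `r x r⁻¹ = x [x, r]` for an involution `x` -/
theorem conj_eq (hx : x * x = 1) : r * x * r⁻¹ = x * (x * r * x⁻¹ * r⁻¹) := by
  have h1 : x⁻¹ = x := inv_eq_of_mul_eq_one_right hx
  calc r * x * r⁻¹ = 1 * r * x * r⁻¹ := by group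
    _ = (x * x) * r * x * r⁻¹ := by rw [hx]
    _ = x * (x * r * x * r⁻¹) := by group
    _ = _ := by rw [h1]

section

variable (h : WR Om)

include h

/-- a fixed member -/
theorem fix_one (hK : K ∈ Ov Om z) (hx : x * x = 1) (hc : cj x K = K) (hn : ¬ Inn x K) (hk : k ∈ K)
    (hkk : x * k * x⁻¹ = k ∨ x * k * x⁻¹ = z * k) :
    x * k * x⁻¹ = k⁻¹ ∧ ∃ r ∈ K, x * r * x⁻¹ * r⁻¹ = k ∨ x * r * x⁻¹ * r⁻¹ = z * k := by
  rcases h.inn_or_tr hK.1 hc hx with h1 | ⟨a, ha⟩
  · exact absurd h1 hn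
  have hz := Ov_zz hK
  have hzz := h.zz_sq hz
  have hxz : x * z * x⁻¹ = z := by
    have h1 := h.zcj hK.1 x
    rw [hc, hK.2] at h1
    exact h1.symm
  by_cases k1 : k = 1
  · subst k1
    exact ⟨by group, 1, one_mem K, Or.inl (by group)⟩
  by_cases k2 : k = z
  · subst k2
    refine ⟨by rw [hxz, h.zz_inv hz], 1, one_mem K, Or.inr ?_⟩
    rw [hzz]; group
  have hkq : k * k = zz K := h.sq_eq hK.1 hk k1 (by rw [hK.2]; exact k2)
  have hki : k⁻¹ = z * k := by rw [h.inv_eq hK.1 hk hkq, hK.2]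
  have hka : k = a ∨ k = a⁻¹ := by
    by_contra hcon
    push Not at hcon
    have h2 := ha.ne k hk hkq hcon.1 hcon.2
    rcases hkk with h3 | h3
    · exact h2.1 h3
    · exact h2.2 (by rw [hki]; exact h3)
  have hai : a⁻¹ = z * a := by rw [h.inv_eq hK.1 ha.mem ha.sq, hK.2]
  have hxi : x * a⁻¹ * x⁻¹ = a := by
    have h5 : x * a⁻¹ * x⁻¹ = (x * a * x⁻¹)⁻¹ := by group
    rw [h5, ha.inv, inv_inv]
  obtain ⟨b, hb, hbb, hb1, hb2⟩ := h.exists_anti hK.1 ha.mem ha.sq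
  have h6 := ha.com b hb hbb hb1 hb2
  rcases hka with rfl | rfl
  · refine ⟨ha.inv, b, hb, ?_⟩
    rcases h6 with h6 | h6
    · exact Or.inl h6
    · exact Or.inr (by rw [h6, hai])
  · refine ⟨by rw [inv_inv]; exact hxi, b, hb, ?_⟩
    rcases h6 with h6 | h6
    · right; rw [h6, hai, ← mul_assoc, hzz, one_mul]
    · exact Or.inl h6

/-- members of the orbit commute -/
theorem swap_comm (hK : K ∈ Ov Om z) (hxz : x * z = z * x) (hc : cj x K ≠ K) (hk : k ∈ K) (hl : a ∈ K) :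
    (x * k * x⁻¹) * a = a * (x * k * x⁻¹) :=
  h.Ov_comm (h.Ov_cj' hK hxz) hK hc (conj_mem_cj hk) hl

theorem inv_or (hK : K ∈ Ov Om z) (hk : k ∈ K) : k⁻¹ = k ∨ k⁻¹ = z * k := by
  rcases h.sq hK.1 hk with h1 | h1
  · left; exact inv_eq_of_mul_eq_one_right h1
  · right; rw [h.inv_eq hK.1 hk h1, hK.2]

/-- a moved member -/
theorem swap_one (hK : K ∈ Ov Om z) (hx : x * x = 1) (hxz : x * z = z * x) (hc : cj x K ≠ K) (hk : k ∈ K) :
    x * (k * (x * k * x⁻¹)) * x⁻¹ = (k * (x * k * x⁻¹))⁻¹ ∧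
      (x * k * x⁻¹ * k⁻¹ = k * (x * k * x⁻¹) ∨ x * k * x⁻¹ * k⁻¹ = z * (k * (x * k * x⁻¹))) := by
  have hz := Ov_zz hK
  have hzz := h.zz_sq hz
  have hcom := h.swap_comm hK hxz hc hk hk
  have hxi : x⁻¹ = x := inv_eq_of_mul_eq_one_right hx
  have h1 : x * (x * k * x⁻¹) * x⁻¹ = k := by
    calc x * (x * k * x⁻¹) * x⁻¹ = (x * x) * k * (x * x)⁻¹ := by group
      _ = k := by rw [hx]; group
  have h2 : x * (k * (x * k * x⁻¹)) * x⁻¹ = k * (x * k * x⁻¹) := by
    calc x * (k * (x * k * x⁻¹)) * x⁻¹ = (x * k * x⁻¹) * (x * (x * k * x⁻¹) * x⁻¹) := by group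
      _ = (x * k * x⁻¹) * k := by rw [h1]
      _ = _ := hcom
  have h3 : (k * (x * k * x⁻¹))⁻¹ = k * (x * k * x⁻¹) := by
    have h4 : (k * (x * k * x⁻¹))⁻¹ = (x * k⁻¹ * x⁻¹) * k⁻¹ := by group
    rw [h4]
    rcases h.inv_or hK hk with h5 | h5
    · rw [h5]; exact hcom
    · rw [h5]
      calc x * (z * k) * x⁻¹ * (z * k) = (x * z) * k * x⁻¹ * (z * k) := by group
        _ = (z * x) * k * x⁻¹ * (z * k) := by rw [hxz]
        _ = z * ((x * k * x⁻¹) * z) * k := by group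
        _ = z * (z * (x * k * x⁻¹)) * k := by
          rw [h.Ov_cen (h.Ov_cj' hK hxz) (conj_mem_cj (g := x) hk)]
        _ = (z * z) * ((x * k * x⁻¹) * k) := by group
        _ = k * (x * k * x⁻¹) := by rw [hzz, one_mul, hcom]
  refine ⟨by rw [h2, h3], ?_⟩
  rcases h.inv_or hK hk with h5 | h5
  · left; rw [h5]; exact hcom
  · right
    rw [h5]
    calc x * k * x⁻¹ * (z * k) = ((x * k * x⁻¹) * z) * k := by group
      _ = (z * (x * k * x⁻¹)) * k := by
        rw [h.Ov_cen (h.Ov_cj' hK hxz) (conj_mem_cj (g := x) hk)]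
      _ = z * ((x * k * x⁻¹) * k) := by group
      _ = _ := by rw [hcom]

/-- products -/
theorem Gd_mul (hzz : z * z = 1) (hrw : ∀ r ∈ SS 𝒦, ∀ w ∈ SS 𝒦', r * w = w * r)
    (hzr : ∀ r ∈ SS 𝒦, z * r = r * z)
    (hu : u ∈ SS 𝒦) (hw : w ∈ SS 𝒦') (hxw : ∀ s ∈ SS 𝒦', x * s * x⁻¹ ∈ SS 𝒦')
    (g1 : Gd x z 𝒦 u) (g2 : Gd x z 𝒦' w) : Gd x z (𝒦 ∪ 𝒦') (u * w) := by
  obtain ⟨h1, r, hr, h2⟩ := g1
  obtain ⟨h3, s, hs, h4⟩ := g2
  refine ⟨?_, r * s, mul_mem (SS_mono Set.subset_union_left hr) (SS_mono Set.subset_union_right hs), ?_⟩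
  · calc x * (u * w) * x⁻¹ = (x * u * x⁻¹) * (x * w * x⁻¹) := by group
      _ = u⁻¹ * w⁻¹ := by rw [h1, h3]
      _ = (w * u)⁻¹ := by group
      _ = (u * w)⁻¹ := by rw [hrw u hu w hw]
  · rw [com_mul (hrw r hr _ (mul_mem (hxw s hs) (inv_mem hs)))]
    have h5 : u * (z * w) = z * (u * w) := by
      rw [← mul_assoc, ← hzr u hu, mul_assoc]
    rcases h2 with h2 | h2 <;> rcases h4 with h4 | h4 <;> rw [h2, h4]
    · exact Or.inl rfl
    · right; exact h5
    · right; rw [mul_assoc]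
    · left
      calc z * u * (z * w) = z * (u * (z * w)) := by group
        _ = z * (z * (u * w)) := by rw [h5]
        _ = (z * z) * (u * w) := by group
        _ = u * w := by rw [hzz, one_mul]

/-- **SURJ** for an invariant set of members -/
theorem surj_aux [Finite G] (hz : z ∈ ZZ Om) (hx : x * x = 1) (hxz : x * z = z * x) (hf : Fr Om x z) :
    ∀ (n : ℕ) (𝒦 : Set (Subgroup G)), 𝒦.ncard = n → 𝒦 ⊆ Ov Om z → (∀ K ∈ 𝒦, cj x K ∈ 𝒦) → ∀ v ∈ SS 𝒦,
      (x * v * x⁻¹ = v ∨ x * v * x⁻¹ = z * v) → Gd x z 𝒦 v := by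
  have hzz := h.zz_sq hz
  have hxx : ∀ K : Subgroup G, cj x (cj x K) = K := fun K => by rw [← cj_mul, hx, cj_one]
  intro n
  induction n using Nat.strong_induction_on with
  | _ n ih =>
    intro 𝒦 hn h𝒦 hinv v hv hvv
    by_cases he : 𝒦 = ∅
    · subst he
      rw [SS_empty, mem_bot] at hv
      subst hv
      exact ⟨by group, 1, one_mem _, Or.inl (by group)⟩
    obtain ⟨K, hK⟩ := Set.nonempty_iff_ne_empty.2 he
    have hKz := h𝒦 hK
    obtain ⟨k, hk, w, hw, rfl, hcw⟩ := h.SS_split h𝒦 hK hv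
    have hcK : ∀ l ∈ K, z * l = l * z := fun l hl => h.Ov_cen hKz hl
    by_cases hc : cj x K = K
    · -- `x` fixes `K`
      have hinv' : ∀ L ∈ 𝒦 \ {K}, cj x L ∈ 𝒦 \ {K} := by
        intro L hL
        refine ⟨hinv L hL.1, fun h1 => hL.2 ?_⟩
        rw [Set.mem_singleton_iff] at h1 ⊢
        rw [← hc] at h1
        exact cj_inj.1 h1
      have hcard : (𝒦 \ {K}).ncard < n := by
        rw [← hn]; exact Set.ncard_sdiff_singleton_lt_of_mem hK (Set.toFinite 𝒦)
      have hxw : x * w * x⁻¹ ∈ SS (𝒦 \ {K}) := SS_cj_le hinv' hw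
      have hcS : ∀ w ∈ SS (𝒦 \ {K}), ∀ l ∈ K, w * l = l * w := by
        intro w hw l hl
        refine (SS_comm (x := l) (fun L hL k hk => ?_) hw).symm
        exact h.Ov_comm hKz (h𝒦 hL.1) (fun h1 => hL.2 h1.symm) hl hk
      have hxk : x * k * x⁻¹ ∈ K := conj_mem_of_cj hc hk
      -- `k⁻¹ · x k x⁻¹` is central in `K`
      have h1 : k⁻¹ * (x * k * x⁻¹) = w * (x * w * x⁻¹)⁻¹ ∨ k⁻¹ * (x * k * x⁻¹) = z * (w * (x * w * x⁻¹)⁻¹) := by
        have h2 : x * (k * w) * x⁻¹ = (x * k * x⁻¹) * (x * w * x⁻¹) := by group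
        rw [h2] at hvv
        rcases hvv with h3 | h3
        · left
          calc k⁻¹ * (x * k * x⁻¹) = k⁻¹ * ((x * k * x⁻¹) * (x * w * x⁻¹)) * (x * w * x⁻¹)⁻¹ := by group
            _ = k⁻¹ * (k * w) * (x * w * x⁻¹)⁻¹ := by rw [h3]
            _ = _ := by group
        · right
          calc k⁻¹ * (x * k * x⁻¹) = k⁻¹ * ((x * k * x⁻¹) * (x * w * x⁻¹)) * (x * w * x⁻¹)⁻¹ := by group
            _ = k⁻¹ * (z * (k * w)) * (x * w * x⁻¹)⁻¹ := by rw [h3]
            _ = k⁻¹ * (z * k) * w * (x * w * x⁻¹)⁻¹ := by group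
            _ = k⁻¹ * (k * z) * w * (x * w * x⁻¹)⁻¹ := by rw [hcK k hk]
            _ = _ := by group
      have hws : w * (x * w * x⁻¹)⁻¹ ∈ SS (𝒦 \ {K}) := mul_mem hw (inv_mem hxw)
      have h2 : k⁻¹ * (x * k * x⁻¹) = 1 ∨ k⁻¹ * (x * k * x⁻¹) = z := by
        refine h.Ov_central hKz (mul_mem (inv_mem hk) hxk) fun l hl => ?_
        have h3 := hcS _ hws l hl
        rcases h1 with h1 | h1
        · rw [h1, h3]
        · rw [h1, mul_assoc, h3, ← mul_assoc, hcK l hl, mul_assoc, ← mul_assoc]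
      have hk2 : x * k * x⁻¹ = k ∨ x * k * x⁻¹ = z * k := by
        rcases h2 with h2 | h2
        · left; rw [inv_mul_eq_one] at h2; exact h2.symm
        · right; rw [inv_mul_eq_iff_eq_mul] at h2; rw [h2, hcK k hk]
      have hw2 : x * w * x⁻¹ = w ∨ x * w * x⁻¹ = z * w := by
        have h4 : w * (x * w * x⁻¹)⁻¹ = 1 ∨ w * (x * w * x⁻¹)⁻¹ = z := by
          rcases h1 with h1 | h1
          · rwa [h1] at h2
          · rw [h1] at h2
            rcases h2 with h2 | h2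
            · right
              rw [← h.zz_inv hz]
              exact eq_inv_of_mul_eq_one_right h2
            · left
              exact mul_eq_left.1 h2
        rcases h4 with h4 | h4
        · left; rw [mul_inv_eq_one] at h4; exact h4.symm
        · right
          rw [mul_inv_eq_iff_eq_mul] at h4
          have h6 : z * (z * (x * w * x⁻¹)) = x * w * x⁻¹ := by rw [← mul_assoc, hzz, one_mul]
          calc x * w * x⁻¹ = z * (z * (x * w * x⁻¹)) := h6.symm
            _ = z * w := by rw [← h4]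
      obtain ⟨h5, r0, hr0, h6⟩ := h.fix_one hKz hx hc (hf K hKz hc) hk hk2
      have g1 : Gd x z {K} k := ⟨h5, r0, mem_SS_of rfl hr0, h6⟩
      have g2 := ih _ hcard (𝒦 \ {K}) rfl (Set.sdiff_subset.trans h𝒦) hinv' w hw hw2
      have hS1 : SS {K} ≤ K := SS_le fun L hL => by rw [Set.mem_singleton_iff.1 hL]
      have g3 := h.Gd_mul hzz (fun r hr w hw => (hcS w hw r (hS1 hr)).symm) (fun r hr => hcK r (hS1 hr))
        (mem_SS_of rfl hk) hw (fun s hs => SS_cj_le hinv' hs) g1 g2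
      rwa [Set.singleton_union, Set.insert_sdiff_singleton, Set.insert_eq_of_mem hK] at g3
    · -- `x` moves `K`
      obtain ⟨K', hK'⟩ : ∃ K', K' = cj x K := ⟨_, rfl⟩
      have hK'm : K' ∈ 𝒦 := by rw [hK']; exact hinv K hK
      have hK'n : K' ∈ 𝒦 \ {K} := ⟨hK'm, by rw [hK']; exact hc⟩
      have hK'z := h𝒦 hK'm
      have hxK' : cj x K' = K := by rw [hK', hxx]
      obtain ⟨k', hk', w', hw', rfl, hcw'⟩ := h.SS_split (𝒦 := 𝒦 \ {K}) (Set.sdiff_subset.trans h𝒦) hK'n hw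
      obtain ⟨𝒥, h𝒥⟩ : ∃ 𝒥, 𝒥 = (𝒦 \ {K}) \ {K'} := ⟨_, rfl⟩
      rw [← h𝒥] at hw'
      have h𝒥s : 𝒥 ⊆ 𝒦 := by rw [h𝒥]; exact Set.sdiff_subset.trans Set.sdiff_subset
      have hinv' : ∀ L ∈ 𝒥, cj x L ∈ 𝒥 := by
        intro L hL
        rw [h𝒥] at hL ⊢
        refine ⟨⟨hinv L hL.1.1, fun h1 => hL.2 ?_⟩, fun h1 => hL.1.2 ?_⟩
        · rw [Set.mem_singleton_iff] at h1 ⊢
          rw [← hxK'] at h1
          exact cj_inj.1 h1
        · rw [Set.mem_singleton_iff] at h1 ⊢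
          rw [hK'] at h1
          exact cj_inj.1 h1
      have hcard : 𝒥.ncard < n := by
        rw [← hn]
        refine Set.ncard_lt_ncard ⟨h𝒥s, fun h1 => ?_⟩ (Set.toFinite 𝒦)
        have h2 := h1 hK
        rw [h𝒥] at h2
        exact h2.1.2 rfl
      have hxw : x * w' * x⁻¹ ∈ SS 𝒥 := SS_cj_le hinv' hw'
      have hcS : ∀ w ∈ SS 𝒥, ∀ l ∈ K, w * l = l * w := by
        intro w hw l hl
        refine (SS_comm (x := l) (fun L hL k hk => ?_) hw).symm
        refine h.Ov_comm hKz (h𝒦 (h𝒥s hL)) (fun h1 => ?_) hl hk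
        rw [h𝒥] at hL
        exact hL.1.2 h1.symm
      have hcS' : ∀ w ∈ SS 𝒥, ∀ l ∈ K', w * l = l * w := by
        intro w hw l hl
        refine (SS_comm (x := l) (fun L hL k hk => ?_) hw).symm
        refine h.Ov_comm hK'z (h𝒦 (h𝒥s hL)) (fun h1 => ?_) hl hk
        rw [h𝒥] at hL
        exact hL.2 h1.symm
      have hKK' : ∀ l ∈ K, ∀ l' ∈ K', l * l' = l' * l := fun l hl l' hl' =>
        h.Ov_comm hKz hK'z (fun h1 => hc (by rw [← hK', ← h1])) hl hl'
      have hxk : x * k * x⁻¹ ∈ K' := by rw [hK']; exact conj_mem_cj hk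
      have hxk' : x * k' * x⁻¹ ∈ K := by rw [← hxK']; exact conj_mem_cj hk'
      have hcz : ∀ w ∈ SS 𝒥, z * w = w * z := fun w hw => h.SS_cen (𝒦 := 𝒥) (h𝒥s.trans h𝒦) hw
      -- `k⁻¹ · x k' x⁻¹` is central in `K`
      have h2 : k⁻¹ * (x * k' * x⁻¹) = 1 ∨ k⁻¹ * (x * k' * x⁻¹) = z := by
        refine h.Ov_central hKz (mul_mem (inv_mem hk) hxk') fun l hl => ?_
        have h3 : ∃ e, (e = 1 ∨ e = z) ∧ k⁻¹ * (x * k' * x⁻¹) = e * k' * (x * k * x⁻¹)⁻¹ * (w' * (x * w' * x⁻¹)⁻¹) := by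
          have h4 : x * (k * (k' * w')) * x⁻¹ = (x * k' * x⁻¹) * (x * k * x⁻¹) * (x * w' * x⁻¹) := by
            calc x * (k * (k' * w')) * x⁻¹ = x * (k * k') * w' * x⁻¹ := by group
              _ = x * (k' * k) * w' * x⁻¹ := by rw [hKK' k hk k' hk']
              _ = _ := by group
          have h5 : ∃ e, (e = 1 ∨ e = z) ∧ (x * k' * x⁻¹) * (x * k * x⁻¹) * (x * w' * x⁻¹) = e * (k * (k' * w')) := by
            rw [h4] at hvv
            rcases hvv with h6 | h6
            · exact ⟨1, Or.inl rfl, by rw [h6, one_mul]⟩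
            · exact ⟨z, Or.inr rfl, h6⟩
          obtain ⟨e, he1, h6⟩ := h5
          refine ⟨e, he1, ?_⟩
          have hek : e * k = k * e := by
            rcases he1 with rfl | rfl
            · rw [one_mul, mul_one]
            · exact hcK k hk
          have h7 : w' * (x * w' * x⁻¹)⁻¹ ∈ SS 𝒥 := mul_mem hw' (inv_mem hxw)
          calc k⁻¹ * (x * k' * x⁻¹)
              = k⁻¹ * ((x * k' * x⁻¹) * (x * k * x⁻¹) * (x * w' * x⁻¹)) * (x * w' * x⁻¹)⁻¹ * (x * k * x⁻¹)⁻¹ := by group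
            _ = k⁻¹ * (e * (k * (k' * w'))) * (x * w' * x⁻¹)⁻¹ * (x * k * x⁻¹)⁻¹ := by rw [h6]
            _ = k⁻¹ * (e * k) * k' * ((w' * (x * w' * x⁻¹)⁻¹) * (x * k * x⁻¹)⁻¹) := by group
            _ = k⁻¹ * (k * e) * k' * ((x * k * x⁻¹)⁻¹ * (w' * (x * w' * x⁻¹)⁻¹)) := by
              rw [hek, hcS' _ h7 _ (inv_mem hxk)]
            _ = _ := by group
        obtain ⟨e, he1, h4⟩ := h3
        have hel : e * l = l * e := by
          rcases he1 with rfl | rfl
          · rw [one_mul, mul_one]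
          · exact hcK l hl
        have h7 : w' * (x * w' * x⁻¹)⁻¹ ∈ SS 𝒥 := mul_mem hw' (inv_mem hxw)
        have h8 := hcS _ h7 l hl
        have h9 := hKK' l hl (k' * (x * k * x⁻¹)⁻¹) (mul_mem hk' (inv_mem hxk))
        calc k⁻¹ * (x * k' * x⁻¹) * l = e * (k' * (x * k * x⁻¹)⁻¹) * ((w' * (x * w' * x⁻¹)⁻¹) * l) := by rw [h4]; group
          _ = e * (k' * (x * k * x⁻¹)⁻¹) * (l * (w' * (x * w' * x⁻¹)⁻¹)) := by rw [h8]
          _ = e * ((k' * (x * k * x⁻¹)⁻¹) * l) * (w' * (x * w' * x⁻¹)⁻¹) := by group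
          _ = e * (l * (k' * (x * k * x⁻¹)⁻¹)) * (w' * (x * w' * x⁻¹)⁻¹) := by rw [h9]
          _ = (e * l) * (k' * (x * k * x⁻¹)⁻¹) * (w' * (x * w' * x⁻¹)⁻¹) := by group
          _ = (l * e) * (k' * (x * k * x⁻¹)⁻¹) * (w' * (x * w' * x⁻¹)⁻¹) := by rw [hel]
          _ = l * (k⁻¹ * (x * k' * x⁻¹)) := by rw [h4]; group
      -- `k' = e (x k x⁻¹)`
      have hk3 : ∃ e, (e = 1 ∨ e = z) ∧ k' = e * (x * k * x⁻¹) := by
        have h3 : ∃ e, (e = 1 ∨ e = z) ∧ x * k' * x⁻¹ = e * k := by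
          rcases h2 with h2 | h2
          · rw [inv_mul_eq_one] at h2; exact ⟨1, Or.inl rfl, by rw [one_mul]; exact h2.symm⟩
          · rw [inv_mul_eq_iff_eq_mul] at h2; exact ⟨z, Or.inr rfl, by rw [h2, hcK k hk]⟩
        obtain ⟨e, he1, h4⟩ := h3
        refine ⟨e, he1, ?_⟩
        have hex : x * e = e * x := by
          rcases he1 with rfl | rfl
          · rw [one_mul, mul_one]
          · exact hxz
        calc k' = (x * x) * k' * (x * x)⁻¹ := by rw [hx]; group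
          _ = x * (x * k' * x⁻¹) * x⁻¹ := by group
          _ = x * (e * k) * x⁻¹ := by rw [h4]
          _ = (x * e) * k * x⁻¹ := by group
          _ = (e * x) * k * x⁻¹ := by rw [hex]
          _ = _ := by group
      obtain ⟨e, he1, rfl⟩ := hk3
      have hee : e * e = 1 := by
        rcases he1 with rfl | rfl
        · rw [one_mul]
        · exact hzz
      have hex : x * e = e * x := by
        rcases he1 with rfl | rfl
        · rw [one_mul, mul_one]
        · exact hxz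
      have hec : ∀ l, z * l = l * z → e * l = l * e := by
        intro l hl
        rcases he1 with rfl | rfl
        · rw [one_mul, mul_one]
        · exact hl
      obtain ⟨h5, h6⟩ := h.swap_one hKz hx hxz hc hk
      have hkx : z * (x * k * x⁻¹) = x * k * x⁻¹ * z := h.Ov_cen hK'z hxk
      -- `k e (x k x⁻¹) = e v0`
      have h7 : k * (e * (x * k * x⁻¹) * w') = (e * (k * (x * k * x⁻¹))) * w' := by
        calc k * (e * (x * k * x⁻¹) * w') = (k * e) * (x * k * x⁻¹) * w' := by group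
          _ = (e * k) * (x * k * x⁻¹) * w' := by rw [hec k (hcK k hk)]
          _ = _ := by group
      have hv0z : z * (k * (x * k * x⁻¹)) = (k * (x * k * x⁻¹)) * z := by
        calc z * (k * (x * k * x⁻¹)) = (z * k) * (x * k * x⁻¹) := by group
          _ = (k * z) * (x * k * x⁻¹) := by rw [hcK k hk]
          _ = k * (z * (x * k * x⁻¹)) := by group
          _ = k * (x * k * x⁻¹ * z) := by rw [hkx]
          _ = _ := by group
      have g1 : Gd x z {K, K'} (e * (k * (x * k * x⁻¹))) := by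
        refine ⟨?_, k, mem_SS_of (Set.mem_insert _ _) hk, ?_⟩
        · have hei : e⁻¹ = e := inv_eq_of_mul_eq_one_right hee
          calc x * (e * (k * (x * k * x⁻¹))) * x⁻¹ = (x * e) * (k * (x * k * x⁻¹)) * x⁻¹ := by group
            _ = (e * x) * (k * (x * k * x⁻¹)) * x⁻¹ := by rw [hex]
            _ = e * (x * (k * (x * k * x⁻¹)) * x⁻¹) := by group
            _ = e * (k * (x * k * x⁻¹))⁻¹ := by rw [h5]
            _ = (k * (x * k * x⁻¹) * e⁻¹)⁻¹ := by group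
            _ = (e * (k * (x * k * x⁻¹)))⁻¹ := by rw [hei, hec _ hv0z]
        · have h8 : ∀ p q : G, (q = p ∨ q = z * p) → (q = e * p ∨ q = z * (e * p)) := by
            intro p q hpq
            rcases he1 with h9 | h9 <;> rw [h9] <;> rcases hpq with h10 | h10 <;> rw [h10]
            · left; rw [one_mul]
            · right; rw [one_mul]
            · right; rw [← mul_assoc, hzz, one_mul]
            · left; rfl
          exact h8 _ _ h6
      have hw2 : x * w' * x⁻¹ = w' ∨ x * w' * x⁻¹ = z * w' := by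
        obtain ⟨v0, hv0⟩ : ∃ v0, v0 = e * (k * (x * k * x⁻¹)) := ⟨_, rfl⟩
        have h8 : x * v0 * x⁻¹ = v0 := by
          have h10 : (k * (x * k * x⁻¹))⁻¹ = k * (x * k * x⁻¹) := by
            rw [← h5]
            have h11 : x * (x * k * x⁻¹) * x⁻¹ = k := by
              calc x * (x * k * x⁻¹) * x⁻¹ = (x * x) * k * (x * x)⁻¹ := by group
                _ = k := by rw [hx]; group
            calc x * (k * (x * k * x⁻¹)) * x⁻¹ = (x * k * x⁻¹) * (x * (x * k * x⁻¹) * x⁻¹) := by group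
              _ = (x * k * x⁻¹) * k := by rw [h11]
              _ = k * (x * k * x⁻¹) := h.swap_comm hKz hxz hc hk hk
          rw [hv0]
          calc x * (e * (k * (x * k * x⁻¹))) * x⁻¹ = (x * e) * (k * (x * k * x⁻¹)) * x⁻¹ := by group
            _ = (e * x) * (k * (x * k * x⁻¹)) * x⁻¹ := by rw [hex]
            _ = e * (x * (k * (x * k * x⁻¹)) * x⁻¹) := by group
            _ = e * (k * (x * k * x⁻¹)) := by rw [h5, h10]
        rw [h7, ← hv0] at hvv
        have h9 : x * (v0 * w') * x⁻¹ = v0 * (x * w' * x⁻¹) := by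
          calc x * (v0 * w') * x⁻¹ = (x * v0 * x⁻¹) * (x * w' * x⁻¹) := by group
            _ = _ := by rw [h8]
        rw [h9] at hvv
        rcases hvv with h10 | h10
        · left; exact mul_left_cancel h10
        · right
          have hv0c : z * v0 = v0 * z := by
            rw [hv0]
            have hze : z * e = e * z := by
              rcases he1 with rfl | rfl
              · rw [one_mul, mul_one]
              · rfl
            calc z * (e * (k * (x * k * x⁻¹))) = (z * e) * (k * (x * k * x⁻¹)) := by group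
              _ = e * (z * (k * (x * k * x⁻¹))) := by rw [hze]; group
              _ = _ := by rw [hv0z]; group
          have h11 : v0 * (x * w' * x⁻¹) = v0 * (z * w') := by
            rw [h10, ← mul_assoc, hv0c, mul_assoc]
          exact mul_left_cancel h11
      have g2 := ih _ hcard 𝒥 rfl (h𝒥s.trans h𝒦) hinv' w' hw' hw2
      have hSc : ∀ r ∈ SS {K, K'}, ∀ w ∈ SS 𝒥, r * w = w * r := by
        intro r hr w1 hw1
        refine (SS_comm (x := w1) (fun L hL l hl => ?_) hr).symm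
        rcases hL with hL | hL
        · rw [hL] at hl; exact hcS w1 hw1 l hl
        · rw [Set.mem_singleton_iff] at hL; rw [hL] at hl; exact hcS' w1 hw1 l hl
      have hpair : ({K, K'} : Set (Subgroup G)) ⊆ 𝒦 := by
        rintro L (rfl | hL)
        · exact hK
        · rw [Set.mem_singleton_iff] at hL; rw [hL]; exact hK'm
      have hv0m : e * (k * (x * k * x⁻¹)) ∈ SS {K, K'} := by
        refine mul_mem ?_ (mul_mem (mem_SS_of (Set.mem_insert _ _) hk)
          (mem_SS_of (Set.mem_insert_of_mem _ rfl) hxk))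
        rcases he1 with rfl | rfl
        · exact one_mem _
        · exact mem_SS_of (Set.mem_insert _ _) (h.Ov_mem hKz)
      have g3 := h.Gd_mul hzz hSc (fun r hr => h.SS_cen (hpair.trans h𝒦) hr) hv0m hw'
        (fun s hs => SS_cj_le hinv' hs) g1 g2
      rw [h7]
      have hU : ({K, K'} : Set (Subgroup G)) ∪ 𝒥 = 𝒦 := by
        ext L
        rw [h𝒥]
        constructor
        · rintro (hL | hL)
          · exact hpair hL
          · exact hL.1.1
        · intro hL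
          by_cases h8 : L = K
          · left; left; exact h8
          by_cases h9 : L = K'
          · left; right; exact h9
          · right; exact ⟨⟨hL, h8⟩, h9⟩
      rwa [hU] at g3

/-- **SURJ** -/
theorem surj [Finite G] (hz : z ∈ ZZ Om) (hx : x * x = 1) (hxz : x * z = z * x) (hf : Fr Om x z) (hv : v ∈ RR Om z)
    (hvv : x * v * x⁻¹ = v ∨ x * v * x⁻¹ = z * v) :
    x * v * x⁻¹ = v⁻¹ ∧ ∃ r ∈ RR Om z, x * r * x⁻¹ * r⁻¹ = v ∨ x * r * x⁻¹ * r⁻¹ = z * v :=
  h.surj_aux hz hx hxz hf _ _ rfl subset_rfl (fun _ hK => h.Ov_cj' hK hxz) v hv hvv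

end

end WR

end Cfsg.Agent.Cit.Nil.RG
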