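import Cfsg.Agent.Cit.Nil.RG.TZero

/-!
# (6b), general `r`: pairs of type I (helper488)

`Ax t K y` : `t` acts on `K` as the element `y ∈ K` of order four.

* `TI.exists_ax`, `Ax.comm`, `Ax.y_comm`, `Ax.conj_u`, `Ax.conj_s`, `Ax.conj_y` : the relations of a pair of type I;
* `WR.move` : `u u'` moves the member `K` over `s` to another member, with axis `x x' y`;
* `WR.four` : three members over `s` and over `t`: exactly four members over `t`; `WR.noTI`.
-/

set_option autoImplicit false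
set_option linter.style.haveILetI false
set_option linter.unusedSectionVars false

namespace Cfsg.Agent.Cit.Nil.RG

open Subgroup Cfsg Cit QuaternionGroup
open Cfsg.Agent.Cit.Nil.ROne

variable {G : Type*} [Group G]

/-- `t` acts on `K` as the element `y` of order four -/
structure Ax (t : G) (K : Subgroup G) (y : G) : Prop where
  mem : y ∈ K
  sq : y * y = zz K
  act : ∀ k ∈ K, t * k * t⁻¹ = y * k * y⁻¹

namespace QE

open QEight

/-- the square of `F p q` is conjugation by `x` -/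
def Sqr (p q x : Q) : Prop := ∀ w : Q, F p q (F p q w) = x * w * x⁻¹

instance (p q x : Q) : Decidable (Sqr p q x) := by unfold Sqr; infer_instance

/-- `F p q` turns `u` by a quarter -/
def Rot (p q x u : Q) : Prop :=
  u * u = QuaternionGroup.a 2 → u ≠ x → u ≠ x⁻¹ → F p q u = u * x ∨ F p q u = u * x⁻¹

instance (p q x u : Q) : Decidable (Rot p q x u) := by unfold Rot; infer_instance

set_option maxRecDepth 100000 in
theorem rt_aux : ∀ p q : Q, Ok p q → ∀ x : Q, x * x = QuaternionGroup.a 2 → Sqr p q x → ∀ u : Q, Rot p q x u := by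
  decide

theorem rt (α : MulAut Q) (x : Q) (hx : x * x = QuaternionGroup.a 2) (h : ∀ w, α (α w) = x * w * x⁻¹) (u : Q)
    (hu : u * u = QuaternionGroup.a 2) (h1 : u ≠ x) (h2 : u ≠ x⁻¹) : α u = u * x ∨ α u = u * x⁻¹ := by
  have h3 := rt_aux _ _ (aut_ok α) x hx
  unfold Sqr Rot at h3
  rw [← funF α] at h3
  exact h3 h u hu h1 h2

end QE

theorem Ax.comm {t y : G} {K : Subgroup G} (a : Ax t K y) : t * y = y * t := by
  have h1 := a.act y a.mem
  rw [mul_inv_cancel_right, mul_inv_eq_iff_eq_mul] at h1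
  exact h1

theorem TI.exists_ax {Om : Set (Subgroup G)} {s t : G} (h : TI Om s t) {K : Subgroup G} (hK : K ∈ Ov Om s) :
    ∃ y, Ax t K y := by
  obtain ⟨y, hy, hyy, h1⟩ := h.2 K hK
  exact ⟨y, hy, by rw [hyy, hK.2], h1⟩

namespace WR

variable {Om : Set (Subgroup G)} {𝒦 𝒦' : Set (Subgroup G)} {K K' L L' M : Subgroup G}
  {z x x' y y' g g' u u' v w a a' b k l r s t i p q c : G}

section

variable (h : WR Om)

include h

theorem Ax.ti_inn (hK : K ∈ Om) (a : Ax t K y) (hL : L ∈ Ov Om t) : cj y L = L :=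
  h.h3 K hK L hL.1 y a.mem a.sq (by rw [hL.2]; exact a.comm.symm)

/-- two elements inducing the same automorphism -/
theorem Ax.uniq (hK : K ∈ Ov Om s) (a : Ax t K y) (a' : Ax t K y') : y' = y ∨ y' = s * y := by
  have h1 : y⁻¹ * y' = 1 ∨ y⁻¹ * y' = s := by
    refine h.Ov_central hK (mul_mem (inv_mem a.mem) a'.mem) fun k hk => ?_
    have h2 : y * k * y⁻¹ = y' * k * y'⁻¹ := by rw [← a.act k hk, ← a'.act k hk]
    have h3 : k = y⁻¹ * y' * k * (y⁻¹ * y')⁻¹ := by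
      calc k = y⁻¹ * (y * k * y⁻¹) * y := by group
        _ = y⁻¹ * (y' * k * y'⁻¹) * y := by rw [h2]
        _ = _ := by group
    nth_rw 2 [h3]; group
  rcases h1 with h1 | h1
  · left; rw [inv_mul_eq_one] at h1; exact h1.symm
  · right; rw [inv_mul_eq_iff_eq_mul] at h1; rw [h1, h.Ov_cen hK a.mem]

/-- the axes commute -/
theorem Ax.y_comm (hK : K ∈ Ov Om s) (hL : L ∈ Ov Om t) (a : Ax t K y) (b : Ax s L x) : y * x = x * y := by
  have h1 := Ax.ti_inn h hK.1 a hL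
  have h2 := QEight.sq_inn (h.rho hL.1 h1) (h.e hL.1 ⟨x, b.mem⟩)
    (by rw [← h.e_mul hL.1 b.mem b.mem, ← h.e_z hL.1, h.e_eq hL.1]; exact b.sq) ?_
  · rw [h.rho_e, h.e_eq hL.1, mul_inv_eq_iff_eq_mul] at h2
    exact h2
  · intro p
    obtain ⟨k, hk, rfl⟩ := h.exists_e hL.1 p
    rw [h.rho_e, h.rho_e, ← h.e_inv hL.1 b.mem, ← h.e_mul hL.1 b.mem hk, ← h.e_mul hL.1 (mul_mem b.mem hk) (inv_mem b.mem),
      h.e_eq hL.1]
    calc y * (y * k * y⁻¹) * y⁻¹ = (y * y) * k * (y * y)⁻¹ := by group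
      _ = x * k * x⁻¹ := by rw [a.sq, hK.2, b.act k hk]

/-- the quarter turn -/
theorem Ax.conj_u (hK : K ∈ Ov Om s) (hL : L ∈ Ov Om t) (a : Ax t K y) (b : Ax s L x) (hu : u ∈ L) (huu : u * u = zz L)
    (h1 : u ≠ x) (h2 : u ≠ x⁻¹) : y * u * y⁻¹ = u * x ∨ y * u * y⁻¹ = u * x⁻¹ := by
  have hc := Ax.ti_inn h hK.1 a hL
  have h3 := QE.rt (h.rho hL.1 hc) (h.e hL.1 ⟨x, b.mem⟩)
    (by rw [← h.e_mul hL.1 b.mem b.mem, ← h.e_z hL.1, h.e_eq hL.1]; exact b.sq) ?_ (h.e hL.1 ⟨u, hu⟩)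
    (by rw [← h.e_mul hL.1 hu hu, ← h.e_z hL.1, h.e_eq hL.1]; exact huu) (by rw [Ne, h.e_eq hL.1]; exact h1)
    (by rw [← h.e_inv hL.1 b.mem, Ne, h.e_eq hL.1]; exact h2)
  · rw [h.rho_e, ← h.e_inv hL.1 b.mem, ← h.e_mul hL.1 hu b.mem, ← h.e_mul hL.1 hu (inv_mem b.mem), h.e_eq hL.1,
      h.e_eq hL.1] at h3
    exact h3
  · intro p
    obtain ⟨k, hk, rfl⟩ := h.exists_e hL.1 p
    rw [h.rho_e, h.rho_e, ← h.e_inv hL.1 b.mem, ← h.e_mul hL.1 b.mem hk, ← h.e_mul hL.1 (mul_mem b.mem hk) (inv_mem b.mem),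
      h.e_eq hL.1]
    calc y * (y * k * y⁻¹) * y⁻¹ = (y * y) * k * (y * y)⁻¹ := by group
      _ = x * k * x⁻¹ := by rw [a.sq, hK.2, b.act k hk]

/-- `u s u⁻¹ = s t` -/
theorem Ax.conj_s (hL : L ∈ Ov Om t) (b : Ax s L x) (hu : u ∈ L) (huu : u * u = zz L)
    (h1 : u ≠ x) (h2 : u ≠ x⁻¹) : u * s * u⁻¹ = s * t := by
  obtain ⟨h3, -⟩ := h.anti hL.1 b.mem hu b.sq huu h1 h2
  have h4 := b.act u hu
  -- `s u s⁻¹ = x u x⁻¹ = t u`
  have h5 : x * u * x⁻¹ = t * u := by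
    rw [mul_inv_eq_iff_eq_mul, mul_assoc t, h3, hL.2, ← mul_assoc, h.zz_sq (Ov_zz hL), one_mul]
  rw [h5] at h4
  have hui : u⁻¹ = t * u := by rw [h.inv_eq hL.1 hu huu, hL.2]
  have htu := h.Ov_cen hL hu
  -- `s u = t u s`
  have h6 : s * u = t * u * s := by rw [← h4]; group
  have hss : ∀ p, t * (t * p) = p := fun p => by rw [← mul_assoc, h.zz_sq (Ov_zz hL), one_mul]
  have hst : s * t = t * s := by
    have h7 := b.act t (h.Ov_mem hL)
    rw [← h.Ov_cen hL b.mem, mul_inv_cancel_right, mul_inv_eq_iff_eq_mul] at h7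
    exact h7
  rw [mul_inv_eq_iff_eq_mul, mul_assoc s t, htu, ← mul_assoc s, h6, htu]
  calc u * s = u * (t * t) * s := by rw [h.zz_sq (Ov_zz hL), mul_one]
    _ = u * t * (t * s) := by group
    _ = u * t * (s * t) := by rw [hst]
    _ = u * t * s * t := by group

/-- `u y u⁻¹ = x^{±1} y` -/
theorem Ax.conj_y (hK : K ∈ Ov Om s) (hL : L ∈ Ov Om t) (a : Ax t K y) (b : Ax s L x) (hu : u ∈ L) (huu : u * u = zz L)
    (h1 : u ≠ x) (h2 : u ≠ x⁻¹) : u * y * u⁻¹ = x * y ∨ u * y * u⁻¹ = t * x * y := by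
  have hxi : x⁻¹ = t * x := by rw [h.inv_eq hL.1 b.mem b.sq, hL.2]
  have h3 := Ax.conj_u h hK hL a b (inv_mem hu) (by
    rw [← _root_.mul_inv_rev, huu, hL.2, h.zz_inv (Ov_zz hL)]) (fun h4 => h2 (by rw [← h4, inv_inv]))
    (fun h4 => h1 (inv_injective h4))
  -- `y u⁻¹ y⁻¹ = u⁻¹ x^±`
  rcases h3 with h3 | h3
  · left
    calc u * y * u⁻¹ = u * (y * u⁻¹ * y⁻¹) * y := by group
      _ = _ := by rw [h3]; group
  · right
    calc u * y * u⁻¹ = u * (y * u⁻¹ * y⁻¹) * y := by group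
      _ = x⁻¹ * y := by rw [h3]; group
      _ = _ := by rw [hxi]

/-- an element off the axis -/
theorem exists_off (hL : L ∈ Om) (b : Ax s L x) : ∃ u ∈ L, u * u = zz L ∧ u ≠ x ∧ u ≠ x⁻¹ :=
  h.exists_anti hL b.mem b.sq

/-- conjugation of `Ax` -/
theorem Ax.conj (hK : K ∈ Om) (a : Ax t K y) (g : G) : Ax (g * t * g⁻¹) (cj g K) (g * y * g⁻¹) where
  mem := conj_mem_cj a.mem
  sq := by
    rw [h.zcj hK]
    calc g * y * g⁻¹ * (g * y * g⁻¹) = g * (y * y) * g⁻¹ := by group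
      _ = _ := by rw [a.sq]
  act := by
    rintro _ ⟨k, hk, rfl⟩
    change g * t * g⁻¹ * (g * k * g⁻¹) * (g * t * g⁻¹)⁻¹ = g * y * g⁻¹ * (g * k * g⁻¹) * (g * y * g⁻¹)⁻¹
    calc g * t * g⁻¹ * (g * k * g⁻¹) * (g * t * g⁻¹)⁻¹ = g * (t * k * t⁻¹) * g⁻¹ := by group
      _ = g * (y * k * y⁻¹) * g⁻¹ := by rw [a.act k hk]
      _ = _ := by group

/-- **moving the members over `s`** by `u u'` -/
theorem move (hti : TI Om s t) (hK : K ∈ Ov Om s) (hL : L ∈ Ov Om t) (hL' : L' ∈ Ov Om t) (hne : L ≠ L')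
    (h3 : ∃ L'' ∈ Ov Om t, L'' ≠ L ∧ L'' ≠ L') (a : Ax t K y) (b : Ax s L x) (b' : Ax s L' x')
    (hu : u ∈ L) (huu : u * u = zz L) (h1 : u ≠ x) (h2 : u ≠ x⁻¹)
    (hu' : u' ∈ L') (huu' : u' * u' = zz L') (h1' : u' ≠ x') (h2' : u' ≠ x'⁻¹) :
    (u * u') * s = s * (u * u') ∧ (u * u') * t = t * (u * u') ∧ (u * u') * (u * u') = 1 ∧
      cj (u * u') K ∈ Ov Om s ∧ cj (u * u') K ≠ K ∧
      ((u * u') * y * (u * u')⁻¹ = x * x' * y ∨ (u * u') * y * (u * u')⁻¹ = t * (x * x') * y) := by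
  have ht := Ov_zz hL
  have htt := h.zz_sq ht
  have hst : s * t = t * s := by
    have h7 := b.act t (h.Ov_mem hL)
    rw [← h.Ov_cen hL b.mem, mul_inv_cancel_right, mul_inv_eq_iff_eq_mul] at h7
    exact h7
  have ha := Ax.conj_s h hL b hu huu h1 h2
  have ha' := Ax.conj_s h hL' b' hu' huu' h1' h2'
  have htu := h.Ov_cen hL hu
  have htu' := h.Ov_cen hL' hu'
  have huu2 : u * u' = u' * u := h.Ov_comm hL hL' hne hu hu'
  have hs : (u * u') * s = s * (u * u') := by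
    have h4 : (u * u') * s * (u * u')⁻¹ = s := by
      calc (u * u') * s * (u * u')⁻¹ = u * (u' * s * u'⁻¹) * u⁻¹ := by group
        _ = u * (s * t) * u⁻¹ := by rw [ha']
        _ = (u * s * u⁻¹) * (u * t * u⁻¹) := by group
        _ = s * t * t := by rw [ha, ← htu, mul_inv_cancel_right]
        _ = s := by rw [mul_assoc, htt, mul_one]
    rwa [mul_inv_eq_iff_eq_mul] at h4
  have ht' : (u * u') * t = t * (u * u') := by rw [mul_assoc, ← htu', ← mul_assoc, ← htu, mul_assoc]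
  have hsq : (u * u') * (u * u') = 1 := by
    calc (u * u') * (u * u') = u * (u' * u) * u' := by group
      _ = u * (u * u') * u' := by rw [huu2]
      _ = (u * u) * (u' * u') := by group
      _ = 1 := by rw [huu, huu', hL.2, hL'.2, htt]
  have hy : (u * u') * y * (u * u')⁻¹ = x * x' * y ∨ (u * u') * y * (u * u')⁻¹ = t * (x * x') * y := by
    have c1 := Ax.conj_y h hK hL a b hu huu h1 h2
    have c2 := Ax.conj_y h hK hL' a b' hu' huu' h1' h2'
    have e1 : (u * u') * y * (u * u')⁻¹ = u * (u' * y * u'⁻¹) * u⁻¹ := by group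
    have e2 : u * x' * u⁻¹ = x' := by
      rw [h.Ov_comm hL hL' hne hu b'.mem, mul_inv_cancel_right]
    have e3 : x' * x = x * x' := (h.Ov_comm hL hL' hne b.mem b'.mem).symm
    have e4 : u * t * u⁻¹ = t := by rw [← htu, mul_inv_cancel_right]
    have e5 : x' * t = t * x' := (h.Ov_cen hL' b'.mem).symm
    rw [e1]
    rcases c2 with c2 | c2 <;> rcases c1 with c1 | c1 <;> rw [c2]
    · left
      calc u * (x' * y) * u⁻¹ = (u * x' * u⁻¹) * (u * y * u⁻¹) := by group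
        _ = x' * (x * y) := by rw [e2, c1]
        _ = _ := by rw [← mul_assoc, e3]
    · right
      calc u * (x' * y) * u⁻¹ = (u * x' * u⁻¹) * (u * y * u⁻¹) := by group
        _ = x' * (t * x * y) := by rw [e2, c1]
        _ = (x' * t) * x * y := by group
        _ = t * (x' * x) * y := by rw [e5]; group
        _ = _ := by rw [e3]
    · right
      calc u * (t * x' * y) * u⁻¹ = (u * t * u⁻¹) * (u * x' * u⁻¹) * (u * y * u⁻¹) := by group
        _ = t * x' * (x * y) := by rw [e2, e4, c1]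
        _ = t * (x' * x) * y := by group
        _ = _ := by rw [e3]
    · left
      calc u * (t * x' * y) * u⁻¹ = (u * t * u⁻¹) * (u * x' * u⁻¹) * (u * y * u⁻¹) := by group
        _ = t * x' * (t * x * y) := by rw [e2, e4, c1]
        _ = t * (x' * t) * x * y := by group
        _ = (t * t) * (x' * x) * y := by rw [e5]; group
        _ = _ := by rw [e3, htt, one_mul]
  refine ⟨hs, ht', hsq, h.Ov_cj' hK hs, ?_, hy⟩
  intro hKK
  -- `g y g⁻¹ = y^{±1}`, so `x x' ∈ {1, s, t, st}`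
  have a' := Ax.conj h hK.1 a (u * u')
  rw [ht', mul_inv_cancel_right, hKK] at a'
  have h4 := Ax.uniq h hK a a'
  have h5 : ∃ e, (e = 1 ∨ e = s) ∧ ∃ f, (f = 1 ∨ f = t) ∧ f * (x * x') = e := by
    rcases h4 with h4 | h4 <;> rcases hy with hy | hy <;> rw [h4] at hy
    · refine ⟨1, Or.inl rfl, 1, Or.inl rfl, ?_⟩
      rw [one_mul]
      have h6 : 1 * y = x * x' * y := by rw [one_mul]; exact hy
      exact (mul_right_cancel h6).symm
    · refine ⟨1, Or.inl rfl, t, Or.inr rfl, ?_⟩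
      have h6 : 1 * y = t * (x * x') * y := by rw [one_mul]; exact hy
      exact (mul_right_cancel h6).symm
    · exact ⟨s, Or.inr rfl, 1, Or.inl rfl, by rw [one_mul]; exact (mul_right_cancel hy).symm⟩
    · exact ⟨s, Or.inr rfl, t, Or.inr rfl, (mul_right_cancel hy).symm⟩
  obtain ⟨e, he, f, hf, h6⟩ := h5
  have hfc : ∀ M ∈ Ov Om t, ∀ m ∈ M, f * m = m * f := by
    intro M hM m hm
    rcases hf with rfl | rfl
    · rw [one_mul, mul_one]
    · exact h.Ov_cen hM hm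
  rcases he with rfl | rfl
  · -- `x x' = f⁻¹` centralises `L`
    refine h.four_nc hL b.mem (by rw [b.sq, hL.2]) fun l hl => ?_
    have c1 := h.Ov_comm hL' hL hne.symm b'.mem hl
    have c3 := hfc L hL l hl
    have h7 : f * (x * l) * x' = f * (l * x) * x' := by
      calc f * (x * l) * x' = (f * (x * x')) * l := by rw [mul_assoc f, mul_assoc x, ← c1]; group
        _ = l * (f * (x * x')) := by rw [h6]; group
        _ = (l * f) * x * x' := by group
        _ = f * (l * x) * x' := by rw [← c3]; group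
    exact mul_left_cancel (mul_right_cancel h7)
  · obtain ⟨L'', hL'', hn1, hn2⟩ := h3
    obtain ⟨x'', b''⟩ := (show TI Om t e from ⟨hti.2, hti.1⟩).exists_ax hL''
    refine h.four_nc hL'' b''.mem (by rw [b''.sq, hL''.2]) fun l hl => ?_
    have h7 := b''.act l hl
    have h8 : e * l = l * e := by
      rw [← h6]
      have c1 := h.Ov_comm hL hL'' hn1.symm b.mem hl
      have c2 := h.Ov_comm hL' hL'' hn2.symm b'.mem hl
      calc f * (x * x') * l = f * x * (x' * l) := by group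
        _ = f * (x * l) * x' := by rw [c2]; group
        _ = (f * l) * x * x' := by rw [c1]; group
        _ = l * (f * (x * x')) := by rw [hfc L'' hL'' l hl]; group
    rw [h8, mul_inv_cancel_right] at h7
    rw [← mul_inv_eq_iff_eq_mul, ← h7]

/-- **three members over `s` and over `t`, of type I: exactly four over `t`** -/
theorem four [Finite G] (hti : TI Om s t) (hs : s ∈ ZZ Om) (ht : t ∈ ZZ Om) (hRs : 3 ≤ (Ov Om s).ncard)
    (hRt : 3 ≤ (Ov Om t).ncard) : (Ov Om t).ncard = 4 := by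
  have hss := h.zz_sq hs
  have hs0 : ∃ K, K ∈ Ov Om s := hs
  have ht0 : ∃ K, K ∈ Ov Om t := ht
  obtain ⟨K, hK⟩ := hs0
  obtain ⟨K', hK', hKK, -⟩ := exists_third hRs K K
  obtain ⟨y, a⟩ := hti.exists_ax hK
  obtain ⟨y', a'⟩ := hti.exists_ax hK'
  obtain ⟨v, hv, hvv, hv1, hv2⟩ := exists_off h hK.1 a
  obtain ⟨v', hv', hvv', hv1', hv2'⟩ := exists_off h hK'.1 a'
  obtain ⟨K'', hK'', hn1, hn2⟩ := exists_third hRs K K'
  have hti' : TI Om t s := ⟨hti.2, hti.1⟩
  have key : ∀ L ∈ Ov Om t, ∀ x, Ax s L x →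
      (v * v') * (v * v') = 1 ∧ cj (v * v') L ∈ Ov Om t ∧ cj (v * v') L ≠ L ∧ 
      ∃ x' ∈ cj (v * v') L, ∃ e, (e = 1 ∨ e = s) ∧ x' = e * (y * y') * x := by
    intro L hL x b
    obtain ⟨-, -, h1, h2, h3, h4⟩ := move h hti' hL hK hK' hKK.symm ⟨K'', hK'', hn1, hn2⟩ b a a' hv hvv hv1 hv2
      hv' hvv' hv1' hv2'
    refine ⟨h1, h2, h3, (v * v') * x * (v * v')⁻¹, conj_mem_cj b.mem, ?_⟩
    rcases h4 with h4 | h4
    · exact ⟨1, Or.inl rfl, by rw [one_mul]; exact h4⟩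
    · exact ⟨s, Or.inr rfl, h4⟩
  obtain ⟨L, hL⟩ := ht0
  obtain ⟨x, b⟩ := hti'.exists_ax hL
  obtain ⟨hgg, hL1, hLL, x1, hx1, e1, he1, h1⟩ := key L hL x b
  obtain ⟨M, hM, hML, hML1⟩ := exists_third hRt L (cj (v * v') L)
  obtain ⟨x', b'⟩ := hti'.exists_ax hM
  obtain ⟨-, hM1, hMM, x2, hx2, e2, he2, h2⟩ := key M hM x' b'
  have hLM1 : cj (v * v') M ≠ L := fun h3 => hML1 (by rw [← h3, ← cj_mul, hgg, cj_one])
  have hLM2 : cj (v * v') M ≠ cj (v * v') L := fun h3 => hML (cj_inj.1 h3)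
  -- `x1 x⁻¹ = s x2 x'⁻¹`
  have hee : e1 ≠ e2 := by
    intro h3
    -- `x1 x⁻¹` commutes with `M`, `x2 x'⁻¹` does not
    have h4 : x1 * x⁻¹ = x2 * x'⁻¹ := by rw [h1, h2, h3, mul_inv_cancel_right, mul_inv_cancel_right]
    refine h.four_nc hM b'.mem (by rw [b'.sq, hM.2]) fun m hm => ?_
    have c1 := h.Ov_comm hL1 hM hML1.symm hx1 hm
    have c2 := h.Ov_comm hL hM hML.symm b.mem hm
    have c3 := h.Ov_comm hM1 hM hMM hx2 hm
    have h5 : x' = x * x1⁻¹ * x2 := by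
      have h6 : (x2 * x'⁻¹)⁻¹ = (x1 * x⁻¹)⁻¹ := by rw [h4]
      rw [_root_.mul_inv_rev, _root_.mul_inv_rev, inv_inv, inv_inv] at h6
      rw [← h6, inv_mul_cancel_right]
    have c4 : x1⁻¹ * m = m * x1⁻¹ := by
      rw [inv_mul_eq_iff_eq_mul, ← mul_assoc, eq_mul_inv_iff_mul_eq, c1]
    rw [h5, mul_assoc, c3, ← mul_assoc, mul_assoc x, c4, ← mul_assoc, c2]
    group
  have hss1 : e1 * e2 = s := by
    rcases he1 with rfl | rfl <;> rcases he2 with rfl | rfl
    · exact absurd rfl hee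
    · rw [one_mul]
    · rw [mul_one]
    · exact absurd rfl hee
  have hee1 : e2 * e2 = 1 := by
    rcases he2 with rfl | rfl
    · rw [one_mul]
    · exact hss
  have hs1 : s = (x1 * x⁻¹) * (x2 * x'⁻¹)⁻¹ := by
    rw [h1, h2, mul_inv_cancel_right, mul_inv_cancel_right, ← hss1]
    have : e2⁻¹ = e2 := inv_eq_of_mul_eq_one_right hee1
    rw [_root_.mul_inv_rev, this]; group
  have hall : Ov Om t = {L, cj (v * v') L, M, cj (v * v') M} := by
    apply Set.Subset.antisymm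
    · intro N hN
      by_contra hcon
      simp only [Set.mem_insert_iff, Set.mem_singleton_iff, not_or] at hcon
      obtain ⟨n1, n2, n3, n4⟩ := hcon
      obtain ⟨x'', b''⟩ := hti'.exists_ax hN
      refine h.four_nc hN b''.mem (by rw [b''.sq, hN.2]) fun m hm => ?_
      have c1 := h.Ov_comm hL hN (Ne.symm n1) b.mem hm
      have c2 := h.Ov_comm hL1 hN (Ne.symm n2) hx1 hm
      have c3 := h.Ov_comm hM hN (Ne.symm n3) b'.mem hm
      have c4 := h.Ov_comm hM1 hN (Ne.symm n4) hx2 hm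
      have h7 := b''.act m hm
      have h8 : s * m = m * s := by
        have c : ∀ p : G, p * m = m * p → p⁻¹ * m = m * p⁻¹ := fun p hp => by
          rw [inv_mul_eq_iff_eq_mul, ← mul_assoc, eq_mul_inv_iff_mul_eq, hp]
        have d : ∀ p q : G, p * m = m * p → q * m = m * q → p * q * m = m * (p * q) := fun p q hp hq => by
          rw [mul_assoc, hq, ← mul_assoc, hp, mul_assoc]
        rw [hs1]
        exact d _ _ (d _ _ c2 (c _ c1)) (c _ (d _ _ c4 (c _ c3)))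
      rw [h8, mul_inv_cancel_right] at h7
      rw [← mul_inv_eq_iff_eq_mul, ← h7]
    · rintro N (rfl | rfl | rfl | rfl)
      · exact hL
      · exact hL1
      · exact hM
      · exact hM1
  rw [hall, Set.ncard_insert_of_notMem, Set.ncard_insert_of_notMem, Set.ncard_insert_of_notMem, Set.ncard_singleton]
  · rw [Set.mem_singleton_iff]; exact hMM.symm
  · simp only [Set.mem_insert_iff, Set.mem_singleton_iff, not_or]
    exact ⟨hML1.symm, hLM2.symm⟩
  · simp only [Set.mem_insert_iff, Set.mem_singleton_iff, not_or]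
    exact ⟨hLL.symm, hML.symm, hLM1.symm⟩

/-- **no pair of type I if `r ≥ 3`, `r ≠ 4`** -/
theorem noTI [Finite G] (h3 : R3 Om) (h4 : ∀ z ∈ ZZ Om, (Ov Om z).ncard ≠ 4) : NoTI Om :=
  fun _ hu v hv hti => h4 v hv (four h hti hu hv (h3 _ hu) (h3 _ hv))

end

end WR

end Cfsg.Agent.Cit.Nil.RG
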