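import Cfsg.Agent.Cit.Nil.RG.Closed
import Cfsg.Agent.Cit.Nil.ROne.EndG0
import Cfsg.Agent.Cit.Nil.ROne.FStar
import Cfsg.Agent.GH.QAZStar

/-!
# (6b), no type I pairs, NIL: the end (helper488)

* `false_of_two` : a strongly closed commutative subgroup of `X = F*(G)` simple, and two commuting non-commutative
  2-subgroups of `X` in a common 2-group: contradiction (S1169, Bender's theorem);
* `zz_mem_of_fsimp` : `ZZ Om ⊆ X`;
* `WR.false_of_nil` : `AllC Om`, at least two members over each involution, `NilC Om`: contradiction.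
-/

set_option autoImplicit false
set_option linter.style.haveILetI false
set_option linter.unusedSectionVars false

namespace Cfsg.Agent.Cit.Nil.RG

open Subgroup Cfsg Cit QuaternionGroup
open Cfsg.Agent.Cit.Nil.ROne Cfsg.Agent.Cit.Nil.RFour

variable {G : Type*} [Group G]

/-- see the head of the file -/
theorem false_of_two [Finite G] {X : Subgroup G} (f : FSimp X) (gold : Cit.ROne.Gold X) (hB : CloEnd.Bend X)
    (S : Sylow 2 G) {A : Subgroup G} (hA : A ≠ ⊥) (hAX : A ≤ X) (hc : ∀ x ∈ A, ∀ y ∈ A, x * y = y * x)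
    (hsc : IsStronglyClosed A (S : Subgroup G)) {P Q R : Subgroup G} (hP : IsPGroup 2 P) (hQ : Q ≤ P) (hR : R ≤ P)
    (hQX : Q ≤ X) (hRX : R ≤ X) (hQR : ∀ x ∈ Q, ∀ y ∈ R, x * y = y * x) (hQn : ∃ x ∈ Q, ∃ y ∈ Q, x * y ≠ y * x)
    (hRn : ∃ x ∈ R, ∃ y ∈ R, x * y ≠ y * x) : False := by
  haveI : Fact (Nat.Prime 2) := ⟨Nat.prime_two⟩
  haveI := f.sim
  obtain ⟨T, hT⟩ := exists_sylow_subgroupOf f.nor S
  have hA' : A.subgroupOf X ≠ ⊥ := by
    intro h1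
    apply hA
    rw [← map_subgroupOf_eq_of_le hAX, h1, Subgroup.map_bot]
  have hc' : ∀ x ∈ A.subgroupOf X, ∀ y ∈ A.subgroupOf X, x * y = y * x := fun x hx y hy =>
    Subtype.ext (hc x hx y hy)
  have hsc' : IsStronglyClosed (A.subgroupOf X) (T : Subgroup X) := by
    refine ⟨?_, fun x hx g hg => ?_⟩
    · rw [hT]
      exact comap_mono hsc.1
    · rw [hT] at hg
      exact hsc.2 x hx g hg
  have hPX : IsPGroup 2 (P.subgroupOf X) := hP.comap_subtype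
  have lift : ∀ Q : Subgroup G, Q ≤ X → (∃ x ∈ Q, ∃ y ∈ Q, x * y ≠ y * x) →
      ∃ x ∈ Q.subgroupOf X, ∃ y ∈ Q.subgroupOf X, x * y ≠ y * x := by
    rintro Q hQX ⟨x, hx, y, hy, hxy⟩
    exact ⟨⟨x, hQX hx⟩, mem_subgroupOf.2 hx, ⟨y, hQX hy⟩, mem_subgroupOf.2 hy, fun h1 => hxy (congrArg Subtype.val h1)⟩
  have htwo : CloEnd.Two X := ⟨P.subgroupOf X, Q.subgroupOf X, R.subgroupOf X, hPX, comap_mono hQ, comap_mono hR,
    fun x hx y hy => Subtype.ext (hQR x hx y hy), lift Q hQX hQn, lift R hRX hRn⟩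
  rcases gold T _ hA' ⟨⟨fun a b => Subtype.ext (hc' a a.2 b b.2)⟩⟩ hsc' with h1 | ⟨H, hH⟩
  · obtain ⟨x, hx, y, hy, hxy⟩ := lift Q hQX hQn
    obtain ⟨T', hT'⟩ := hPX.exists_le_sylow
    obtain ⟨r, hr⟩ := MulAction.exists_smul_eq X T T'
    have h4 : ∀ x ∈ (T' : Subgroup X), r⁻¹ * x * r ∈ (T : Subgroup X) := by
      intro x hx
      rw [← hr] at hx
      have h5 : x ∈ cj r (T : Subgroup X) := hx
      exact mem_cj.1 h5
    have hQT : Q.subgroupOf X ≤ T' := (comap_mono hQ : Q.subgroupOf X ≤ P.subgroupOf X).trans hT'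
    have h5 : r⁻¹ * x * r * (r⁻¹ * y * r) = r⁻¹ * y * r * (r⁻¹ * x * r) :=
      congrArg Subtype.val (h1.is_comm.comm ⟨_, h4 _ (hQT hx)⟩ ⟨_, h4 _ (hQT hy)⟩)
    apply hxy
    calc x * y = r * (r⁻¹ * x * r * (r⁻¹ * y * r)) * r⁻¹ := by group
      _ = r * (r⁻¹ * y * r * (r⁻¹ * x * r)) * r⁻¹ := by rw [h5]
      _ = y * x := by group
  · exact htwo.not_stronglyEmbedded hB H hH

theorem OO_fsimp [Finite G] {X : Subgroup G} (f : FSimp X) (hev : 2 ∣ Nat.card X) : OO X = ⊥ := by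
  haveI := f.nor
  by_contra hne
  have h4 := f.le (N := OO X) (fun g hg n hn => by
    have h5 : cj g (OO X) = OO X := by rw [← OO_cj, mem_normalizer_iff_cj.1 (le_normalizer hg)]
    rw [← h5]
    exact conj_mem_cj hn) hne
  exact odd_OO X (hev.trans (card_dvd_of_le h4))

/-- `ZZ Om ⊆ X` -/
theorem zz_mem_of_fsimp [Finite G] {Om : Set (Subgroup G)} (hyp : Hyp Om) (h2 : ∀ K ∈ Om, IsPGroup 2 K) {X : Subgroup G}
    (f : FSimp X) (hev : 2 ∣ Nat.card X) {z : G} (hz : z ∈ ZZ Om) : z ∈ X := by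
  haveI := f.nor
  obtain ⟨K, hK, rfl⟩ := hz
  by_contra hn
  have h4 := hyp.lemma_two (M := X) h2 hK (by rw [normalizer_eq_top_iff.2 f.nor]; exact le_top) (OO_fsimp f hev) hn
  apply hyp.zz_ne hK
  have h5 : zz K ∈ centralizer (X : Set G) := by
    rw [mem_centralizer_iff]
    exact fun g hg => mem_centralizer_singleton_iff.1 (h4 hg)
  rwa [f.cen, mem_bot] at h5

namespace WR

variable {Om : Set (Subgroup G)} {K L M X : Subgroup G} {z x y g g' u v w a a' b k l r s t i p q c : G}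

/-- two commuting non-commutative 2-subgroups of `X` from a C-pair `(z, g z g⁻¹)`, `g ∈ X` -/
theorem exists_two [Finite G] (h : WR Om) (h2 : 2 ≤ (Ov Om z).ncard) (hn : X.Normal) (hg : g ∈ X) (hz : z ∈ ZZ Om)
    (hcp : CP Om z (g * z * g⁻¹)) : ∃ P Q R : Subgroup G, IsPGroup 2 P ∧ Q ≤ P ∧ R ≤ P ∧ Q ≤ X ∧ R ≤ X ∧
      (∀ x ∈ Q, ∀ y ∈ R, x * y = y * x) ∧ (∃ x ∈ Q, ∃ y ∈ Q, x * y ≠ y * x) ∧ (∃ x ∈ R, ∃ y ∈ R, x * y ≠ y * x) := by
  have hu := h.zz_cj hz g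
  obtain ⟨K, hK⟩ := id hz
  obtain ⟨L, hL, hLK⟩ := exists_second h2 K
  -- the elements
  have hdc : ∀ a ∈ RR Om z, ∀ b ∈ RR Om z, (g * a * g⁻¹) * b = b * (g * a * g⁻¹) := fun a ha b hb =>
    (h.CP_RR hcp hb (h.RR_cj ha g)).symm
  have hmul : ∀ a ∈ RR Om z, ∀ b ∈ RR Om z, (g * a * g⁻¹ * a⁻¹) * (g * b * g⁻¹ * b⁻¹) = (g * (a * b) * g⁻¹) * (b * a)⁻¹ := by
    intro a ha b hb
    have h3 := hdc b hb a⁻¹ (inv_mem ha)
    calc (g * a * g⁻¹ * a⁻¹) * (g * b * g⁻¹ * b⁻¹) = g * a * g⁻¹ * (a⁻¹ * (g * b * g⁻¹)) * b⁻¹ := by group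
      _ = g * a * g⁻¹ * ((g * b * g⁻¹) * a⁻¹) * b⁻¹ := by rw [h3]
      _ = _ := by group
  let D : Subgroup G → Subgroup G := fun K => closure {x | ∃ k ∈ K, x = g * k * g⁻¹ * k⁻¹}
  let 𝒦 : Set (Subgroup G) := {K, L, cj g K, cj g L}
  have hPmem : ∀ M ∈ ({K, L} : Set (Subgroup G)), D M ≤ SS 𝒦 := by
    rintro M hM
    refine (closure_le _).2 ?_
    rintro _ ⟨k, hk, rfl⟩
    have h4 : M ∈ 𝒦 ∧ cj g M ∈ 𝒦 := by
      rcases hM with rfl | hM
      · exact ⟨Or.inl rfl, Or.inr (Or.inr (Or.inl rfl))⟩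
      · rw [Set.mem_singleton_iff] at hM
        rw [hM]
        exact ⟨Or.inr (Or.inl rfl), Or.inr (Or.inr (Or.inr rfl))⟩
    exact mul_mem (mem_SS_of h4.2 (conj_mem_cj hk)) (inv_mem (mem_SS_of h4.1 hk))
  have hX : ∀ M, D M ≤ X := by
    intro M
    refine (closure_le _).2 ?_
    rintro _ ⟨k, hk, rfl⟩
    have h4 : g * k * g⁻¹ * k⁻¹ = g * (k * g⁻¹ * k⁻¹) := by group
    rw [SetLike.mem_coe, h4]
    exact mul_mem hg (hn.conj_mem _ (inv_mem hg) k)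
  have hP : IsPGroup 2 (SS 𝒦) := by
    have hgK := h.Ov_cj hK g
    have hgL := h.Ov_cj hL g
    refine SS_two _ 𝒦 rfl ?_ ?_
    · rintro M (rfl | rfl | rfl | rfl)
      · exact h.two hK.1
      · exact h.two hL.1
      · exact h.two hgK.1
      · exact h.two hgL.1
    · have hz' : ∀ M ∈ 𝒦, M ∈ Ov Om z ∨ M ∈ Ov Om (g * z * g⁻¹) := by
        rintro M (rfl | rfl | rfl | rfl)
        · exact Or.inl hK
        · exact Or.inl hL
        · exact Or.inr hgK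
        · exact Or.inr hgL
      intro M hM N hN' hne a ha b hb
      rcases hz' M hM with h4 | h4 <;> rcases hz' N hN' with h5 | h5
      · exact h.Ov_comm h4 h5 hne ha hb
      · exact hcp.2 M h4 N h5 a ha b hb
      · exact (hcp.2 N h5 M h4 b hb a ha).symm
      · exact h.Ov_comm h4 h5 hne ha hb
  have hnc : ∀ M ∈ Ov Om z, ∃ x ∈ D M, ∃ y ∈ D M, x * y ≠ y * x := by
    intro M hM
    obtain ⟨k, hk, hkk⟩ := h.exists_four hM.1
    obtain ⟨k', hk', hkk', hk1, hk2⟩ := h.exists_anti hM.1 hk hkk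
    obtain ⟨h6, -⟩ := h.anti hM.1 hk hk' hkk hkk' hk1 hk2
    rw [hM.2] at h6
    refine ⟨_, subset_closure ⟨k, hk, rfl⟩, _, subset_closure ⟨k', hk', rfl⟩, fun h7 => ?_⟩
    rw [hmul k (le_RR hM hk) k' (le_RR hM hk'), hmul k' (le_RR hM hk') k (le_RR hM hk), h6] at h7
    -- `g k k' g⁻¹ (z k k')⁻¹ = g z k k' g⁻¹ (k k')⁻¹`
    have h8 : z * (k * k')⁻¹ = (k * k')⁻¹ * z := h.Ov_cen hM (inv_mem (mul_mem hk hk'))
    have h9 : (g * (k * k') * g⁻¹) * (z * (k * k'))⁻¹ = (g * (k * k') * g⁻¹) * (z * (k * k')⁻¹) := by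
      rw [_root_.mul_inv_rev, h.zz_inv hz, ← h8]
    have h10 : (g * (z * (k * k')) * g⁻¹) * (k * k')⁻¹ = (g * (k * k') * g⁻¹) * ((g * z * g⁻¹) * (k * k')⁻¹) := by
      have h11 : z * (k * k') = (k * k') * z := h.Ov_cen hM (mul_mem hk hk')
      rw [h11]; group
    rw [h9, h10] at h7
    exact hcp.1 (mul_right_cancel (mul_left_cancel h7))
  refine ⟨SS 𝒦, D K, D L, hP, hPmem K (Or.inl rfl), hPmem L (Or.inr rfl), hX K, hX L, ?_, hnc K hK, hnc L hL⟩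
  intro x hx y hy
  have key : ∀ k ∈ K, ∀ l ∈ L, (g * k * g⁻¹ * k⁻¹) * (g * l * g⁻¹ * l⁻¹) = (g * l * g⁻¹ * l⁻¹) * (g * k * g⁻¹ * k⁻¹) := by
    intro k hk l hl
    have h4 := h.Ov_comm hK hL hLK.symm hk hl
    rw [hmul k (le_RR hK hk) l (le_RR hL hl), hmul l (le_RR hL hl) k (le_RR hK hk), h4]
  have h5 : D K ≤ centralizer (D L : Set G) := by
    refine (closure_le _).2 ?_
    rintro _ ⟨k, hk, rfl⟩
    rw [SetLike.mem_coe, mem_centralizer_iff]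
    intro w hw
    have h6 : D L ≤ centralizer {g * k * g⁻¹ * k⁻¹} := by
      refine (closure_le _).2 ?_
      rintro _ ⟨l, hl, rfl⟩
      rw [SetLike.mem_coe, mem_centralizer_singleton_iff]
      exact (key k hk l hl).symm
    exact mem_centralizer_singleton_iff.1 (h6 hw)
  exact ((mem_centralizer_iff.1 (h5 hx)) y hy).symm

/-- **the NIL world without type I pairs is impossible** -/
theorem false_of_nil [Finite G] (h : WR Om) (hyp : Hyp Om) (hC : AllC Om) (h2 : R2 Om) (hN : NilC Om) (hz : z ∈ ZZ Om)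
    (f : FSimp X) (hev : 2 ∣ Nat.card X) (gold : Cit.ROne.Gold X) (hB : CloEnd.Bend X) : False := by
  haveI : Fact (Nat.Prime 2) := ⟨Nat.prime_two⟩
  have hX : ∀ z ∈ ZZ Om, z ∈ X := fun z hz => zz_mem_of_fsimp hyp (fun K hK => h.two hK) f hev hz
  have hz2 : IsPGroup 2 (zpowers z) := by
    refine IsPGroup.of_card (n := 1) ?_
    rw [Nat.card_zpowers, pow_one]
    exact orderOf_eq_prime (by rw [pow_two]; exact h.zz_sq hz) (h.zz_ne hz)
  obtain ⟨S, hS⟩ := hz2.exists_le_sylow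
  have hzS : z ∈ (S : Subgroup G) := hS (mem_zpowers z)
  have c := h.cz hC h2 hN
  have hsc := h.closed hC h2 hN S hz hzS
  have hnc : ¬ IsMulCommutative X := by
    intro h2
    exact f.na fun x hx y hy => congrArg Subtype.val (h2.is_comm.comm ⟨x, hx⟩ ⟨y, hy⟩)
  obtain ⟨g, h3, h4⟩ := GH.QA.not_isolated f.sim hnc (u := (⟨z, hX z hz⟩ : X))
    (Subtype.ext (h.zz_sq hz)) (fun h2 => h.zz_ne hz (congrArg Subtype.val h2))
  have h3' : z * (g * z * (g : G)⁻¹) = g * z * (g : G)⁻¹ * z := congrArg Subtype.val h3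
  have h4' : z ≠ g * z * (g : G)⁻¹ := fun h5 => h4 (Subtype.ext h5.symm)
  have hcp : CP Om z (g * z * (g : G)⁻¹) := hC _ (h.zz_cj hz g) z hz h4' h3'
  obtain ⟨P, Q, R, k1, k2, k3, k4, k5, k6, k7, k8⟩ := h.exists_two (h2 z hz) f.nor g.2 hz hcp
  refine false_of_two f gold hB S (A := AZ (ZZ Om) z) ?_ ?_ (fun x hx y hy => c.AZ_comm hz x hx y hy) hsc k1 k2 k3 k4 k5
    k6 k7 k8
  · intro h5
    have h6 := ComZ.self_mem hz
    rw [h5, mem_bot] at h6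
    exact h.zz_ne hz h6
  · rw [AZ, closure_le]
    rintro u ⟨hu, -⟩
    exact hX u hu

end WR

end Cfsg.Agent.Cit.Nil.RG
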