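import Cfsg.Agent.Cit.Nil.RFour.SClosed

/-!
# (6b), `r ≥ 2`, commuting pairs are C-pairs: strong closure without NIL (helper488)

`FZ Z` : `Z` is an invariant set of involutions and (F1): if `u` commutes with `x u x⁻¹`, then `u` commutes with `x`.
`ZP Z P = Z ∩ P`, `TT Z P = ⟨Z ∩ P⟩`.

* `comm_of_two` : elements of `Z` in a 2-group commute;
* `eq_of_sub` : a 2-group `P` containing `Z ∩ S`, `S` Sylow: `Z ∩ P = Z ∩ S`;
* `hb`, `hb_mem`, **`closed_of`** : `TT Z S` is strongly closed in `S`, modulo a count.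
-/

set_option autoImplicit false
set_option linter.style.haveILetI false
set_option linter.unusedSectionVars false

namespace Cfsg.Agent.Cit.Nil.RG

open Subgroup Cfsg Cfsg.Agent.Cit Cfsg.Agent.Cit.Nil.RFour

variable {G : Type*} [Group G]

/-- see the head of the file -/
structure FZ (Z : Set G) : Prop where
  sq : ∀ z ∈ Z, z * z = 1
  ne : ∀ z ∈ Z, z ≠ 1
  conj : ∀ z ∈ Z, ∀ g : G, g * z * g⁻¹ ∈ Z
  f1 : ∀ x ∈ Z, ∀ u ∈ Z, u * (x * u * x⁻¹) = (x * u * x⁻¹) * u → x * u = u * x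

/-- `Z ∩ P` -/
def ZP (Z : Set G) (P : Subgroup G) : Set G := {z | z ∈ Z ∧ z ∈ P}

/-- `⟨Z ∩ P⟩` -/
def TT (Z : Set G) (P : Subgroup G) : Subgroup G := closure (ZP Z P)

theorem TT_le (Z : Set G) (P : Subgroup G) : TT Z P ≤ P := (closure_le P).2 fun _ h => h.2

theorem mem_TT {Z : Set G} {P : Subgroup G} {z : G} (h : z ∈ ZP Z P) : z ∈ TT Z P := subset_closure h

namespace FZ

variable {Z : Set G} {P H R : Subgroup G} {z z' u x b e g h : G} (c : FZ Z)

include c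

theorem comm_of_pow (n : ℕ) : ∀ z ∈ Z, ∀ u ∈ Z, (z * u) ^ (2 ^ n) = 1 → z * u = u * z := by
  induction n with
  | zero =>
    intro z hz u hu h1
    rw [pow_zero, pow_one] at h1
    have h2 : z = u := by
      have h3 := eq_inv_of_mul_eq_one_left h1
      rw [h3, inv_eq_of_mul_eq_one_right (c.sq u hu)]
    rw [h2]
  | succ n ih =>
    intro z hz u hu h1
    have hui : u⁻¹ = u := inv_eq_of_mul_eq_one_right (c.sq u hu)
    have h2 : z * (u * z * u⁻¹) = (z * u) ^ 2 := by rw [hui, pow_two]; group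
    have h3 : (z * (u * z * u⁻¹)) ^ (2 ^ n) = 1 := by
      rw [h2, ← pow_mul, ← pow_succ']
      exact h1
    exact (c.f1 u hu z hz (ih z hz _ (c.conj z hz u) h3)).symm

theorem comm_of_two (hP : IsPGroup 2 P) (hz : z ∈ ZP Z P) (hu : u ∈ ZP Z P) : z * u = u * z := by
  obtain ⟨n, hn⟩ := hP ⟨z * u, mul_mem hz.2 hu.2⟩
  exact c.comm_of_pow n z hz.1 u hu.1 (congrArg Subtype.val hn)

theorem TT_comm (hP : IsPGroup 2 P) (hx : x ∈ TT Z P) (hu : u ∈ TT Z P) : x * u = u * x := by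
  have h1 : ∀ z ∈ ZP Z P, ∀ y ∈ TT Z P, z * y = y * z := by
    intro z hz y hy
    have h2 : TT Z P ≤ centralizer {z} := (closure_le _).2 fun w hw => by
      rw [SetLike.mem_coe, mem_centralizer_singleton_iff]
      exact c.comm_of_two hP hw hz
    exact (mem_centralizer_singleton_iff.1 (h2 hy)).symm
  have h2 : TT Z P ≤ centralizer {u} := (closure_le _).2 fun w hw => by
    rw [SetLike.mem_coe, mem_centralizer_singleton_iff]
    exact h1 w hw u hu
  exact mem_centralizer_singleton_iff.1 (h2 hx)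

theorem TT_sq (hP : IsPGroup 2 P) (hx : x ∈ TT Z P) : x * x = 1 := by
  induction hx using closure_induction with
  | mem y hy => exact c.sq y hy.1
  | one => rw [one_mul]
  | mul y w hy hw h1 h2 =>
    have h3 := c.TT_comm hP hy hw
    calc y * w * (y * w) = y * (w * y) * w := by group
      _ = y * (y * w) * w := by rw [h3]
      _ = (y * y) * (w * w) := by group
      _ = 1 := by rw [h1, h2, one_mul]
  | inv y hy h1 =>
    rw [← _root_.mul_inv_rev, h1, inv_one]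

theorem ZP_cj (g : G) (P : Subgroup G) : ZP Z (cj g P) = (fun x => g * x * g⁻¹) '' ZP Z P := by
  ext x
  constructor
  · rintro ⟨hx, hxP⟩
    rw [mem_cj] at hxP
    refine ⟨g⁻¹ * x * g, ⟨?_, hxP⟩, ?_⟩
    · have h1 := c.conj x hx g⁻¹
      rwa [inv_inv] at h1
    · change g * (g⁻¹ * x * g) * g⁻¹ = x
      group
  · rintro ⟨y, ⟨hy, hyP⟩, rfl⟩
    exact ⟨c.conj y hy g, conj_mem_cj hyP⟩

theorem ncard_cj (g : G) (P : Subgroup G) : (ZP Z (cj g P)).ncard = (ZP Z P).ncard := by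
  rw [c.ZP_cj]
  exact Set.ncard_image_of_injective _ fun u v huv => mul_left_cancel (mul_right_cancel huv)

theorem TT_cj (g : G) (P : Subgroup G) : TT Z (cj g P) = cj g (TT Z P) := by
  rw [TT, c.ZP_cj]
  apply le_antisymm
  · rw [closure_le]
    rintro _ ⟨y, hy, rfl⟩
    exact conj_mem_cj (mem_TT hy)
  · intro y hy
    rw [mem_cj] at hy
    have h1 : TT Z P ≤ cj g⁻¹ (closure ((fun x => g * x * g⁻¹) '' ZP Z P)) := by
      refine (closure_le _).2 fun w hw => ?_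
      rw [SetLike.mem_coe, mem_cj, inv_inv]
      exact subset_closure ⟨w, hw, rfl⟩
    have h2 := h1 hy
    rw [mem_cj] at h2
    have h3 : g⁻¹⁻¹ * (g⁻¹ * y * g) * g⁻¹ = y := by group
    rwa [h3] at h2

variable [Finite G]

theorem ncard_sylow (S T : Sylow 2 G) : (ZP Z (T : Subgroup G)).ncard = (ZP Z (S : Subgroup G)).ncard := by
  haveI : Fact (Nat.Prime 2) := ⟨Nat.prime_two⟩
  obtain ⟨k, hk⟩ := MulAction.exists_smul_eq G S T
  have h1 : (T : Subgroup G) = cj k (S : Subgroup G) := by rw [← hk]; rfl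
  rw [h1, c.ncard_cj]

theorem eq_of_sub (S : Sylow 2 G) (hP : IsPGroup 2 P) (hs : ZP Z (S : Subgroup G) ⊆ ZP Z P) :
    ZP Z P = ZP Z (S : Subgroup G) := by
  obtain ⟨T, hT⟩ := hP.exists_le_sylow
  have h1 : ZP Z P ⊆ ZP Z (T : Subgroup G) := fun x hx => ⟨hx.1, hT hx.2⟩
  have h2 := Set.ncard_le_ncard h1 (Set.toFinite _)
  rw [c.ncard_sylow S T] at h2
  exact (Set.eq_of_subset_of_ncard_le hs h2 (Set.toFinite _)).symm

theorem TT_sylow (S : Sylow 2 G) : IsPGroup 2 (TT Z (S : Subgroup G)) := S.isPGroup'.to_le (TT_le _ _)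

/-- `R ≤ H` is conjugate in `H ≥ TT Z S` into a 2-group `P` with `Z ∩ P = Z ∩ S` -/
theorem conj_into (S : Sylow 2 G) (hT : TT Z (S : Subgroup G) ≤ H) (hR : IsPGroup 2 R) (hRH : R ≤ H) :
    ∃ d ∈ H, ∃ P : Subgroup G, IsPGroup 2 P ∧ ZP Z P = ZP Z (S : Subgroup G) ∧ cj d R ≤ P := by
  obtain ⟨Q, hQ⟩ := ((c.TT_sylow S).comap_subtype (K := H)).exists_le_sylow
  have hP : IsPGroup 2 ((Q : Subgroup H).map H.subtype) := Q.isPGroup'.map _
  have h1 : ZP Z ((Q : Subgroup H).map H.subtype) = ZP Z (S : Subgroup G) := by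
    refine c.eq_of_sub S hP fun x hx => ⟨hx.1, ?_⟩
    exact ⟨⟨x, hT (mem_TT hx)⟩, hQ (mem_subgroupOf.2 (mem_TT hx)), rfl⟩
  obtain ⟨m, hm⟩ := exists_le_cj Q (hR.comap_subtype (K := H))
  refine ⟨(m : G)⁻¹, inv_mem m.2, _, hP, h1, ?_⟩
  intro x hx
  rw [mem_cj, inv_inv] at hx
  have h2 : (⟨(m : G) * x * (m : G)⁻¹, hRH hx⟩ : H) ∈ cj m (Q : Subgroup H) := hm (mem_subgroupOf.2 hx)
  rw [mem_cj] at h2
  have h3 := mem_map_of_mem H.subtype h2
  have h4 : H.subtype (m⁻¹ * (⟨(m : G) * x * (m : G)⁻¹, hRH hx⟩ : H) * m) = x := by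
    change (m : G)⁻¹ * ((m : G) * x * (m : G)⁻¹) * (m : G) = x
    group
  rwa [h4] at h3

/-- **(HB')** -/
theorem hb (S : Sylow 2 G) (hb : b ∈ TT Z (S : Subgroup G)) (he : e ∈ TT Z (S : Subgroup G)) (hu : u ∈ Z)
    (hue : u * e = e * u) (hub : u * b * u⁻¹ = b ∨ u * b * u⁻¹ = b * e) : u * b = b * u := by
  have hS := S.isPGroup'
  have hee := c.TT_sq hS he
  have hbe := c.TT_comm hS hb he
  let H : Subgroup G :=
    { carrier := {h | h * e = e * h ∧ (h * b * h⁻¹ = b ∨ h * b * h⁻¹ = b * e)}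
      mul_mem' := by
        rintro p q ⟨h1, h2⟩ ⟨h3, h4⟩
        refine ⟨by rw [mul_assoc, h3, ← mul_assoc, h1, mul_assoc], ?_⟩
        have h5 : p * q * b * (p * q)⁻¹ = p * (q * b * q⁻¹) * p⁻¹ := by group
        have h6 : p * (b * e) * p⁻¹ = (p * b * p⁻¹) * e := by
          calc p * (b * e) * p⁻¹ = (p * b * p⁻¹) * (p * e * p⁻¹) := by group
            _ = _ := by rw [h1, mul_inv_cancel_right]
        rw [h5]
        rcases h4 with h4 | h4
        · rw [h4]; exact h2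
        · rw [h4, h6]
          rcases h2 with h2 | h2
          · right; rw [h2]
          · left; rw [h2, mul_assoc, hee, mul_one]
      one_mem' := ⟨by group, Or.inl (by group)⟩
      inv_mem' := by
        rintro p ⟨h1, h2⟩
        have h3 : p⁻¹ * e = e * p⁻¹ := by rw [inv_mul_eq_iff_eq_mul, ← mul_assoc, h1, mul_inv_cancel_right]
        refine ⟨h3, ?_⟩
        rcases h2 with h2 | h2
        · left; nth_rw 1 [← h2]; group
        · right
          have h4 : b = (p * b * p⁻¹) * e := by rw [h2, mul_assoc, hee, mul_one]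
          calc p⁻¹ * b * p⁻¹⁻¹ = p⁻¹ * ((p * b * p⁻¹) * e) * p⁻¹⁻¹ := by rw [← h4]
            _ = b * (p⁻¹ * e) * p := by group
            _ = b * (e * p⁻¹) * p := by rw [h3]
            _ = b * e := by group }
  have hAH : TT Z (S : Subgroup G) ≤ H := fun a ha =>
    ⟨c.TT_comm hS ha he, Or.inl (by rw [c.TT_comm hS ha hb, mul_inv_cancel_right])⟩
  have huH : u ∈ H := ⟨hue, hub⟩
  have hu2 : IsPGroup 2 (zpowers u) := by
    haveI : Fact (Nat.Prime 2) := ⟨Nat.prime_two⟩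
    refine IsPGroup.of_card (n := 1) ?_
    rw [Nat.card_zpowers, pow_one]
    exact orderOf_eq_prime (by rw [pow_two]; exact c.sq u hu) (c.ne u hu)
  obtain ⟨d, hd, P, hP, hPS, hdP⟩ := c.conj_into S hAH hu2 (zpowers_le.2 huH)
  have h1 : d * u * d⁻¹ ∈ ZP Z (S : Subgroup G) := by
    rw [← hPS]
    exact ⟨c.conj u hu d, hdP (conj_mem_cj (mem_zpowers u))⟩
  have h3 : d * b * d⁻¹ ∈ TT Z (S : Subgroup G) := by
    rcases hd.2 with h3 | h3
    · rw [h3]; exact hb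
    · rw [h3]; exact mul_mem hb he
  have h4 := c.TT_comm hS (mem_TT h1) h3
  have h5 : d * (u * b) * d⁻¹ = d * (b * u) * d⁻¹ := by
    calc d * (u * b) * d⁻¹ = (d * u * d⁻¹) * (d * b * d⁻¹) := by group
      _ = (d * b * d⁻¹) * (d * u * d⁻¹) := h4
      _ = _ := by group
  exact mul_left_cancel (mul_right_cancel h5)

/-- an element of `TT Z S` centralising `Z ∩ S'` lies in `TT Z S'` -/
theorem hb_mem (S S' : Sylow 2 G) (he : e ∈ TT Z (S : Subgroup G))
    (hc : ∀ x ∈ ZP Z (S' : Subgroup G), x * e = e * x) : e ∈ TT Z (S' : Subgroup G) := by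
  have hH : TT Z (S : Subgroup G) ≤ centralizer {e} := fun a ha => by
    rw [mem_centralizer_singleton_iff]
    exact c.TT_comm S.isPGroup' ha he
  have hR : TT Z (S' : Subgroup G) ≤ centralizer {e} := (closure_le _).2 fun x hx => by
    rw [SetLike.mem_coe, mem_centralizer_singleton_iff]
    exact hc x hx
  obtain ⟨d, hd, P, hP, hPS, hdP⟩ := c.conj_into S hH (c.TT_sylow S') hR
  rw [mem_centralizer_singleton_iff] at hd
  have h1 : ZP Z (cj d (S' : Subgroup G)) ⊆ ZP Z (S : Subgroup G) := by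
    rw [c.ZP_cj, ← hPS]
    rintro _ ⟨x, hx, rfl⟩
    exact ⟨c.conj x hx.1 d, hdP (conj_mem_cj (mem_TT hx))⟩
  have h2 : ZP Z (cj d (S' : Subgroup G)) = ZP Z (S : Subgroup G) := by
    refine Set.eq_of_subset_of_ncard_le h1 ?_ (Set.toFinite _)
    rw [c.ncard_cj, c.ncard_sylow S S']
  have h3 : e ∈ cj d (TT Z (S' : Subgroup G)) := by
    rw [← c.TT_cj, TT, h2]
    exact he
  rw [mem_cj] at h3
  have h4 : d⁻¹ * e * d = e := by rw [mul_assoc, ← hd, inv_mul_cancel_left]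
  rwa [h4] at h3

/-- **strong closure** -/
theorem closed_of (S : Sylow 2 G)
    (cnt : ∀ b ∈ (S : Subgroup G), b * b = 1 → ∀ S' : Sylow 2 G, b ∈ TT Z (S' : Subgroup G) →
      (∀ s ∈ (S : Subgroup G), s * b = b * s → ∀ x ∈ ZP Z (S' : Subgroup G), s * x * s⁻¹ ∈ ZP Z (S' : Subgroup G)) →
      (∀ u ∈ ZP Z (S : Subgroup G), u * b = b * u → u ∈ (S' : Subgroup G)) →
      (∃ u ∈ ZP Z (S : Subgroup G), u * b ≠ b * u) →
      ∃ u ∈ ZP Z (S : Subgroup G), u * b ≠ b * u ∧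
        ∀ x ∈ ZP Z (S' : Subgroup G), x * (u * (b * u * b⁻¹)) = (u * (b * u * b⁻¹)) * x) :
    IsStronglyClosed (TT Z (S : Subgroup G)) (S : Subgroup G) := by
  have hS := S.isPGroup'
  refine ⟨TT_le _ _, fun a ha g hg => ?_⟩
  obtain ⟨b, hbdef⟩ : ∃ b, b = g * a * g⁻¹ := ⟨_, rfl⟩
  rw [← hbdef] at hg ⊢
  have haa := c.TT_sq hS ha
  have hbb : b * b = 1 := by
    rw [hbdef]
    calc g * a * g⁻¹ * (g * a * g⁻¹) = g * (a * a) * g⁻¹ := by group
      _ = 1 := by rw [haa]; group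
  have hbi : b⁻¹ = b := inv_eq_of_mul_eq_one_right hbb
  have hgb : g⁻¹ * b * g = a := by rw [hbdef]; group
  let R : Subgroup G := cj g⁻¹ ((S : Subgroup G) ⊓ centralizer {b})
  have hR : ∀ r ∈ R, g * r * g⁻¹ ∈ (S : Subgroup G) ⊓ centralizer {b} := by
    intro r hr
    rw [mem_cj, inv_inv] at hr
    exact hr
  have hR2 : IsPGroup 2 R := (hS.to_le inf_le_left).map _
  have hRa : R ≤ centralizer {a} := by
    intro r hr
    rw [mem_centralizer_singleton_iff]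
    have h1 := mem_centralizer_singleton_iff.1 (hR r hr).2
    rw [← hgb]
    calc r * (g⁻¹ * b * g) = g⁻¹ * ((g * r * g⁻¹) * b) * g := by group
      _ = g⁻¹ * (b * (g * r * g⁻¹)) * g := by rw [h1]
      _ = _ := by group
  obtain ⟨d, hd, P, hP, hPS, hdP⟩ := c.conj_into S
    (H := centralizer {a}) (fun x hx => mem_centralizer_singleton_iff.2 (c.TT_comm hS hx ha)) hR2 hRa
  rw [mem_centralizer_singleton_iff] at hd
  obtain ⟨k, hk⟩ : ∃ k, k = g * d⁻¹ := ⟨_, rfl⟩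
  have h5 : d⁻¹ * a * d = a := by rw [mul_assoc, ← hd, inv_mul_cancel_left]
  have hkb : b = k * a * k⁻¹ := by
    rw [hbdef, hk]
    calc g * a * g⁻¹ = g * (d⁻¹ * a * d) * g⁻¹ := by rw [h5]
      _ = _ := by group
  obtain ⟨S', hS'⟩ : ∃ S' : Sylow 2 G, (S' : Subgroup G) = cj k (S : Subgroup G) := ⟨k • S, rfl⟩
  have hbS' : b ∈ TT Z (S' : Subgroup G) := by
    rw [hS', c.TT_cj, hkb]
    exact conj_mem_cj ha
  -- `C_S(b) ≤ cj k P`
  have hcent : ∀ s ∈ (S : Subgroup G), s * b = b * s → k⁻¹ * s * k ∈ P := by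
    intro s hs hsb
    have h6 : g⁻¹ * s * g⁻¹⁻¹ ∈ R := conj_mem_cj (Subgroup.mem_inf.2 ⟨hs, mem_centralizer_singleton_iff.2 hsb⟩)
    have h7 := hdP (conj_mem_cj (g := d) h6)
    have h8 : d * (g⁻¹ * s * g⁻¹⁻¹) * d⁻¹ = k⁻¹ * s * k := by rw [hk]; group
    rwa [h8] at h7
  have hZ : ∀ x, x ∈ Z → k⁻¹ * x * k ∈ P → x ∈ (S' : Subgroup G) := by
    intro x hx h6
    rw [hS', mem_cj]
    have h7 : k⁻¹ * x * k ∈ ZP Z P := ⟨by
      have h8 := c.conj x hx k⁻¹
      rwa [inv_inv] at h8, h6⟩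
    rw [hPS] at h7
    exact h7.2
  have c1 : ∀ s ∈ (S : Subgroup G), s * b = b * s → ∀ x ∈ ZP Z (S' : Subgroup G),
      s * x * s⁻¹ ∈ ZP Z (S' : Subgroup G) := by
    intro s hs hsb x hx
    refine ⟨c.conj x hx.1 s, hZ _ (c.conj x hx.1 s) ?_⟩
    have h6 := hcent s hs hsb
    have h7 : k⁻¹ * x * k ∈ P := by
      have h8 : k⁻¹ * x * k ∈ ZP Z (S : Subgroup G) := by
        refine ⟨?_, ?_⟩
        · have h9 := c.conj x hx.1 k⁻¹
          rwa [inv_inv] at h9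
        · have h9 := hx.2
          rw [hS', mem_cj] at h9
          exact h9
      rw [← hPS] at h8
      exact h8.2
    have h8 : k⁻¹ * (s * x * s⁻¹) * k = (k⁻¹ * s * k) * (k⁻¹ * x * k) * (k⁻¹ * s * k)⁻¹ := by group
    rw [h8]
    exact mul_mem (mul_mem h6 h7) (inv_mem h6)
  have c2 : ∀ u ∈ ZP Z (S : Subgroup G), u * b = b * u → u ∈ (S' : Subgroup G) := fun u hu hub =>
    hZ u hu.1 (hcent u hu.2 hub)
  by_cases hex : ∃ u ∈ ZP Z (S : Subgroup G), u * b ≠ b * u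
  · exfalso
    obtain ⟨u, hu, hub, hx⟩ := cnt b hg hbb S' hbS' c1 c2 hex
    have huA : u ∈ TT Z (S : Subgroup G) := mem_TT hu
    have hu2 : b * u * b⁻¹ ∈ ZP Z (S : Subgroup G) :=
      ⟨c.conj u hu.1 b, mul_mem (mul_mem hg hu.2) (inv_mem hg)⟩
    obtain ⟨e, he⟩ : ∃ e, e = u * (b * u * b⁻¹) := ⟨_, rfl⟩
    rw [← he] at hx
    have heA : e ∈ TT Z (S : Subgroup G) := by rw [he]; exact mul_mem huA (mem_TT hu2)
    have h6 := c.hb_mem S S' heA hx
    have hui : u⁻¹ = u := inv_eq_of_mul_eq_one_right (c.sq u hu.1)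
    have h7 : u * b * u⁻¹ = b * e := by
      rw [he, c.TT_comm hS huA (mem_TT hu2), hui]
      calc u * b * u = 1 * (u * b * u) := by group
        _ = (b * b) * (u * b * u) := by rw [hbb]
        _ = b * ((b * u * b) * u) := by group
        _ = b * ((b * u * b⁻¹) * u) := by rw [hbi]
    exact hub (c.hb S' hbS' h6 hu.1 (c.TT_comm hS huA heA) (Or.inr h7))
  · push Not at hex
    have h6 : ZP Z (S : Subgroup G) ⊆ ZP Z (S' : Subgroup G) := fun u hu => ⟨hu.1, c2 u hu (hex u hu)⟩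
    have h7 : ZP Z (S' : Subgroup G) = ZP Z (S : Subgroup G) := c.eq_of_sub S S'.isPGroup' h6
    rw [TT, h7] at hbS'
    exact hbS'

end FZ

end Cfsg.Agent.Cit.Nil.RG
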