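import Cfsg.Agent.Cit.Nil.RG.Closed
import Cfsg.Agent.Cit.Nil.RG.FZ
import Cfsg.Agent.Cit.Nil.RG.End

/-!
# (6b), `r ≥ 2`, commuting pairs are C-pairs (no NIL): `⟨Z ∩ S⟩` is strongly closed, and the end (helper488)

* `WR.fz`, `WR.RR_leS` : the members over the elements of `Z ∩ S` lie in `S`;
* `WR.closedS` : `TT (ZZ Om) S` is strongly closed in `S`;
* **`WR.false_of_allC`** : `AllC Om`, at least two members over each involution, `X = F*(G)` simple: contradiction.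
-/

set_option autoImplicit false
set_option linter.style.haveILetI false
set_option linter.unusedSectionVars false

namespace Cfsg.Agent.Cit.Nil.RG

open Subgroup Cfsg Cit QuaternionGroup
open Cfsg.Agent.Cit.Nil.ROne Cfsg.Agent.Cit.Nil.RFour

variable {G : Type*} [Group G]

namespace WR

variable {Om : Set (Subgroup G)} {K L M X : Subgroup G} {z x y g g' u v w a a' b k l r s t i p q c : G}

variable [Finite G] (h : WR Om) (hC : AllC Om) (h2 : R2 Om)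

include h hC h2

theorem fz : FZ (ZZ Om) where
  sq z hz := h.zz_sq hz
  ne z hz := h.zz_ne hz
  conj z hz g := h.zz_cj hz g
  f1 x hx u hu hc := h.f1 hC h2 hx hu hc

/-- the members over the elements of `Z ∩ S` lie in `S` -/
theorem RR_leS (S : Sylow 2 G) (hu : u ∈ ZP (ZZ Om) (S : Subgroup G)) : RR Om u ≤ S := by
  have c := h.fz hC h2
  let 𝒦 : Set (Subgroup G) := {K | K ∈ Om ∧ zz K ∈ (S : Subgroup G)}
  have h3 : IsPGroup 2 (SS 𝒦) := by
    refine SS_two _ 𝒦 rfl (fun K hK => h.two hK.1) fun K hK L hL hne a ha b hb => ?_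
    by_cases h5 : zz K = zz L
    · exact h.comm K hK.1 L hL.1 h5 hne a ha b hb
    · have h6 := c.comm_of_two S.isPGroup' (z := zz K) (u := zz L) ⟨⟨K, hK.1, rfl⟩, hK.2⟩ ⟨⟨L, hL.1, rfl⟩, hL.2⟩
      exact (hC (zz L) ⟨L, hL.1, rfl⟩ (zz K) ⟨K, hK.1, rfl⟩ h5 h6).2 K ⟨hK.1, rfl⟩ L ⟨hL.1, rfl⟩ a ha b hb
  have h4 : (S : Subgroup G) ≤ normalizer (SS 𝒦 : Set G) := by
    have key : ∀ s ∈ (S : Subgroup G), ∀ g ∈ SS 𝒦, s * g * s⁻¹ ∈ SS 𝒦 := by
      intro s hs g hg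
      refine SS_cj_le (𝒦 := 𝒦) (fun K hK => ⟨h.conj K hK.1 s, ?_⟩) hg
      rw [h.zcj hK.1]
      exact mul_mem (mul_mem hs hK.2) (inv_mem hs)
    intro s hs
    rw [mem_normalizer_iff]
    intro g
    refine ⟨key s hs g, fun hg => ?_⟩
    have h6 := key s⁻¹ (inv_mem hs) _ hg
    have h7 : s⁻¹ * (s * g * s⁻¹) * s⁻¹⁻¹ = g := by group
    rwa [h7] at h6
  have h5 : IsPGroup 2 ((S : Subgroup G) ⊔ SS 𝒦 : Subgroup G) :=
    (S.isPGroup').to_sup_of_normal_right' h3 h4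
  have h6 := S.is_maximal' h5 le_sup_left
  refine SS_le fun K hK => ?_
  have h7 : K ≤ SS 𝒦 := le_SS (𝒦 := 𝒦) ⟨hK.1, by rw [hK.2]; exact hu.2⟩
  rw [← h6]
  exact h7.trans le_sup_right

/-- **strong closure** -/
theorem closedS (S : Sylow 2 G) : IsStronglyClosed (TT (ZZ Om) (S : Subgroup G)) (S : Subgroup G) := by
  classical
  have c := h.fz hC h2
  refine c.closed_of S fun b hb hbb S' _ hcent hFS hmv => ?_
  by_contra hcon
  push Not at hcon
  have hbi : b⁻¹ = b := inv_eq_of_mul_eq_one_right hbb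
  -- the moved points `Δ`, the other points `X`
  let Δ : Set G := {u | u ∈ ZP (ZZ Om) (S : Subgroup G) ∧ u * b ≠ b * u}
  let F : Set G := {u | u ∈ ZP (ZZ Om) (S : Subgroup G) ∧ u * b = b * u}
  let X : Set G := ZP (ZZ Om) (S' : Subgroup G) \ F
  have hbc : ∀ u, (b * u * b⁻¹) * b = b * (b * u * b⁻¹) ↔ u * b = b * u := by
    intro u
    constructor
    · intro h6
      have h7 : b⁻¹ * ((b * u * b⁻¹) * b) * b = b⁻¹ * (b * (b * u * b⁻¹)) * b := by rw [h6]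
      calc u * b = b⁻¹ * ((b * u * b⁻¹) * b) * b := by group
        _ = b⁻¹ * (b * (b * u * b⁻¹)) * b := h7
        _ = b * u := by group
    · intro h6
      have h7 : b * u * b⁻¹ = u := by rw [← h6]; group
      rw [h7]
      exact h6
  have hΔ : ∀ u ∈ Δ, b * u * b⁻¹ ∈ Δ := by
    rintro u ⟨hu, hub⟩
    exact ⟨⟨h.zz_cj hu.1 b, mul_mem (mul_mem hb hu.2) (inv_mem hb)⟩, fun h6 => hub ((hbc u).1 h6)⟩
  have hΔc : ∀ u ∈ Δ, ∀ v ∈ Δ, u * v = v * u := fun u hu v hv => c.comm_of_two S.isPGroup' hu.1 hv.1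
  have hΔb : ∀ u ∈ Δ, u ≠ b * u * b⁻¹ := by
    intro u hu h6
    apply hu.2
    calc u * b = (b * u * b⁻¹) * b := by rw [← h6]
      _ = b * u := by group
  obtain ⟨T, hT1, hT2, hT3⟩ := exists_transversal (Set.toFinite Δ).toFinset (fun u => b * u * b⁻¹)
    (by
      intro u _
      change b * (b * u * b⁻¹) * b⁻¹ = u
      calc b * (b * u * b⁻¹) * b⁻¹ = (b * b) * u * (b * b)⁻¹ := by group
        _ = u := by rw [hbb]; group)
    (by
      intro u hu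
      rw [Set.Finite.mem_toFinset] at hu
      exact (hΔb u hu).symm)
  have hTΔ : ∀ u ∈ T, u ∈ Δ := fun u hu => (Set.Finite.mem_toFinset _).1 (hT1 hu)
  -- `|X| = |Δ|`
  have hFS' : F ⊆ ZP (ZZ Om) (S' : Subgroup G) := fun u hu => ⟨hu.1.1, hFS u hu.1 hu.2⟩
  have hcard : Nat.card X = (Set.toFinite Δ).toFinset.card := by
    rw [← Set.ncard_eq_toFinset_card Δ (Set.toFinite Δ)]
    change X.ncard = _
    have h6 : X.ncard = (ZP (ZZ Om) (S' : Subgroup G)).ncard - F.ncard := Set.ncard_sdiff hFS' (Set.toFinite _)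
    have h7 : Δ = ZP (ZZ Om) (S : Subgroup G) \ F := by
      ext u
      constructor
      · rintro ⟨hu, hub⟩
        exact ⟨hu, fun h8 => hub h8.2⟩
      · rintro ⟨hu, hub⟩
        exact ⟨hu, fun h8 => hub ⟨hu, h8⟩⟩
    have h8 : F ⊆ ZP (ZZ Om) (S : Subgroup G) := fun u hu => hu.1
    rw [h6, h7, Set.ncard_sdiff h8 (Set.toFinite _), c.ncard_sylow S S']
  -- the action
  let Γ : Subgroup G := (S : Subgroup G) ⊓ centralizer {b}
  have hΓ : IsPGroup 2 Γ := S.isPGroup'.to_le inf_le_left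
  have hΓF : ∀ g ∈ Γ, ∀ u ∈ F, g * u * g⁻¹ ∈ F := by
    rintro g hg u ⟨hu, hub⟩
    refine ⟨⟨h.zz_cj hu.1 g, mul_mem (mul_mem hg.1 hu.2) (inv_mem hg.1)⟩, ?_⟩
    have h6 := mem_centralizer_singleton_iff.1 hg.2
    have h7 : g⁻¹ * b = b * g⁻¹ := by rw [inv_mul_eq_iff_eq_mul, ← mul_assoc, h6, mul_inv_cancel_right]
    calc g * u * g⁻¹ * b = g * u * (g⁻¹ * b) := by group
      _ = g * (u * b) * g⁻¹ := by rw [h7]; group
      _ = (g * b) * u * g⁻¹ := by rw [hub]; group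
      _ = b * (g * u * g⁻¹) := by rw [h6]; group
  have hX : ∀ g ∈ Γ, ∀ x ∈ X, g * x * g⁻¹ ∈ X := by
    rintro g hg x ⟨hx, hxF⟩
    refine ⟨hcent g hg.1 (mem_centralizer_singleton_iff.1 hg.2) x hx, fun h6 => hxF ?_⟩
    have h7 := hΓF g⁻¹ (inv_mem hg) _ h6
    have h8 : g⁻¹ * (g * x * g⁻¹) * g⁻¹⁻¹ = x := by group
    rwa [h8] at h7
  let φ := actX Γ X hX
  obtain ⟨u0, hu0, hu0b⟩ := hmv
  haveI : Nonempty X := by
    have h6 : 0 < Nat.card X := by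
      rw [hcard]
      exact Finset.card_pos.2 ⟨u0, (Set.Finite.mem_toFinset _).2 ⟨hu0, hu0b⟩⟩
    exact (Nat.card_pos_iff.1 h6).1
  let H : Subgroup (Equiv.Perm X) := φ.range
  have hH : IsPGroup 2 H := by
    have h6 : IsPGroup 2 ((⊤ : Subgroup Γ).map φ) := (hΓ.of_equiv Subgroup.topEquiv.symm).map φ
    rwa [← MonoidHom.range_eq_map] at h6
  -- the elements
  have hex : ∀ u : G, ∃ k k' : G, u ∈ ZZ Om → (k ∈ RR Om u ∧ k' ∈ RR Om u ∧ k * k' = u * (k' * k)) := by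
    intro u
    by_cases hu : u ∈ ZZ Om
    · obtain ⟨K, hK⟩ := id hu
      obtain ⟨k, hk, hkk⟩ := h.exists_four hK.1
      obtain ⟨k', hk', hkk', hk1, hk2⟩ := h.exists_anti hK.1 hk hkk
      obtain ⟨h6, -⟩ := h.anti hK.1 hk hk' hkk hkk' hk1 hk2
      refine ⟨k, k', fun _ => ⟨le_RR hK hk, le_RR hK hk', ?_⟩⟩
      rw [h6, hK.2, ← mul_assoc, h.zz_sq hu, one_mul]
    · exact ⟨1, 1, fun h6 => absurd h6 hu⟩
  choose κ κ' hκ using hex
  let P : G → G := fun u => κ u * (b * κ u * b⁻¹)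
  let Q : G → G := fun u => κ' u * (b * κ' u * b⁻¹)
  -- they lie in `Γ`
  have hmem : ∀ u ∈ Δ, ∀ a ∈ RR Om u, a * (b * a * b⁻¹) ∈ Γ := by
    intro u hu a ha
    have h6 : a ∈ (S : Subgroup G) := h.RR_leS hC h2 S hu.1 ha
    refine Subgroup.mem_inf.2 ⟨mul_mem h6 (mul_mem (mul_mem hb h6) (inv_mem hb)), ?_⟩
    rw [mem_centralizer_singleton_iff]
    have hbu := hΔ u hu
    have c1 := hC _ hbu.1.1 u hu.1.1 (hΔb u hu) (hΔc u hu _ hbu)
    have h7 := h.CP_RR c1 ha (h.RR_cj ha b)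
    calc a * (b * a * b⁻¹) * b = (b * a * b⁻¹) * a * b := by rw [h7]
      _ = b * (a * (b⁻¹ * a * b)) := by group
      _ = b * (a * (b * a * b⁻¹)) := by rw [hbi]
  have hPΓ : ∀ u ∈ T, P u ∈ Γ := fun u hu => hmem u (hTΔ u hu) _ (hκ u (hTΔ u hu).1.1).1
  have hQΓ : ∀ u ∈ T, Q u ∈ Γ := fun u hu => hmem u (hTΔ u hu) _ (hκ u (hTΔ u hu).1.1).2.1
  let ψ : G → Equiv.Perm X := fun g => if hg : g ∈ Γ then φ ⟨g, hg⟩ else 1
  have hψ : ∀ g (hg : g ∈ Γ), ψ g = φ ⟨g, hg⟩ := fun g hg => dif_pos hg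
  have hψm : ∀ g g', g ∈ Γ → g' ∈ Γ → g * g' = g' * g → ψ g * ψ g' = ψ g' * ψ g := by
    intro g g' hg hg' hgg
    rw [hψ g hg, hψ g' hg', ← map_mul, ← map_mul]
    exact congrArg φ (Subtype.ext hgg)
  have hψH : ∀ g ∈ Γ, ψ g ∈ H := fun g hg => by
    rw [hψ g hg]
    exact ⟨⟨g, hg⟩, rfl⟩
  have key := count H hH (fun u => ψ (P u)) (fun u => ψ (Q u)) T (fun u hu => hψH _ (hPΓ u hu))
    (fun u hu => hψH _ (hQΓ u hu)) ?_ ?_
  · rw [hcard] at key
    omega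
  · intro u hu v hv huv
    have hu' := hTΔ u hu
    have hv' := hTΔ v hv
    have h6 : ∀ p ∈ ({u, b * u * b⁻¹} : Set G), ∀ q ∈ ({v, b * v * b⁻¹} : Set G), p ≠ q ∧ p * q = q * p := by
      rintro p (rfl | rfl) q (rfl | rfl)
      · exact ⟨huv, hΔc _ hu' _ hv'⟩
      · exact ⟨fun h7 => hT2 v hv (by change b * v * b⁻¹ ∈ T; rw [← h7]; exact hu), hΔc _ hu' _ (hΔ v hv')⟩
      · exact ⟨fun h7 => hT2 u hu (by change b * u * b⁻¹ ∈ T; rw [h7]; exact hv), hΔc _ (hΔ u hu') _ hv'⟩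
      · exact ⟨fun h7 => huv (mul_left_cancel (mul_right_cancel h7)), hΔc _ (hΔ u hu') _ (hΔ v hv')⟩
    have hPu := hPΓ u hu
    have hQu := hQΓ u hu
    have hPv := hPΓ v hv
    have hQv := hQΓ v hv
    have k1 := (hκ u hu'.1.1).1
    have k2 := (hκ u hu'.1.1).2.1
    have k3 := (hκ v hv'.1.1).1
    have k4 := (hκ v hv'.1.1).2.1
    exact ⟨hψm _ _ hPu hPv (h.diag_comm hC hbb hu'.1.1 hv'.1.1 h6 k1 k3),
      hψm _ _ hPu hQv (h.diag_comm hC hbb hu'.1.1 hv'.1.1 h6 k1 k4),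
      hψm _ _ hQu hPv (h.diag_comm hC hbb hu'.1.1 hv'.1.1 h6 k2 k3),
      hψm _ _ hQu hQv (h.diag_comm hC hbb hu'.1.1 hv'.1.1 h6 k2 k4)⟩
  · intro u hu heq
    have hu' := hTΔ u hu
    have hPu := hPΓ u hu
    have hQu := hQΓ u hu
    obtain ⟨k1, k2, k3⟩ := hκ u hu'.1.1
    have hbu := hΔ u hu'
    have c1 := hC _ hbu.1.1 u hu'.1.1 (hΔb u hu') (hΔc u hu' _ hbu)
    -- `P Q = e Q P`
    obtain ⟨e, he⟩ : ∃ e, e = u * (b * u * b⁻¹) := ⟨_, rfl⟩
    have h6 : P u * Q u = e * (Q u * P u) := by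
      change κ u * (b * κ u * b⁻¹) * (κ' u * (b * κ' u * b⁻¹)) = e * (κ' u * (b * κ' u * b⁻¹) * (κ u * (b * κ u * b⁻¹)))
      obtain ⟨α, hα⟩ : ∃ α, α = κ u := ⟨_, rfl⟩
      obtain ⟨β, hβ⟩ : ∃ β, β = κ' u := ⟨_, rfl⟩
      rw [← hα, ← hβ] at k3
      rw [← hα] at k1
      rw [← hβ] at k2
      rw [← hα, ← hβ]
      have m1 : (b * α * b⁻¹) * β = β * (b * α * b⁻¹) := (h.CP_RR c1 k2 (h.RR_cj k1 b)).symm
      have m2 : (b * β * b⁻¹) * α = α * (b * β * b⁻¹) := (h.CP_RR c1 k1 (h.RR_cj k2 b)).symm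
      have m3 : (b * u * b⁻¹) * (β * α) = (β * α) * (b * u * b⁻¹) :=
        (h.CP_RR c1 (mul_mem k2 k1) (h.RR_mem hbu.1.1)).symm
      have m4 : (b * α * b⁻¹) * (b * β * b⁻¹) = (b * u * b⁻¹) * ((b * β * b⁻¹) * (b * α * b⁻¹)) := by
        calc (b * α * b⁻¹) * (b * β * b⁻¹) = b * (α * β) * b⁻¹ := by group
          _ = b * (u * (β * α)) * b⁻¹ := by rw [k3]
          _ = _ := by group
      calc α * (b * α * b⁻¹) * (β * (b * β * b⁻¹)) = α * ((b * α * b⁻¹) * β) * (b * β * b⁻¹) := by group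
        _ = (α * β) * ((b * α * b⁻¹) * (b * β * b⁻¹)) := by rw [m1]; group
        _ = (u * (β * α)) * ((b * u * b⁻¹) * ((b * β * b⁻¹) * (b * α * b⁻¹))) := by rw [k3, m4]
        _ = u * ((β * α) * (b * u * b⁻¹)) * ((b * β * b⁻¹) * (b * α * b⁻¹)) := by group
        _ = u * ((b * u * b⁻¹) * (β * α)) * ((b * β * b⁻¹) * (b * α * b⁻¹)) := by rw [m3]
        _ = (u * (b * u * b⁻¹)) * (β * (α * (b * β * b⁻¹)) * (b * α * b⁻¹)) := by group
        _ = (u * (b * u * b⁻¹)) * (β * ((b * β * b⁻¹) * α) * (b * α * b⁻¹)) := by rw [m2]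
        _ = e * (β * (b * β * b⁻¹) * (α * (b * α * b⁻¹))) := by rw [he]; group
    have h7 : ψ (P u) * ψ (Q u) = ψ (Q u) * ψ (P u) := heq
    rw [hψ _ hPu, hψ _ hQu, ← map_mul, ← map_mul] at h7
    -- `e` commutes with `QP`
    have m5 : e * (Q u * P u) = (Q u * P u) * e := by
      have n1 : ∀ a ∈ RR Om u, e * (a * (b * a * b⁻¹)) = (a * (b * a * b⁻¹)) * e := by
        intro a ha
        have n2 := h.RR_cen ha
        have n3 := h.RR_cen (h.RR_cj ha b)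
        have n4 := h.CP_RR c1 ha (h.RR_mem hbu.1.1)
        have n5 := h.CP_RR c1 (h.RR_mem hu'.1.1) (h.RR_cj ha b)
        have e1 : Commute u a := n2
        have e2 : Commute (b * u * b⁻¹) (b * a * b⁻¹) := n3
        have e3 : Commute (b * u * b⁻¹) a := n4.symm
        have e4 : Commute u (b * a * b⁻¹) := n5
        rw [he]
        exact ((e1.mul_right e4).mul_left (e3.mul_right e2)).eq
      have e1 : Commute e (Q u) := n1 _ k2
      have e2 : Commute e (P u) := n1 _ k1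
      exact (e1.mul_right e2).eq
    obtain ⟨x, hx, hxe⟩ := hcon u hu'.1 hu'.2
    apply hxe
    rw [← he]
    by_cases hxF : x ∈ F
    · have e1 : Commute x u := c.comm_of_two S.isPGroup' hxF.1 hu'.1
      have e2 : Commute x (b * u * b⁻¹) := c.comm_of_two S.isPGroup' hxF.1 hbu.1
      rw [he]
      exact (e1.mul_right e2).eq
    · have h8 := congrArg (fun σ : Equiv.Perm X => ((σ ⟨x, hx, hxF⟩ : X) : G)) h7
      have h9 : (P u * Q u) * x * (P u * Q u)⁻¹ = (Q u * P u) * x * (Q u * P u)⁻¹ := h8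
      rw [h6] at h9
      have h10 : e * (Q u * P u) * x * (e * (Q u * P u))⁻¹ = (Q u * P u) * (e * x * e⁻¹) * (Q u * P u)⁻¹ := by
        rw [m5]; group
      rw [h10] at h9
      have h11 : e * x * e⁻¹ = x := mul_left_cancel (mul_right_cancel h9)
      rw [mul_inv_eq_iff_eq_mul] at h11
      exact h11.symm

/-- **commuting pairs are C-pairs, at least two members over each involution: impossible** -/
theorem false_of_allC (hyp : Hyp Om) (hz : z ∈ ZZ Om)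
    (f : FSimp X) (hev : 2 ∣ Nat.card X) (gold : Cit.ROne.Gold X) (hB : CloEnd.Bend X) : False := by
  haveI : Fact (Nat.Prime 2) := ⟨Nat.prime_two⟩
  have hX : ∀ z ∈ ZZ Om, z ∈ X := fun z hz => zz_mem_of_fsimp hyp (fun K hK => h.two hK) f hev hz
  have hz2 : IsPGroup 2 (zpowers z) := by
    refine IsPGroup.of_card (n := 1) ?_
    rw [Nat.card_zpowers, pow_one]
    exact orderOf_eq_prime (by rw [pow_two]; exact h.zz_sq hz) (h.zz_ne hz)
  obtain ⟨S, hS⟩ := hz2.exists_le_sylow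
  have hzS : z ∈ (S : Subgroup G) := hS (mem_zpowers z)
  have c := h.fz hC h2
  have hsc := h.closedS hC h2 S
  have hnc : ¬ IsMulCommutative X := by
    intro h2
    exact f.na fun x hx y hy => congrArg Subtype.val (h2.is_comm.comm ⟨x, hx⟩ ⟨y, hy⟩)
  obtain ⟨g, h3, h4⟩ := GH.QA.not_isolated f.sim hnc (u := (⟨z, hX z hz⟩ : X))
    (Subtype.ext (h.zz_sq hz)) (fun h2 => h.zz_ne hz (congrArg Subtype.val h2))
  have h3' : z * (g * z * (g : G)⁻¹) = g * z * (g : G)⁻¹ * z := congrArg Subtype.val h3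
  have h4' : z ≠ g * z * (g : G)⁻¹ := fun h5 => h4 (Subtype.ext h5.symm)
  have hcp : CP Om z (g * z * (g : G)⁻¹) := hC _ (h.zz_cj hz g) z hz h4' h3'
  obtain ⟨P, Q, R, k1, k2, k3, k4, k5, k6, k7, k8⟩ := h.exists_two (h2 z hz) f.nor g.2 hz hcp
  refine false_of_two f gold hB S (A := TT (ZZ Om) (S : Subgroup G)) ?_ ?_
    (fun x hx y hy => c.TT_comm S.isPGroup' hx hy) hsc k1 k2 k3 k4 k5 k6 k7 k8
  · intro h5
    have h6 : z ∈ TT (ZZ Om) (S : Subgroup G) := mem_TT ⟨hz, hzS⟩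
    rw [h5, mem_bot] at h6
    exact h.zz_ne hz h6
  · rw [TT, closure_le]
    rintro u hu
    exact hX u hu.1

end WR

end Cfsg.Agent.Cit.Nil.RG
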