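import Cfsg.Agent.Cit.Nil.RG.Abel
import Cfsg.Agent.Cit.Nil.RFour.SClosed

/-!
# (6b), (C3), `r ≥ 2`, commuting elements of `Z` are C-pairs (T0), `m ≥ 2`: the classes

* `InO H v` : `v ∈ O₂(H)`; `NilP Om` : NIL; `ANT Om` : AN for the elements `e ≠ 1` of `AZ Z s = ⟨Z ∩ C(s)⟩`;
* `comZ` (6) : commuting is transitive on `Z`;
* `mem_of_norm` (7) : `Z ∩ N(AZ s) = Z ∩ C(s)`;
* `cent_le` (9.1) : `C(e) ≤ N(AZ s)` for `1 ≠ e ∈ AZ s`;
* `sylow_le` : `s ∈ S` : `S ≤ N(AZ s)`.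

-- uses: CC (T0), Two2 (r ≥ 2), NIL, AN; no OneCls, no cores.
-/

set_option autoImplicit false
set_option linter.style.haveILetI false
set_option linter.unusedSectionVars false

namespace Cfsg.Agent.Cit.Nil.RG

open Subgroup Cfsg Cit
open RFour (ComZ AZ)

variable {G : Type*} [Group G]

/-- `v ∈ O₂(H)` -/
def InO (H : Subgroup G) (v : G) : Prop :=
  ∃ N : Subgroup G, N ≤ H ∧ H ≤ normalizer (N : Set G) ∧ IsPGroup 2 N ∧ v ∈ N

/-- NIL -/
def NilP (Om : Set (Subgroup G)) : Prop := ∀ u ∈ ZZ Om, ∀ v ∈ ZZ Om, CP Om u v → InO (centralizer {u}) v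

/-- AN -/
def ANT (Om : Set (Subgroup G)) : Prop := ∀ s ∈ ZZ Om, ∀ e ∈ AZ (ZZ Om) s, e ≠ 1 → InO (centralizer {e}) s

variable {Om : Set (Subgroup G)} {K L H : Subgroup G} {u v w x s e g : G}

theorem InO.two (hu : InO H u) (hv : InO H v) :
    ∃ N : Subgroup G, N ≤ H ∧ H ≤ normalizer (N : Set G) ∧ IsPGroup 2 N ∧ u ∈ N ∧ v ∈ N := by
  obtain ⟨N, n1, n2, n3, n4⟩ := hu
  obtain ⟨N', m1, m2, m3, m4⟩ := hv
  refine ⟨N ⊔ N', sup_le n1 m1, ?_, n3.to_sup_of_normal_right' m3 (n1.trans m2), mem_sup_left n4, mem_sup_right m4⟩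
  intro x hx
  rw [mem_normalizer_iff_cj, cj_sup, mem_normalizer_iff_cj.1 (n2 hx), mem_normalizer_iff_cj.1 (m2 hx)]

/-- the world T0 -/
structure TZ (Om : Set (Subgroup G)) : Prop where
  h : WR Om
  cc : CC Om
  two : Two2 Om
  nil : NilP Om
  an : ANT Om

/-- commuting is transitive on `Z` -/
theorem comZ (h : WR Om) (hC : CC Om) (h2 : Two2 Om) (nil : NilP Om) : ComZ (ZZ Om) where
  sq _ := h.zz_sq
  ne _ := h.zz_ne
  conj _ hz g := h.zz_cj hz g
  tr z hz s hs s' hs' h1 h3 := by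
    by_cases e1 : z = s
    · subst e1; exact h3
    by_cases e2 : z = s'
    · subst e2; exact h1.symm
    have c1 := hC z hz s hs e1 h1
    have c2 := hC z hz s' hs' e2 h3
    obtain ⟨N, -, n2, n3, n4, n5⟩ := (nil z hz s hs c1).two (nil z hz s' hs' c2)
    refine hC.comm h h2 n3 hs hs' n4 n5 (le_trans ?_ n2) (le_trans ?_ n2)
    · intro y hy
      rw [mem_centralizer_singleton_iff]
      exact (h.CP_RR c1 (h.RR_mem hz) hy).symm
    · intro y hy
      rw [mem_centralizer_singleton_iff]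
      exact (h.CP_RR c2 (h.RR_mem hz) hy).symm

namespace TZ

variable (t : TZ Om)

include t

theorem com : ComZ (ZZ Om) := comZ t.h t.cc t.two t.nil

theorem cp (hu : u ∈ ZZ Om) (hv : v ∈ ZZ Om) (hne : u ≠ v) (hc : u * v = v * u) : CP Om u v := t.cc u hu v hv hne hc

/-- elements of `Z ∩ AZ s` commute with `s` -/
theorem comm_of_AZ (hs : s ∈ ZZ Om) (hx : x ∈ AZ (ZZ Om) s) : s * x = x * s :=
  t.com.AZ_comm hs s (ComZ.self_mem hs) x hx

/-- `R_s` centralises `AZ s` -/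
theorem RR_comm (hs : s ∈ ZZ Om) (he : e ∈ AZ (ZZ Om) s) {r : G} (hr : r ∈ RR Om s) : r * e = e * r := by
  have h1 : AZ (ZZ Om) s ≤ centralizer {r} := by
    rw [AZ, closure_le]
    rintro z ⟨hz, hsz⟩
    rw [SetLike.mem_coe, mem_centralizer_singleton_iff]
    by_cases hne : s = z
    · subst hne; exact t.h.RR_cen hr
    · exact (t.h.CP_RR (t.cp hs hz hne hsz) hr (t.h.RR_mem hz)).symm
  exact (mem_centralizer_singleton_iff.1 (h1 he)).symm

/-- **(7)** -/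
theorem mem_of_norm (hs : s ∈ ZZ Om) (hx : x ∈ ZZ Om) (hxM : x ∈ normalizer (AZ (ZZ Om) s : Set G)) :
    x * s = s * x := by
  have h := t.h
  by_contra hne
  have hsA : s ∈ AZ (ZZ Om) s := ComZ.self_mem hs
  have hxx := h.zz_sq hx
  have hss := h.zz_sq hs
  have hxi := h.zz_inv hx
  have hsi := h.zz_inv hs
  obtain ⟨v, hv⟩ : ∃ v, v = x * s * x⁻¹ := ⟨_, rfl⟩
  have hvZ : v ∈ ZZ Om := by rw [hv]; exact h.zz_cj hs x
  have hvA : v ∈ AZ (ZZ Om) s := by rw [hv]; exact (mem_normalizer_iff.1 hxM s).1 hsA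
  have hsv : s * v = v * s := t.comm_of_AZ hs hvA
  have hvs : s ≠ v := by
    intro h1
    rw [hv, eq_mul_inv_iff_mul_eq] at h1
    exact hne h1.symm
  have cp1 := t.cp hs hvZ hvs hsv
  obtain ⟨e, he⟩ : ∃ e, e = s * v := ⟨_, rfl⟩
  have heA : e ∈ AZ (ZZ Om) s := by rw [he]; exact mul_mem hsA hvA
  have he1 : e ≠ 1 := by
    intro h1
    rw [he] at h1
    apply hvs
    rw [← hsi]
    exact (eq_inv_of_mul_eq_one_right h1).symm
  -- `y = s x s = e x`
  obtain ⟨y, hy⟩ : ∃ y, y = s * x * s⁻¹ := ⟨_, rfl⟩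
  have hyZ : y ∈ ZZ Om := by rw [hy]; exact h.zz_cj hx s
  have hye : y = e * x := by
    rw [hy, he, hv, hsi]
    calc s * x * s = s * (x * s * x⁻¹) * x := by group
      _ = _ := by group
  have hxe : x * e = e * x := by
    have h1 : x * e * x⁻¹ = e := by
      have h2 : x * v * x⁻¹ = s := by
        calc x * v * x⁻¹ = (x * x) * s * (x * x)⁻¹ := by rw [hv]; group
          _ = s := by rw [hxx]; group
      calc x * e * x⁻¹ = (x * s * x⁻¹) * (x * v * x⁻¹) := by rw [he]; group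
        _ = v * s := by rw [h2, ← hv]
        _ = e := by rw [he, hsv]
    exact mul_inv_eq_iff_eq_mul.1 h1
  have hxy : x * y = e := by rw [hye, ← mul_assoc, hxe, mul_assoc, hxx, mul_one]
  have hyx : y * x = e := by rw [hye, mul_assoc, hxx, mul_one]
  have hxny : x ≠ y := by
    intro h1
    apply he1
    rw [← hxy, ← h1, hxx]
  have cp2 := t.cp hx hyZ hxny (hxy.trans hyx.symm)
  have a1 := t.an s hs e heA he1
  have heA' : e ∈ AZ (ZZ Om) x := by
    rw [← hxy]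
    exact mul_mem (ComZ.self_mem hx) (subset_closure ⟨hyZ, hxy.trans hyx.symm⟩)
  have a2 := t.an x hx e heA' he1
  obtain ⟨N, -, n2, n3, n4, n5⟩ := a1.two a2
  apply hne
  refine (t.cc.comm h t.two n3 hs hx n4 n5 (le_trans ?_ n2) (le_trans ?_ n2)).symm
  · intro r hr
    rw [mem_centralizer_singleton_iff]
    exact t.RR_comm hs heA hr
  · intro r hr
    rw [mem_centralizer_singleton_iff]
    exact t.RR_comm hx heA' hr

theorem norm_of_conj (hs : s ∈ ZZ Om) (hx : x * s * x⁻¹ ∈ normalizer (AZ (ZZ Om) s : Set G)) :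
    x ∈ normalizer (AZ (ZZ Om) s : Set G) :=
  t.com.mem_norm_of hs (t.mem_of_norm hs (t.h.zz_cj hs x) hx).symm

/-- **(9.1)** -/
theorem cent_le (hs : s ∈ ZZ Om) (he : e ∈ AZ (ZZ Om) s) (he1 : e ≠ 1) :
    centralizer {e} ≤ normalizer (AZ (ZZ Om) s : Set G) := by
  have h := t.h
  intro g hg
  have hge := mem_centralizer_singleton_iff.1 hg
  obtain ⟨N, -, n2, n3, n4⟩ := t.an s hs e he he1
  have hgN : g * s * g⁻¹ ∈ N := (mem_normalizer_iff.1 (n2 hg) s).1 n4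
  refine t.com.mem_norm_of hs (t.cc.comm h t.two n3 hs (h.zz_cj hs g) n4 hgN (le_trans ?_ n2) (le_trans ?_ n2))
  · intro r hr
    rw [mem_centralizer_singleton_iff]
    exact t.RR_comm hs he hr
  · intro r hr
    have h1 : g⁻¹ * r * g⁻¹⁻¹ ∈ RR Om (g⁻¹ * (g * s * g⁻¹) * g⁻¹⁻¹) := h.RR_cj hr g⁻¹
    have h2 : g⁻¹ * (g * s * g⁻¹) * g⁻¹⁻¹ = s := by group
    rw [h2, inv_inv] at h1
    have h3 := t.RR_comm hs he h1
    rw [mem_centralizer_singleton_iff]
    have h4 : g * e * g⁻¹ = e := by rw [hge, mul_inv_cancel_right]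
    calc r * e = r * (g * e * g⁻¹) := by rw [h4]
      _ = g * (g⁻¹ * r * g * e) * g⁻¹ := by group
      _ = g * (e * (g⁻¹ * r * g)) * g⁻¹ := by rw [h3]
      _ = (g * e * g⁻¹) * r := by group
      _ = e * r := by rw [h4]

/-- a Sylow 2-subgroup containing `s` is in `N(AZ s)` -/
theorem sylow_le [Finite G] (S : Sylow 2 G) (hs : s ∈ ZZ Om) (hsS : s ∈ (S : Subgroup G)) :
    (S : Subgroup G) ≤ normalizer (AZ (ZZ Om) s : Set G) := by
  haveI : Fact (Nat.Prime 2) := ⟨Nat.prime_two⟩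
  by_contra hcon
  obtain ⟨b, hb, hb1, hb2⟩ := exists_normalizing S.isPGroup'
    (A := (S : Subgroup G) ⊓ normalizer (AZ (ZZ Om) s : Set G)) inf_le_left (fun h1 => hcon (inf_eq_left.1 h1))
  apply hb1
  refine Subgroup.mem_inf.2 ⟨hb, ?_⟩
  have h1 : s ∈ (S : Subgroup G) ⊓ normalizer (AZ (ZZ Om) s : Set G) :=
    Subgroup.mem_inf.2 ⟨hsS, le_normalizer (ComZ.self_mem hs)⟩
  have h2 := conj_mem_cj (g := b) h1
  rw [hb2] at h2
  exact t.norm_of_conj hs h2.2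

theorem AZ_le_sylow [Finite G] (S : Sylow 2 G) (hs : s ∈ ZZ Om) (hsS : s ∈ (S : Subgroup G)) :
    AZ (ZZ Om) s ≤ S := by
  haveI : Fact (Nat.Prime 2) := ⟨Nat.prime_two⟩
  have h1 : IsPGroup 2 (AZ (ZZ Om) s ⊔ S : Subgroup G) :=
    IsPGroup.to_sup_of_normal_left' (t.com.AZ_two hs) S.isPGroup' (t.sylow_le S hs hsS)
  have h2 := S.is_maximal' h1 le_sup_right
  rw [← h2]
  exact le_sup_left

end TZ

end Cfsg.Agent.Cit.Nil.RG
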