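import Cfsg.Agent.Cit.Nil.RG.TZero

/-!
# (6b), general `r`: a pair of type I and `r ≥ 3` force `r = 4` (blueprint, (1.1), (1.2))

* `WR.third` : the elements of order four on the third axis;
* `WR.ti_conj` (1.1) : `x⁻¹ w x ∈ {1, s} y w` for `x ∈ K` off the axis of `y`, `t` acts on `K` as `y`, `s` acts on `L` as `w`;
* `WR.ncard_of_ti` (1.2) : `r = 4`; `NoTI.of_ne` : no pairs of type I, if `r ≥ 3`, `r ≠ 4`.
-/

set_option autoImplicit false
set_option linter.style.haveILetI false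
set_option linter.unusedSectionVars false

namespace Cfsg.Agent.Cit.Nil.RG

open Subgroup Cfsg Cit QuaternionGroup
open Cfsg.Agent.Cit.Nil.ROne

variable {G : Type*} [Group G] {Om : Set (Subgroup G)} {K L M K' L' : Subgroup G} {s t x y w x' y' w' g b k l c : G}

namespace WR

variable (h : WR Om)

include h

/-- the third axis -/
theorem third (hK : K ∈ Om) (hy : y ∈ K) (hb : b ∈ K) (hc : c ∈ K) (hyy : y * y = zz K) (hbb : b * b = zz K)
    (hcc : c * c = zz K) (h1 : b ≠ y) (h2 : b ≠ y⁻¹) (h3 : c ≠ y) (h4 : c ≠ y⁻¹) (h5 : c ≠ b) (h6 : c ≠ b⁻¹) :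
    c * b⁻¹ = y ∨ c * b⁻¹ = y⁻¹ := by
  have h7 := QE.third (h.e hK ⟨y, hy⟩) (h.e hK ⟨b, hb⟩) (h.e hK ⟨c, hc⟩)
    (by rw [← h.e_mul hK hy hy, ← h.e_z hK, h.e_eq hK]; exact hyy)
    (by rw [← h.e_mul hK hb hb, ← h.e_z hK, h.e_eq hK]; exact hbb)
    (by rw [← h.e_mul hK hc hc, ← h.e_z hK, h.e_eq hK]; exact hcc)
    (by rw [Ne, h.e_eq hK]; exact h1) (by rw [← h.e_inv hK hy, Ne, h.e_eq hK]; exact h2)
    (by rw [Ne, h.e_eq hK]; exact h3) (by rw [← h.e_inv hK hy, Ne, h.e_eq hK]; exact h4)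
    (by rw [Ne, h.e_eq hK]; exact h5) (by rw [← h.e_inv hK hb, Ne, h.e_eq hK]; exact h6)
  rw [← h.e_inv hK hb, ← h.e_mul hK hc (inv_mem hb), ← h.e_inv hK hy, h.e_eq hK, h.e_eq hK] at h7
  exact h7

/-- **(1.1)** -/
theorem ti_conj (hK : K ∈ Ov Om s) (hL : L ∈ Ov Om t) (hy : y ∈ K) (hyy : y * y = s)
    (hact : ∀ k ∈ K, t * k * t⁻¹ = y * k * y⁻¹) (hw : w ∈ L) (hww : w * w = t)
    (hactL : ∀ l ∈ L, s * l * s⁻¹ = w * l * w⁻¹) (hx : x ∈ K) (hxx : x * x = s) (h1 : x ≠ y) (h2 : x ≠ y⁻¹) :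
    x⁻¹ * t * x = s * t ∧ ∃ c, (c = 1 ∨ c = s) ∧ x⁻¹ * w * x = c * (y * w) := by
  have hs : s ∈ ZZ Om := Ov_zz hK
  have hss := h.zz_sq hs
  have hsi := h.zz_inv hs
  have hsc : ∀ {k : G}, k ∈ K → s * k = k * s := fun hk => h.Ov_cen hK hk
  have hws : w * s = s * w := by
    have h3 := hactL w hw
    rw [mul_inv_cancel_right, mul_inv_eq_iff_eq_mul] at h3
    exact h3.symm
  have hwK : cj w K = K := h.h3 L hL.1 K hK.1 w hw (by rw [hww, hL.2]) (by rw [hK.2]; exact hws)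
  have hwm : ∀ {k : G}, k ∈ K → w * k * w⁻¹ ∈ K := fun hk => conj_mem_of_cj hwK hk
  -- anticommuting
  have hxy : x * y = s * (y * x) := by
    have h3 := (h.anti hK.1 hy hx (by rw [hyy, hK.2]) (by rw [hxx, hK.2]) h1 h2).1
    rw [hK.2] at h3; exact h3
  have hyx : y * x = s * (x * y) := by rw [hxy, ← mul_assoc, hss, one_mul]
  have htx : t * x * t⁻¹ = s * x := by
    rw [hact x hx, hyx, mul_assoc, mul_assoc, mul_inv_cancel, mul_one]
  have hxt : x⁻¹ * t * x = s * t := by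
    have h3 : t * x = s * x * t := mul_inv_eq_iff_eq_mul.1 htx
    rw [mul_assoc, h3, hsc hx]
    group
  refine ⟨hxt, ?_⟩
  -- inverses
  have hyi : y⁻¹ = s * y := by
    rw [inv_eq_iff_mul_eq_one, hsc hy, ← mul_assoc, hyy, hss]
  have hxi : x⁻¹ = s * x := by
    rw [inv_eq_iff_mul_eq_one, hsc hx, ← mul_assoc, hxx, hss]
  -- `x' = w x w⁻¹`
  obtain ⟨x', hx'⟩ : ∃ x', x' = w * x * w⁻¹ := ⟨_, rfl⟩
  have hx'K : x' ∈ K := by rw [hx']; exact hwm hx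
  have hwsw : w * s * w⁻¹ = s := by rw [hws, mul_inv_cancel_right]
  have hx'x' : x' * x' = s := by
    rw [hx']
    calc w * x * w⁻¹ * (w * x * w⁻¹) = w * (x * x) * w⁻¹ := by group
      _ = s := by rw [hxx, hwsw]
  have hwx' : w * x' * w⁻¹ = s * x := by
    rw [hx', ← htx, ← hww]; group
  have hws' : ∀ k : G, w * (s * k) * w⁻¹ = s * (w * k * w⁻¹) := by
    intro k
    calc w * (s * k) * w⁻¹ = (w * s) * k * w⁻¹ := by group
      _ = _ := by rw [hws]; group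
  have hxs : x ≠ s * x := fun e => h.zz_ne hs (mul_eq_right.1 e.symm)
  have n1 : x' ≠ x := by
    intro e
    rw [e] at hwx'
    have h3 : w * x * w⁻¹ = x := by rw [← hx', e]
    rw [h3] at hwx'
    exact hxs hwx'
  have n2 : x' ≠ x⁻¹ := by
    intro e
    rw [hxi] at e
    rw [e, hws', ← hx', e, ← mul_assoc, hss, one_mul] at hwx'
    exact hxs hwx'
  -- `w y w⁻¹ ∈ {y, s y}`
  have hwy : w * y * w⁻¹ = y ∨ w * y * w⁻¹ = s * y := by
    have hwt : w * t = t * w := by rw [← hww, mul_assoc]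
    have h3 : ∀ k ∈ K, (y⁻¹ * (w * y * w⁻¹)) * k = k * (y⁻¹ * (w * y * w⁻¹)) := by
      intro k hk
      have hk' : w⁻¹ * k * w ∈ K := by
        have h4 := conj_mem_of_cj (cj_inv_eq hwK) hk
        rwa [inv_inv] at h4
      have h4 := hact _ hk'
      have h5 : w * (t * (w⁻¹ * k * w) * t⁻¹) * w⁻¹ = t * k * t⁻¹ := by
        have h6 : w⁻¹ * t⁻¹ = t⁻¹ * w⁻¹ := by rw [← _root_.mul_inv_rev, ← _root_.mul_inv_rev, hwt]
        calc w * (t * (w⁻¹ * k * w) * t⁻¹) * w⁻¹ = (w * t) * w⁻¹ * k * (w * (t⁻¹ * w⁻¹)) := by group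
          _ = (t * w) * w⁻¹ * k * (w * (w⁻¹ * t⁻¹)) := by rw [hwt, ← h6]
          _ = _ := by group
      rw [h4] at h5
      rw [hact k hk] at h5
      have h6 : (w * y * w⁻¹) * k * (w * y * w⁻¹)⁻¹ = y * k * y⁻¹ := by rw [← h5]; group
      have h7 : (w * y * w⁻¹) * k = y * k * y⁻¹ * (w * y * w⁻¹) := mul_inv_eq_iff_eq_mul.1 h6
      calc (y⁻¹ * (w * y * w⁻¹)) * k = y⁻¹ * ((w * y * w⁻¹) * k) := by group
        _ = _ := by rw [h7]; group
    rcases h.Ov_central hK (mul_mem (inv_mem hy) (hwm hy)) h3 with h4 | h4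
    · left; exact (inv_mul_eq_one.1 h4).symm
    · right
      rw [inv_mul_eq_iff_eq_mul] at h4
      rw [h4, hsc hy]
  have n3 : x' ≠ y := by
    intro e
    rcases hwy with h3 | h3
    · apply h1
      have h4 : w * x * w⁻¹ = w * y * w⁻¹ := by rw [← hx', e, h3]
      exact mul_left_cancel (mul_right_cancel h4)
    · apply h2
      have h4 : w * x * w⁻¹ = w * (s * y) * w⁻¹ := by rw [← hx', e, hws', h3, ← mul_assoc, hss, one_mul]
      rw [hyi]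
      exact mul_left_cancel (mul_right_cancel h4)
  have n4 : x' ≠ y⁻¹ := by
    intro e
    rw [hyi] at e
    rcases hwy with h3 | h3
    · apply h2
      have h4 : w * x * w⁻¹ = w * (s * y) * w⁻¹ := by rw [← hx', e, hws', h3]
      rw [hyi]
      exact mul_left_cancel (mul_right_cancel h4)
    · apply h1
      have h4 : w * x * w⁻¹ = w * y * w⁻¹ := by rw [← hx', e, h3]
      exact mul_left_cancel (mul_right_cancel h4)
  have h3 := h.third hK.1 hy hx hx'K (by rw [hyy, hK.2]) (by rw [hxx, hK.2]) (by rw [hx'x', hK.2]) h1 h2 n3 n4 n1 n2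
  -- `x' = y^{±1} x`
  have h4 : x' = y * x ∨ x' = s * (y * x) := by
    rcases h3 with h3 | h3
    · left; exact mul_inv_eq_iff_eq_mul.1 h3
    · right; rw [mul_inv_eq_iff_eq_mul.1 h3, hyi, mul_assoc]
  have key : x⁻¹ * w * x = x⁻¹ * x' * w := by rw [hx']; group
  have h5 : x⁻¹ * (y * x) = s * y := by
    rw [hyx, ← mul_assoc s, hsc hx, mul_assoc, inv_mul_cancel_left]
  rcases h4 with h4 | h4
  · refine ⟨s, Or.inr rfl, ?_⟩
    rw [key, h4, h5, mul_assoc]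
  · refine ⟨1, Or.inl rfl, ?_⟩
    have h6 : x⁻¹ * (s * (y * x)) = y := by
      have h7 : x⁻¹ * s = s * x⁻¹ := (hsc (inv_mem hx)).symm
      rw [← mul_assoc, h7, mul_assoc, h5, ← mul_assoc, hss, one_mul]
    rw [key, h4, h6, one_mul]

/-- a nontrivial inner action -/
theorem IN_nc (hin : IN Om x s) (hK : K ∈ Ov Om s) : ¬ ∀ k ∈ K, x * k = k * x := by
  intro h1
  obtain ⟨y, hy, hyy, h2⟩ := hin K hK
  have h3 : ∀ k ∈ K, y * k = k * y := by
    intro k hk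
    have h4 := h2 k hk
    rw [h1 k hk, mul_inv_cancel_right] at h4
    exact (mul_inv_eq_iff_eq_mul.1 h4.symm)
  rcases h.Ov_central hK hy h3 with h4 | h4
  · rw [h4, one_mul] at hyy; exact h.zz_ne (Ov_zz hK) hyy.symm
  · rw [h4, h.zz_sq (Ov_zz hK)] at hyy; exact h.zz_ne (Ov_zz hK) hyy.symm

/-- an element of order four is not central -/
theorem four_nc' (hK : K ∈ Ov Om s) (hy : y ∈ K) (hyy : y * y = s) : ¬ ∀ k ∈ K, y * k = k * y := by
  intro h3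
  rcases h.Ov_central hK hy h3 with h4 | h4
  · rw [h4, one_mul] at hyy; exact h.zz_ne (Ov_zz hK) hyy.symm
  · rw [h4, h.zz_sq (Ov_zz hK)] at hyy; exact h.zz_ne (Ov_zz hK) hyy.symm

/-- (1.2), two members -/
theorem ti_conj_two (hK : K ∈ Ov Om s) (hK' : K' ∈ Ov Om s) (hne : K ≠ K') (hL : L ∈ Ov Om t) (hy : y ∈ K)
    (hyy : y * y = s) (hact : ∀ k ∈ K, t * k * t⁻¹ = y * k * y⁻¹) (hy' : y' ∈ K') (hyy' : y' * y' = s)
    (hact' : ∀ k ∈ K', t * k * t⁻¹ = y' * k * y'⁻¹) (hw : w ∈ L) (hww : w * w = t)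
    (hactL : ∀ l ∈ L, s * l * s⁻¹ = w * l * w⁻¹) (hx : x ∈ K) (hxx : x * x = s) (h1 : x ≠ y) (h2 : x ≠ y⁻¹)
    (hx' : x' ∈ K') (hxx' : x' * x' = s) (h1' : x' ≠ y') (h2' : x' ≠ y'⁻¹) :
    (x * x')⁻¹ * t * (x * x') = t ∧ ∃ c, (c = 1 ∨ c = s) ∧ (x * x')⁻¹ * w * (x * x') = c * (y * y') * w := by
  obtain ⟨e1, c, hc, e2⟩ := h.ti_conj hK hL hy hyy hact hw hww hactL hx hxx h1 h2
  obtain ⟨e1', c', hc', e2'⟩ := h.ti_conj hK' hL hy' hyy' hact' hw hww hactL hx' hxx' h1' h2'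
  have hss := h.zz_sq (Ov_zz hK)
  have hsx' : s * x' = x' * s := h.Ov_cen hK' hx'
  have hcx' : c * x' = x' * c := by
    rcases hc with rfl | rfl
    · rw [one_mul, mul_one]
    · exact hsx'
  have hc'y : c' * y = y * c' := by
    rcases hc' with rfl | rfl
    · rw [one_mul, mul_one]
    · exact h.Ov_cen hK hy
  have hyx' : y * x' = x' * y := h.Ov_comm hK hK' hne hy hx'
  refine ⟨?_, c * c', ?_, ?_⟩
  · calc (x * x')⁻¹ * t * (x * x') = x'⁻¹ * (x⁻¹ * t * x) * x' := by group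
      _ = x'⁻¹ * (s * t) * x' := by rw [e1]
      _ = (x'⁻¹ * s) * x' * (x'⁻¹ * t * x') := by group
      _ = s * (s * t) := by rw [e1', mul_assoc x'⁻¹, hsx', inv_mul_cancel_left]
      _ = t := by rw [← mul_assoc, hss, one_mul]
  · rcases hc with rfl | rfl <;> rcases hc' with rfl | rfl
    · left; rw [one_mul]
    · right; rw [one_mul]
    · right; rw [mul_one]
    · left; exact hss
  · calc (x * x')⁻¹ * w * (x * x') = x'⁻¹ * (x⁻¹ * w * x) * x' := by group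
      _ = x'⁻¹ * (c * (y * w)) * x' := by rw [e2]
      _ = (x'⁻¹ * (c * x')) * (x'⁻¹ * (y * x')) * (x'⁻¹ * w * x') := by group
      _ = c * y * (c' * (y' * w)) := by rw [hcx', hyx', inv_mul_cancel_left, inv_mul_cancel_left, e2']
      _ = c * (y * c') * y' * w := by group
      _ = c * c' * (y * y') * w := by rw [← hc'y]; group

/-- (1.2) -/
theorem ti_ne (h3 : R3 Om) [Finite G] (hti : TI Om s t) (hK : K ∈ Ov Om s) (hK' : K' ∈ Ov Om s) (hne : K ≠ K')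
    (hL : L ∈ Ov Om t) (hy : y ∈ K) (hyy : y * y = s) (hy' : y' ∈ K') (hyy' : y' * y' = s) (hw : w ∈ L)
    (hc : c = 1 ∨ c = s) (hg : g⁻¹ * w * g = c * (y * y') * w) : cj g⁻¹ L ≠ L := by
  intro hcj
  have hss := h.zz_sq (Ov_zz hK)
  obtain ⟨e, he⟩ : ∃ e, e = c * (y * y') := ⟨_, rfl⟩
  have hgw : g⁻¹ * w * g ∈ L := by
    have h4 := conj_mem_cj (g := g⁻¹) hw
    rw [hcj, inv_inv] at h4
    exact h4
  have heL : e ∈ L := by
    rw [he, ← mul_inv_eq_iff_eq_mul.2 hg]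
    exact mul_mem hgw (inv_mem hw)
  have hcy : ∀ {k : G}, k ∈ K → c * k = k * c := by
    intro k hk
    rcases hc with rfl | rfl
    · rw [one_mul, mul_one]
    · exact h.Ov_cen hK hk
  have hcy' : ∀ {k : G}, k ∈ K' → c * k = k * c := by
    intro k hk
    rcases hc with rfl | rfl
    · rw [one_mul, mul_one]
    · exact h.Ov_cen hK' hk
  have hcc : c * c = 1 := by
    rcases hc with rfl | rfl
    · rw [one_mul]
    · exact hss
  have hyy2 : y * y' = y' * y := h.Ov_comm hK hK' hne hy hy'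
  have hee : e * e = 1 := by
    rw [he]
    calc c * (y * y') * (c * (y * y')) = c * y * (y' * c) * (y * y') := by group
      _ = c * (y * c) * y' * (y * y') := by rw [← hcy' hy']; group
      _ = (c * c) * (y * (y' * y) * y') := by rw [← hcy hy]; group
      _ = (c * c) * ((y * y) * (y' * y')) := by rw [← hyy2]; group
      _ = 1 := by rw [hcc, hyy, hyy', hss, one_mul]
  rcases h.uniq hL.1 heL hee with h4 | h4
  · -- `e = 1`
    have h5 : y = c⁻¹ * y'⁻¹ := by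
      rw [he, ← mul_assoc] at h4
      rw [eq_inv_mul_iff_mul_eq]
      exact mul_eq_one_iff_eq_inv.1 h4
    have hcK' : c ∈ K' := by
      rcases hc with rfl | rfl
      · exact one_mem _
      · exact h.Ov_mem hK'
    have h6 : y ∈ K' := by rw [h5]; exact mul_mem (inv_mem hcK') (inv_mem hy')
    exact h.four_nc' hK hy hyy fun k hk => (h.Ov_comm hK hK' hne hk h6).symm
  · -- `e = t`
    rw [hL.2] at h4
    obtain ⟨M, hM, hMK, hMK'⟩ := exists_third (h3 s (Ov_zz hK)) K K'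
    refine h.IN_nc hti.2 hM fun k hk => ?_
    have h6 : y * k = k * y := (h.Ov_comm hM hK hMK hk hy).symm
    have h7 : y' * k = k * y' := (h.Ov_comm hM hK' hMK' hk hy').symm
    have h8 : c * k = k * c := by
      rcases hc with rfl | rfl
      · rw [one_mul, mul_one]
      · exact h.Ov_cen hM hk
    rw [← h4, he]
    calc c * (y * y') * k = c * y * (y' * k) := by group
      _ = c * (y * k) * y' := by rw [h7]; group
      _ = (c * k) * (y * y') := by rw [h6]; group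
      _ = k * (c * (y * y')) := by rw [h8]; group

/-- **(1.2)**: a pair of type I and `r ≥ 3` : `r = 4` -/
theorem ncard_of_ti [Finite G] (h3 : R3 Om) (hti : TI Om s t) (hs : s ∈ ZZ Om) (ht : t ∈ ZZ Om) :
    (Ov Om t).ncard = 4 := by
  have hss := h.zz_sq hs
  have hsi := h.zz_inv hs
  obtain ⟨K, hK⟩ := id hs
  obtain ⟨K', hK', hKK', -⟩ := exists_third (h3 s hs) K K
  obtain ⟨K'', hK'', hK''K, hK''K'⟩ := exists_third (h3 s hs) K K'
  obtain ⟨y, hy, hyy, hact⟩ := hti.2 K hK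
  obtain ⟨y', hy', hyy', hact'⟩ := hti.2 K' hK'
  obtain ⟨y'', hy'', hyy'', hact''⟩ := hti.2 K'' hK''
  have hoff : ∀ {K : Subgroup G} {y : G}, K ∈ Ov Om s → y ∈ K → y * y = s → ∃ x ∈ K, x * x = s ∧ x ≠ y ∧ x ≠ y⁻¹ := by
    intro K y hK hy hyy
    obtain ⟨x, hx, h4, h5, h6⟩ := h.exists_anti hK.1 hy (by rw [hyy, hK.2])
    rw [hK.2] at h4
    exact ⟨x, hx, h4, h5, h6⟩
  obtain ⟨x, hx, hxx, hx1, hx2⟩ := hoff hK hy hyy
  obtain ⟨x', hx', hxx', hx1', hx2'⟩ := hoff hK' hy' hyy'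
  obtain ⟨x'', hx'', hxx'', hx1'', hx2''⟩ := hoff hK'' hy'' hyy''
  obtain ⟨g, hg⟩ : ∃ g, g = x * x' := ⟨_, rfl⟩
  -- the formula
  have key : ∀ L ∈ Ov Om t, ∃ w ∈ L, w * w = t ∧ (∀ l ∈ L, s * l * s⁻¹ = w * l * w⁻¹) ∧ g⁻¹ * t * g = t ∧
      ∃ c, (c = 1 ∨ c = s) ∧ g⁻¹ * w * g = c * (y * y') * w := by
    intro L hL
    obtain ⟨w, hw, hww, hactL⟩ := hti.1 L hL
    obtain ⟨e1, c, hc, e2⟩ := h.ti_conj_two hK hK' hKK'.symm hL hy hyy hact hy' hyy' hact' hw hww hactL hx hxx hx1 hx2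
      hx' hxx' hx1' hx2'
    rw [hg]
    exact ⟨w, hw, hww, hactL, e1, c, hc, e2⟩
  have hgt : g⁻¹ * t * g = t := by
    obtain ⟨L, hL⟩ := id ht
    obtain ⟨w, hw, hww, hactL, e1, -⟩ := key L hL
    exact e1
  have hgt' : g⁻¹ * t = t * g⁻¹ := by
    calc g⁻¹ * t = (g⁻¹ * t * g) * g⁻¹ := by group
      _ = _ := by rw [hgt]
  have hOv : ∀ {L}, L ∈ Ov Om t → cj g⁻¹ L ∈ Ov Om t := fun hL => h.Ov_cj' hL hgt'
  have hne : ∀ {L}, L ∈ Ov Om t → cj g⁻¹ L ≠ L := by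
    intro L hL
    obtain ⟨w, hw, hww, hactL, e1, c, hc, e2⟩ := key L hL
    exact h.ti_ne h3 hti hK hK' hKK'.symm hL hy hyy hy' hyy' hw hc e2
  have hcj : ∀ {L : Subgroup G} {w : G}, w ∈ L → g⁻¹ * w * g ∈ cj g⁻¹ L := by
    intro L w hw
    have h4 := conj_mem_cj (g := g⁻¹) hw
    rwa [inv_inv] at h4
  -- two members over `t`
  obtain ⟨L, hL⟩ := id ht
  have hL' := hOv hL
  obtain ⟨L₁, hL₁, hL₁L, hL₁L'⟩ := exists_third (h3 t ht) L (cj g⁻¹ L)
  have hL₁' := hOv hL₁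
  obtain ⟨w, hw, hww, hactL, -, c, hc, e2⟩ := key L hL
  obtain ⟨w₁, hw₁, hww₁, hactL₁, -, c₁, hc₁, e2₁⟩ := key L₁ hL₁
  have hLL' := hne hL
  have hL₁L₁' := hne hL₁
  have hL'L₁' : cj g⁻¹ L ≠ cj g⁻¹ L₁ := fun e => hL₁L (cj_inj.1 e).symm
  -- `s = a w₁⁻¹ w b⁻¹`
  obtain ⟨a, ha⟩ : ∃ a, a = g⁻¹ * w₁ * g := ⟨_, rfl⟩
  obtain ⟨b, hb⟩ : ∃ b, b = g⁻¹ * w * g := ⟨_, rfl⟩
  have haL : a ∈ cj g⁻¹ L₁ := by rw [ha]; exact hcj hw₁
  have hbL : b ∈ cj g⁻¹ L := by rw [hb]; exact hcj hw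
  rw [← hb] at e2
  rw [← ha] at e2₁
  have hsabs : s = a * w₁⁻¹ * (w * b⁻¹) := by
    have e3 : a * w₁⁻¹ = c₁ * (y * y') := mul_inv_eq_iff_eq_mul.2 e2₁
    have e4 : w * b⁻¹ = (c * (y * y'))⁻¹ := by rw [e2]; group
    -- `c₁ = c` is impossible
    have e5 : c₁ * c⁻¹ = 1 ∨ c₁ * c⁻¹ = s := by
      rcases hc with rfl | rfl <;> rcases hc₁ with rfl | rfl
      · left; group
      · right; group
      · right; rw [one_mul, hsi]
      · left; group
    have e6 : a * w₁⁻¹ * (w * b⁻¹) = c₁ * c⁻¹ := by rw [e3, e4]; group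
    rcases e5 with e5 | e5
    · exfalso
      rw [e5] at e6
      -- `w₁` is central in `L₁`
      apply h.four_nc' hL₁ hw₁ hww₁
      intro k hk
      have h5 : w * k = k * w := (h.Ov_comm hL₁ hL hL₁L hk hw).symm
      have h6 : b * k = k * b := (h.Ov_comm hL₁ hL' hL₁L' hk hbL).symm
      have h7 : a * k = k * a := (h.Ov_comm hL₁ hL₁' hL₁L₁'.symm hk haL).symm
      have h8 : w₁ = (w * b⁻¹) * a := by
        have h9 : a * w₁⁻¹ = (w * b⁻¹)⁻¹ := mul_eq_one_iff_eq_inv.1 e6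
        calc w₁ = (a * w₁⁻¹)⁻¹ * a := by group
          _ = _ := by rw [h9, inv_inv]
      have h10 : b⁻¹ * k = k * b⁻¹ := by rw [inv_mul_eq_iff_eq_mul, ← mul_assoc, h6, mul_inv_cancel_right]
      rw [h8]
      calc w * b⁻¹ * a * k = w * b⁻¹ * (a * k) := by group
        _ = w * (b⁻¹ * k) * a := by rw [h7]; group
        _ = (w * k) * (b⁻¹ * a) := by rw [h10]; group
        _ = k * (w * b⁻¹ * a) := by rw [h5]; group
    · rw [e6, e5]
  have hsub : ∀ M ∈ Ov Om t, M = L ∨ M = cj g⁻¹ L ∨ M = L₁ ∨ M = cj g⁻¹ L₁ := by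
    intro M hM
    by_contra hcon
    push Not at hcon
    obtain ⟨m1, m2, m3, m4⟩ := hcon
    refine h.IN_nc hti.1 hM fun k hk => ?_
    have h5 : w * k = k * w := (h.Ov_comm hM hL m1 hk hw).symm
    have h6 : b * k = k * b := (h.Ov_comm hM hL' m2 hk hbL).symm
    have h7 : a * k = k * a := (h.Ov_comm hM hL₁' m4 hk haL).symm
    have h8 : w₁ * k = k * w₁ := (h.Ov_comm hM hL₁ m3 hk hw₁).symm
    have h10 : b⁻¹ * k = k * b⁻¹ := by rw [inv_mul_eq_iff_eq_mul, ← mul_assoc, h6, mul_inv_cancel_right]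
    have h11 : w₁⁻¹ * k = k * w₁⁻¹ := by rw [inv_mul_eq_iff_eq_mul, ← mul_assoc, h8, mul_inv_cancel_right]
    rw [hsabs]
    calc a * w₁⁻¹ * (w * b⁻¹) * k = a * w₁⁻¹ * w * (b⁻¹ * k) := by group
      _ = a * w₁⁻¹ * (w * k) * b⁻¹ := by rw [h10]; group
      _ = a * (w₁⁻¹ * k) * (w * b⁻¹) := by rw [h5]; group
      _ = (a * k) * (w₁⁻¹ * (w * b⁻¹)) := by rw [h11]; group
      _ = k * (a * w₁⁻¹ * (w * b⁻¹)) := by rw [h7]; group
  -- `L₁' ≠ L`
  have hL₁'L : cj g⁻¹ L₁ ≠ L := by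
    intro hE
    rw [hE] at haL
    have haa : a * a = t := by
      rw [ha]
      calc g⁻¹ * w₁ * g * (g⁻¹ * w₁ * g) = g⁻¹ * (w₁ * w₁) * g := by group
        _ = t := by rw [hww₁, hgt]
    refine h.four_nc' hL haL haa fun k hk => ?_
    -- `k = w l w⁻¹`
    obtain ⟨l, hl⟩ : ∃ l, l = w⁻¹ * k * w := ⟨_, rfl⟩
    have hlL : l ∈ L := by rw [hl]; exact mul_mem (mul_mem (inv_mem hw) hk) hw
    have h5 := hactL l hlL
    have h6 : b * l = l * b := (h.Ov_comm hL hL' hLL'.symm hlL hbL).symm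
    have h10 : b⁻¹ * l = l * b⁻¹ := by rw [inv_mul_eq_iff_eq_mul, ← mul_assoc, h6, mul_inv_cancel_right]
    have h8 : w₁ * k = k * w₁ := (h.Ov_comm hL hL₁ hL₁L.symm hk hw₁).symm
    have h11 : w₁⁻¹ * k = k * w₁⁻¹ := by rw [inv_mul_eq_iff_eq_mul, ← mul_assoc, h8, mul_inv_cancel_right]
    have hwl : w * l * w⁻¹ = k := by rw [hl]; group
    have h12 : s * l * s⁻¹ = a * k * a⁻¹ := by
      calc s * l * s⁻¹ = a * w₁⁻¹ * (w * b⁻¹) * l * (a * w₁⁻¹ * (w * b⁻¹))⁻¹ := by rw [← hsabs]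
        _ = a * w₁⁻¹ * w * (b⁻¹ * l) * b * w⁻¹ * w₁ * a⁻¹ := by group
        _ = a * w₁⁻¹ * (w * l * w⁻¹) * w₁ * a⁻¹ := by rw [h10]; group
        _ = a * (w₁⁻¹ * k) * w₁ * a⁻¹ := by rw [hwl]; group
        _ = a * k * a⁻¹ := by rw [h11]; group
    rw [h5, hwl] at h12
    exact (mul_inv_eq_iff_eq_mul.1 h12.symm)
  have hset : Ov Om t = {L, cj g⁻¹ L, L₁, cj g⁻¹ L₁} := by
    ext M
    constructor
    · intro hM
      exact hsub M hM
    · rintro (rfl | rfl | rfl | rfl)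
      · exact hL
      · exact hL'
      · exact hL₁
      · exact hL₁'
  rw [hset, Set.ncard_insert_of_notMem, Set.ncard_insert_of_notMem, Set.ncard_pair]
  · exact hL₁L₁'.symm
  · rintro (e | e)
    · exact hL₁L' e.symm
    · exact hL'L₁' e
  · rintro (e | e | e)
    · exact hLL' e.symm
    · exact hL₁L e.symm
    · exact hL₁'L e.symm

end WR

/-- no pairs of type I, if `r ≥ 3` and `r ≠ 4` -/
theorem NoTI.of_ne [Finite G] (h : WR Om) (h3 : R3 Om) (h4 : ∀ z ∈ ZZ Om, (Ov Om z).ncard ≠ 4) : NoTI Om :=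
  fun _ hu v hv hti => h4 v hv (h.ncard_of_ti h3 hti hu hv)

end Cfsg.Agent.Cit.Nil.RG
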