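import Cfsg.Agent.Cit.Nil.RG.End
import Cfsg.Agent.Cit.Nil.RG.TIFour
import Cfsg.Agent.Cit.Nil.RG.Delta
import Cfsg.Agent.Cit.Nil.RFour.Asm

/-!
# S1309, (C3), NIL, `r ≥ 3`: the leaves

* `WR.of_w3`, `ncard_of_w3` : the world `W3 G K` (core-free) is a `WR (cls K)`, all `Ov z` have the same cardinality;
* `false_of_noTI` : NIL, `r ≥ 3`, no type I pairs: contradiction; `false_ne_four` : NIL, `r ≥ 3`, `r ≠ 4`;
* `leafR_of` : `AssemblyNil.LeafR` from NIL;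
* `NilC.nilP`, `exists_cp` (`¬ MOne`), `exists_ti`.
-/

set_option autoImplicit false
set_option linter.style.haveILetI false
set_option linter.unusedSectionVars false

namespace Cfsg.Agent.Cit.Nil.RG

open Subgroup Cfsg Cfsg.Agent.Cit
open RFour (LIn MOne)

universe u

variable {G : Type u} [Group G] [Finite G] {K L : Subgroup G} {Om : Set (Subgroup G)} {z u v : G}

theorem WR.of_w3 (w : AssemblyNil.W3 G K) (hf : ∀ t : G, orderOf t = 2 → centralizerPPrimeCore 2 t = ⊥) :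
    WR (cls K) := by
  have hyp := w.hyp
  have hO : ∀ L ∈ cls K, OO L = ⊥ := fun L hL => ROne.OO_eq_bot hyp hL (hf _ (hyp.orderOf_zz hL))
  refine WR.of_hyp hyp ?_
  rintro L ⟨g, rfl⟩
  rw [card_cj]
  exact ROne.card_eight w.nil w.c3 (hO K (self_mem_cls K))

theorem ncard_of_w3 (w : AssemblyNil.W3 G K) (hz : z ∈ ZZ (cls K)) :
    (Ov (cls K) z).ncard = (AssemblyNil.ovr K).ncard := by
  have hyp := w.hyp
  obtain ⟨L, ⟨g, rfl⟩, rfl⟩ := hz
  have h2 : Ov (cls K) (zz (cj g K)) = (cj g) '' (AssemblyNil.ovr K) := by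
    ext M
    constructor
    · rintro ⟨hM, hz⟩
      refine ⟨cj g⁻¹ M, ⟨hyp.conj M hM _, ?_⟩, cj_cj_inv g M⟩
      rw [hyp.zz_cj hM, hz, hyp.zz_cj (self_mem_cls K)]
      group
    · rintro ⟨M, ⟨hM, hz⟩, rfl⟩
      refine ⟨hyp.conj M hM g, ?_⟩
      rw [hyp.zz_cj hM, hz, hyp.zz_cj (self_mem_cls K)]
  rw [h2, Set.ncard_image_of_injective _ (fun A B hAB => cj_inj.1 hAB)]

theorem R3.of_w3 (w : AssemblyNil.W3 G K) (h3 : 3 ≤ (AssemblyNil.ovr K).ncard) : R3 (cls K) := fun z hz => by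
  rw [ncard_of_w3 w hz]; exact h3

/-- **NIL, `r ≥ 3`, no type I pairs** -/
theorem false_of_noTI (i : LIn.{u}) (w : AssemblyNil.W3 G K)
    (hf : ∀ t : G, orderOf t = 2 → centralizerPPrimeCore 2 t = ⊥) (h3 : 3 ≤ (AssemblyNil.ovr K).ncard)
    (hT : NoTI (cls K)) (nil : NilC (cls K)) : False := by
  have h := WR.of_w3 w hf
  have r3 := R3.of_w3 w h3
  have hC : AllC (cls K) := fun s hs x hx hne hc => h.cp_of_comm hT r3 hs hx hne hc
  have f := ROne.fsimp_of w.simple w.na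
  haveI := f.sim
  have gold : Cit.ROne.Gold ↥(generalizedFittingSubgroup G) := fun S A h1 h2 h3 => i.gold _ S A h1 h2 h3
  have hB : CloEnd.Bend ↥(generalizedFittingSubgroup G) := i.bend _
  exact h.false_of_nil w.hyp hC r3.r2 nil (z := zz K) ⟨K, self_mem_cls K, rfl⟩ f w.even gold hB

/-- **NIL, `r ≥ 3`, `r ≠ 4`** -/
theorem false_ne_four (i : LIn.{u}) (w : AssemblyNil.W3 G K)
    (hf : ∀ t : G, orderOf t = 2 → centralizerPPrimeCore 2 t = ⊥) (h3 : 3 ≤ (AssemblyNil.ovr K).ncard)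
    (h4 : (AssemblyNil.ovr K).ncard ≠ 4) (nil : NilC (cls K)) : False :=
  false_of_noTI i w hf h3 (NoTI.of_ne (WR.of_w3 w hf) (R3.of_w3 w h3) (fun z hz => by
    rw [ncard_of_w3 w hz]; exact h4)) nil

theorem three_le (_w : AssemblyNil.W3 G K) (h1 : (AssemblyNil.ovr K).ncard ≠ 1) (h2 : (AssemblyNil.ovr K).ncard ≠ 2) :
    3 ≤ (AssemblyNil.ovr K).ncard := by
  have h3 : (AssemblyNil.ovr K).ncard ≠ 0 := by
    rw [Ne, Set.ncard_eq_zero]
    exact Set.Nonempty.ne_empty ⟨K, self_mem_cls K, rfl⟩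
  omega

/-- **`AssemblyNil.LeafR` from NIL** -/
theorem leafR_of (i : LIn.{u})
    (h1311 : ∀ (G : Type u) [Group G] [Finite G], AssemblyNil.FS G → AssemblyNil.St1311 G)
    (hU : AssemblyNil.UnbalStmt.{u})
    (nil : ∀ (G : Type u) [Group G] [Finite G] (K : Subgroup G), AssemblyNil.W3 G K →
      (∀ t : G, orderOf t = 2 → centralizerPPrimeCore 2 t = ⊥) → 3 ≤ (AssemblyNil.ovr K).ncard →
      (AssemblyNil.ovr K).ncard ≠ 4 → NoTI (cls K) → NilC (cls K)) : AssemblyNil.LeafR.{u} := by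
  intro G _ _ K w e1 e2 e4
  by_cases hb : ∀ t : G, orderOf t = 2 → centralizerPPrimeCore 2 t = ⊥
  · have h3 := three_le w e1 e2
    have hT : NoTI (cls K) := NoTI.of_ne (WR.of_w3 w hb) (R3.of_w3 w h3) (fun z hz => by
      rw [ncard_of_w3 w hz]; exact e4)
    exact (false_ne_four i w hb h3 e4 (nil G K w hb h3 e4 hT)).elim
  push Not at hb
  obtain ⟨t, ht, ht2⟩ := hb
  rcases h1311 G w.toFS t ht ht2 with h3 | h3
  · exact Or.inl h3
  · exact (hU G K w h3).elim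

/-! ### Auxiliary facts for `r = 4` -/

theorem NilC.nilP (h : WR Om) (nil : NilC Om) : NilP Om := by
  intro u hu v hv hc
  obtain ⟨N, h1, h2, h3⟩ := nil u hu v hv hc
  have hvC : v ∈ centralizer {u} := mem_centralizer_singleton_iff.2 (h.CP_comm hc hu hv).symm
  refine ⟨N ⊓ centralizer {u}, inf_le_right, ?_, h2.to_le inf_le_left, mem_inf.2 ⟨h3, hvC⟩⟩
  intro g hg
  rw [mem_normalizer_iff_cj]
  rw [cj_inf, mem_normalizer_iff_cj.1 (h1 hg), mem_normalizer_iff_cj.1 (le_normalizer hg)]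

/-- `m ≥ 2`: all elements of `Z` have C-partners -/
theorem exists_cp (h : WR (cls K)) (hm : ¬ MOne (cls K)) (hz : z ∈ ZZ (cls K)) : ∃ a ∈ ZZ (cls K), CP (cls K) z a := by
  unfold MOne at hm
  push Not at hm
  obtain ⟨M, hM, L, hL, hc, hne⟩ := hm
  have hcp : CP (cls K) (zz M) (zz L) := h.CP_of_cen (K := M) ⟨hM, rfl⟩
    (fun k hk => (hc k hk _ (h.zm hL)).symm) hne
  obtain ⟨N, hN, rfl⟩ := hz
  obtain ⟨g, rfl⟩ := RFour.oneCls_cls K M hM N hN
  refine ⟨g * zz L * g⁻¹, h.zz_cj ⟨L, hL, rfl⟩ g, ?_⟩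
  rw [h.zcj hM]
  exact h.CP_cj hcp g

end Cfsg.Agent.Cit.Nil.RG
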