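import Cfsg.Agent.Cit.Nil.RG.Act
import Cfsg.Agent.Cit.NilComp

/-!
# (6b), general `r`: the group `R_z` and the trichotomy (helper488)

* `SS_comm`, `SS_split`, `SS_center` : the central product of a set of members over `z`;
* `RR_conj`, `RR_sq`, `RR_inn`;
* `tri` : two commuting elements of `ZZ Om` : C-pair, type I, or free on each other;
* `WR.of_hyp` : from `Hyp Om`.
-/

set_option autoImplicit false
set_option linter.style.haveILetI false
set_option linter.unusedSectionVars false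

namespace Cfsg.Agent.Cit.Nil.RG

open Subgroup Cfsg Cit QuaternionGroup
open Cfsg.Agent.Cit.Nil.ROne

variable {G : Type*} [Group G]

section SS

variable {𝒦 𝒦' : Set (Subgroup G)} {K L : Subgroup G} {x y z g u v k w : G}

theorem mem_SS_of (hK : K ∈ 𝒦) (hx : x ∈ K) : x ∈ SS 𝒦 := subset_closure ⟨K, hK, hx⟩

theorem le_SS (hK : K ∈ 𝒦) : K ≤ SS 𝒦 := fun _ hx => mem_SS_of hK hx

theorem SS_le (h : ∀ K ∈ 𝒦, K ≤ L) : SS 𝒦 ≤ L := by
  rw [SS, closure_le]
  rintro g ⟨K, hK, hg⟩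
  exact h K hK hg

theorem SS_mono (h : 𝒦 ⊆ 𝒦') : SS 𝒦 ≤ SS 𝒦' := SS_le fun _ hK => le_SS (h hK)

theorem SS_empty : SS (∅ : Set (Subgroup G)) = ⊥ := by
  rw [eq_bot_iff]
  exact SS_le fun K hK => absurd hK (Set.notMem_empty K)

/-- an element commuting with the members commutes with `SS 𝒦` -/
theorem SS_comm (h : ∀ K ∈ 𝒦, ∀ k ∈ K, x * k = k * x) (hg : g ∈ SS 𝒦) : x * g = g * x := by
  have h1 : SS 𝒦 ≤ centralizer {x} := SS_le fun K hK k hk => by
    rw [mem_centralizer_singleton_iff]; exact (h K hK k hk).symm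
  exact (mem_centralizer_singleton_iff.1 (h1 hg)).symm

theorem SS_comm' (h : ∀ K ∈ 𝒦, ∀ L ∈ 𝒦', ∀ k ∈ K, ∀ l ∈ L, k * l = l * k) (hx : x ∈ SS 𝒦) (hg : g ∈ SS 𝒦') :
    x * g = g * x := by
  refine SS_comm (fun L hL l hl => ?_) hg
  exact (SS_comm (x := l) (fun K hK k hk => (h K hK L hL k hk l hl).symm) hx).symm

/-- conjugation of `SS 𝒦` -/
theorem SS_cj_le (h : ∀ K ∈ 𝒦, cj g K ∈ 𝒦') (hx : x ∈ SS 𝒦) : g * x * g⁻¹ ∈ SS 𝒦' := by
  have h1 : SS 𝒦 ≤ (SS 𝒦').comap (MulAut.conj g).toMonoidHom := SS_le fun K hK k hk =>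
    mem_SS_of (h K hK) (conj_mem_cj hk)
  exact h1 hx

end SS

theorem CP.symm {Om : Set (Subgroup G)} {u v : G} (hc : CP Om u v) : CP Om v u :=
  ⟨hc.1.symm, fun K hK L hL a ha b hb => (hc.2 L hL K hK b hb a ha).symm⟩

theorem TI.symm {Om : Set (Subgroup G)} {u v : G} (hc : TI Om u v) : TI Om v u := ⟨hc.2, hc.1⟩

namespace WR

variable {Om : Set (Subgroup G)} {𝒦 𝒦' : Set (Subgroup G)} {K L M : Subgroup G} {z x y g g' u v w a a' b k r s t : G}

section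

variable (h : WR Om)

include h

theorem zz_ne (hz : z ∈ ZZ Om) : z ≠ 1 := by
  obtain ⟨K, hK, rfl⟩ := hz; exact h.zn hK

theorem zz_sq (hz : z ∈ ZZ Om) : z * z = 1 := by
  obtain ⟨K, hK, rfl⟩ := hz; exact h.zs hK

theorem zz_inv (hz : z ∈ ZZ Om) : z⁻¹ = z := inv_eq_of_mul_eq_one_right (h.zz_sq hz)

theorem zz_cj (hz : z ∈ ZZ Om) (g : G) : g * z * g⁻¹ ∈ ZZ Om := by
  obtain ⟨K, hK, rfl⟩ := hz
  exact ⟨cj g K, h.conj K hK g, h.zcj hK g⟩

theorem Ov_cj (hK : K ∈ Ov Om z) (g : G) : cj g K ∈ Ov Om (g * z * g⁻¹) :=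
  ⟨h.conj K hK.1 g, by rw [h.zcj hK.1, hK.2]⟩

theorem Ov_cj' (hK : K ∈ Ov Om z) (hg : g * z = z * g) : cj g K ∈ Ov Om z := by
  have h1 := h.Ov_cj hK g
  rwa [hg, mul_inv_cancel_right] at h1

omit h in
theorem Ov_zz (hK : K ∈ Ov Om z) : z ∈ ZZ Om := ⟨K, hK⟩

theorem Ov_mem (hK : K ∈ Ov Om z) : z ∈ K := by
  have := h.zm hK.1; rwa [hK.2] at this

theorem Ov_cen (hK : K ∈ Ov Om z) (hk : k ∈ K) : z * k = k * z := by
  have := h.cen hK.1 hk; rw [hK.2] at this; exact this.symm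

theorem Ov_comm (hK : K ∈ Ov Om z) (hL : L ∈ Ov Om z) (hne : K ≠ L) (ha : a ∈ K) (hb : b ∈ L) : a * b = b * a :=
  h.comm K hK.1 L hL.1 (hK.2.trans hL.2.symm) hne a ha b hb

/-- commuting with `K` modulo the other members -/
theorem Ov_central (hK : K ∈ Ov Om z) (hx : x ∈ K) (hc : ∀ k ∈ K, x * k = k * x) : x = 1 ∨ x = z := by
  have := h.central hK.1 hx hc; rwa [hK.2] at this

theorem Ov_ne (ht : K ∈ Ov Om z) (hL : L ∈ Ov Om t) (hne : z ≠ t) : K ≠ L := by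
  rintro rfl
  exact hne (ht.2.symm.trans hL.2)

theorem zz_SS (hK : K ∈ 𝒦) (h𝒦 : 𝒦 ⊆ Ov Om z) : z ∈ SS 𝒦 := mem_SS_of hK (h.Ov_mem (h𝒦 hK))

theorem SS_cen (h𝒦 : 𝒦 ⊆ Ov Om z) (hx : x ∈ SS 𝒦) : z * x = x * z :=
  SS_comm (fun K hK k hk => h.Ov_cen (h𝒦 hK) hk) hx

/-- splitting off a member -/
theorem SS_split (h𝒦 : 𝒦 ⊆ Ov Om z) (hK : K ∈ 𝒦) (hv : v ∈ SS 𝒦) :
    ∃ k ∈ K, ∃ w ∈ SS (𝒦 \ {K}), v = k * w ∧ ∀ l ∈ K, w * l = l * w := by
  have hcom : ∀ w ∈ SS (𝒦 \ {K}), ∀ l ∈ K, w * l = l * w := by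
    intro w hw l hl
    refine (SS_comm (x := l) (fun L hL k hk => ?_) hw).symm
    exact h.Ov_comm (h𝒦 hK) (h𝒦 hL.1) (fun h1 => hL.2 h1.symm) hl hk
  have h1 : ∃ k ∈ K, ∃ w ∈ SS (𝒦 \ {K}), v = k * w := by
    refine closure_induction (p := fun v _ => ∃ k ∈ K, ∃ w ∈ SS (𝒦 \ {K}), v = k * w) ?_ ?_ ?_ ?_ hv
    · rintro g ⟨L, hL, hg⟩
      by_cases hLK : L = K
      · subst hLK
        exact ⟨g, hg, 1, one_mem _, (mul_one g).symm⟩
      · exact ⟨1, one_mem _, g, mem_SS_of (K := L) ⟨hL, hLK⟩ hg, (one_mul g).symm⟩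
    · exact ⟨1, one_mem _, 1, one_mem _, (mul_one 1).symm⟩
    · rintro _ _ - - ⟨k, hk, w, hw, rfl⟩ ⟨k', hk', w', hw', rfl⟩
      refine ⟨k * k', mul_mem hk hk', w * w', mul_mem hw hw', ?_⟩
      calc k * w * (k' * w') = k * (w * k') * w' := by group
        _ = k * (k' * w) * w' := by rw [hcom w hw k' hk']
        _ = k * k' * (w * w') := by group
    · rintro _ - ⟨k, hk, w, hw, rfl⟩
      refine ⟨k⁻¹, inv_mem hk, w⁻¹, inv_mem hw, ?_⟩
      rw [_root_.mul_inv_rev, hcom _ (inv_mem hw) _ (inv_mem hk)]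
  obtain ⟨k, hk, w, hw, h2⟩ := h1
  exact ⟨k, hk, w, hw, h2, hcom w hw⟩

/-- `K ∩ SS 𝒦 = ⟨z⟩` -/
theorem SS_inf (hK : K ∈ Ov Om z) (h𝒦 : 𝒦 ⊆ Ov Om z) (hn : K ∉ 𝒦) (hx : x ∈ K) (hx' : x ∈ SS 𝒦) : x = 1 ∨ x = z := by
  refine h.Ov_central hK hx fun k hk => ?_
  refine (SS_comm (x := k) (fun L hL l hl => ?_) hx').symm
  exact h.Ov_comm hK (h𝒦 hL) (fun h1 => hn (by rw [h1]; exact hL)) hk hl

/-- the centre of `SS 𝒦` -/
theorem SS_center [Finite G] : ∀ (n : ℕ) (𝒦 : Set (Subgroup G)), 𝒦.ncard = n → 𝒦 ⊆ Ov Om z → ∀ v ∈ SS 𝒦,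
    (∀ K ∈ 𝒦, ∀ k ∈ K, v * k = k * v) → v = 1 ∨ v = z := by
  intro n
  induction n with
  | zero =>
    intro 𝒦 hn h𝒦 v hv hc
    rw [Set.ncard_eq_zero] at hn
    subst hn
    rw [SS_empty, mem_bot] at hv
    exact Or.inl hv
  | succ n ih =>
    intro 𝒦 hn h𝒦 v hv hc
    obtain ⟨K, hK⟩ : 𝒦.Nonempty := by
      rw [Set.nonempty_iff_ne_empty]; rintro rfl; rw [Set.ncard_empty] at hn; omega
    obtain ⟨k, hk, w, hw, rfl, hcw⟩ := h.SS_split h𝒦 hK hv
    have hk1 : k = 1 ∨ k = z := by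
      refine h.Ov_central (h𝒦 hK) hk fun l hl => ?_
      have h1 := hc K hK l hl
      have h2 : k * l * w = l * k * w := by
        calc k * l * w = k * (l * w) := by group
          _ = k * w * l := by rw [← hcw l hl]; group
          _ = l * (k * w) := h1
          _ = l * k * w := by group
      exact mul_right_cancel h2
    have hk2 : ∀ L ∈ 𝒦, ∀ l ∈ L, k * l = l * k := by
      intro L hL l hl
      rcases hk1 with rfl | rfl
      · rw [one_mul, mul_one]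
      · exact h.Ov_cen (h𝒦 hL) hl
    have hw1 : w = 1 ∨ w = z := by
      refine ih (𝒦 \ {K}) ?_ (Set.sdiff_subset.trans h𝒦) w hw fun L hL l hl => ?_
      · have h1 := Set.ncard_sdiff_singleton_add_one hK (Set.toFinite 𝒦)
        omega
      · have h1 := hc L hL.1 l hl
        have h2 := hk2 L hL.1 l hl
        have h3 : k * (w * l) = k * (l * w) := by
          calc k * (w * l) = k * w * l := by group
            _ = l * (k * w) := h1
            _ = (l * k) * w := by group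
            _ = k * (l * w) := by rw [← h2]; group
        exact mul_left_cancel h3
    have hzz := h.zz_sq (Ov_zz (h𝒦 hK))
    rcases hk1 with rfl | rfl <;> rcases hw1 with rfl | rfl
    · left; rw [one_mul]
    · right; rw [one_mul]
    · right; rw [mul_one]
    · left; exact hzz

theorem RR_center [Finite G] (hv : v ∈ RR Om z) (hc : ∀ K ∈ Ov Om z, ∀ k ∈ K, v * k = k * v) : v = 1 ∨ v = z :=
  h.SS_center _ _ rfl subset_rfl v hv hc

theorem RR_mem (hz : z ∈ ZZ Om) : z ∈ RR Om z := by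
  obtain ⟨K, hK⟩ := hz; exact h.zz_SS (𝒦 := Ov Om z) hK subset_rfl

omit h in
theorem le_RR (hK : K ∈ Ov Om z) : K ≤ RR Om z := le_SS hK

theorem RR_cen (hx : x ∈ RR Om z) : z * x = x * z := h.SS_cen (𝒦 := Ov Om z) subset_rfl hx

theorem RR_cj (hx : x ∈ RR Om z) (g : G) : g * x * g⁻¹ ∈ RR Om (g * z * g⁻¹) :=
  SS_cj_le (fun _ hK => h.Ov_cj hK g) hx

theorem RR_cj' (hx : x ∈ RR Om z) (hg : g * z = z * g) : g * x * g⁻¹ ∈ RR Om z := by
  have h1 := h.RR_cj hx g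
  rwa [hg, mul_inv_cancel_right] at h1

/-- elements of `R_z` act inner on the members over `z` -/
theorem RR_inn (hx : x ∈ RR Om z) (hK : K ∈ Ov Om z) : Inn x K := by
  refine closure_induction (p := fun x _ => Inn x K) ?_ ?_ ?_ ?_ hx
  · rintro g ⟨L, hL, hg⟩
    by_cases hLK : L = K
    · subst hLK; exact Inn.of_mem hg
    · exact Inn.of_comm fun k hk => h.Ov_comm hL hK hLK hg hk
  · exact Inn.of_mem (one_mem K)
  · intro x y _ _ hx hy; exact hx.mul hy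
  · intro x _ hx; exact hx.inv

/-- `[R_z, R_z] ≤ ⟨z⟩` -/
theorem RR_conj (hr : r ∈ RR Om z) (hs : s ∈ RR Om z) : r * s * r⁻¹ = s ∨ r * s * r⁻¹ = z * s := by
  by_cases hz : z ∈ ZZ Om
  swap
  · have h1 : RR Om z = ⊥ := by
      rw [eq_bot_iff]
      exact SS_le fun K hK => absurd (Ov_zz hK) hz
    rw [h1, mem_bot] at hr hs
    subst hr hs
    left; group
  have hzz := h.zz_sq hz
  -- one factor in a member
  have key : ∀ K ∈ Ov Om z, ∀ a ∈ K, ∀ s ∈ RR Om z, a * s * a⁻¹ = s ∨ a * s * a⁻¹ = z * s := by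
    intro K hK a ha s hs
    obtain ⟨k, hk, w, hw, rfl, hc⟩ := h.SS_split (𝒦 := Ov Om z) subset_rfl hK hs
    have h1 : a * (k * w) * a⁻¹ = (a * k * a⁻¹) * w := by
      calc a * (k * w) * a⁻¹ = a * k * (w * a⁻¹) := by group
        _ = a * k * (a⁻¹ * w) := by rw [hc a⁻¹ (inv_mem ha)]
        _ = _ := by group
    rw [h1]
    rcases h.conj_cases hK.1 ha hk with h2 | h2
    · left; rw [h2]
    · right; rw [h2, hK.2, mul_assoc]
  refine closure_induction (p := fun r _ => r * s * r⁻¹ = s ∨ r * s * r⁻¹ = z * s) ?_ ?_ ?_ ?_ hr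
  · rintro g ⟨K, hK, hg⟩; exact key K hK g hg s hs
  · left; group
  · intro p q hp hq h1 h2
    have h3 : p * q * s * (p * q)⁻¹ = p * (q * s * q⁻¹) * p⁻¹ := by group
    have h4 : p * (z * s) * p⁻¹ = z * (p * s * p⁻¹) := by
      have h5 := h.RR_cen hp
      calc p * (z * s) * p⁻¹ = (p * z) * s * p⁻¹ := by group
        _ = _ := by rw [← h5]; group
    rw [h3]
    rcases h2 with h2 | h2
    · rw [h2]; exact h1
    · rw [h2, h4]
      rcases h1 with h1 | h1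
      · right; rw [h1]
      · left; rw [h1, ← mul_assoc, hzz, one_mul]
  · intro p hp h1
    have h5 := h.RR_cen hp
    rcases h1 with h1 | h1
    · left
      nth_rw 1 [← h1]; group
    · right
      have h2 : s = z * (p * s * p⁻¹) := by rw [h1, ← mul_assoc, hzz, one_mul]
      calc p⁻¹ * s * p⁻¹⁻¹ = p⁻¹ * (z * (p * s * p⁻¹)) * p⁻¹⁻¹ := by rw [← h2]
        _ = p⁻¹ * (z * p) * s := by group
        _ = z * s := by rw [h5]; group

/-- squares in `R_z` -/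
theorem RR_sq (hr : r ∈ RR Om z) : r * r = 1 ∨ r * r = z := by
  by_cases hz : z ∈ ZZ Om
  swap
  · have h1 : RR Om z = ⊥ := by
      rw [eq_bot_iff]
      exact SS_le fun K hK => absurd (Ov_zz hK) hz
    rw [h1, mem_bot] at hr
    subst hr
    left; rw [one_mul]
  have hzz := h.zz_sq hz
  refine closure_induction (p := fun r _ => r * r = 1 ∨ r * r = z) ?_ ?_ ?_ ?_ hr
  · rintro g ⟨K, hK, hg⟩
    have := h.sq hK.1 hg; rwa [hK.2] at this
  · left; rw [one_mul]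
  · intro p q hp hq h1 h2
    have h3 := h.RR_conj hq hp
    have h5 := h.RR_cen hp
    have h6 : p * q * (p * q) = p * (q * p * q⁻¹) * (q * q) := by group
    rw [h6]
    have h7 : p * (q * p * q⁻¹) = 1 ∨ p * (q * p * q⁻¹) = z := by
      rcases h3 with h3 | h3
      · rw [h3]; exact h1
      · have h8 : p * (z * p) = z * (p * p) := by rw [← mul_assoc, ← h5, mul_assoc]
        rw [h3, h8]
        rcases h1 with h1 | h1
        · right; rw [h1, mul_one]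
        · left; rw [h1, hzz]
    rcases h7 with h7 | h7 <;> rcases h2 with h2 | h2 <;> rw [h7, h2]
    · left; rw [one_mul]
    · right; rw [one_mul]
    · right; rw [mul_one]
    · left; exact hzz
  · intro p hp h1
    rcases h1 with h1 | h1
    · left
      rw [← _root_.mul_inv_rev, h1, inv_one]
    · right
      rw [← _root_.mul_inv_rev, h1, h.zz_inv hz]

theorem RR_two (hz : z ∈ ZZ Om) : IsPGroup 2 (RR Om z) := by
  rw [IsPGroup]
  rintro ⟨r, hr⟩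
  refine ⟨2, Subtype.ext ?_⟩
  change r ^ 2 ^ 2 = 1
  have h1 : r ^ 2 ^ 2 = (r * r) * (r * r) := by
    change r ^ 4 = _
    simp only [pow_succ, pow_zero, one_mul, mul_assoc]
  rw [h1]
  rcases h.RR_sq hr with h2 | h2 <;> rw [h2]
  · rw [one_mul]
  · exact h.zz_sq hz

/-! ### The trichotomy -/

/-- `t` inner on one member over `z`: `z` is inner on all members over `t` -/
theorem inn_swap (hK : K ∈ Ov Om z) (hi : Inn t K) (hL : L ∈ Ov Om t) : Inn z L := by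
  obtain ⟨y, hy, hyy, h1⟩ := h.exists_fix hK.1 hi
  rw [hK.2] at hyy
  have hyt : y * t = t * y := by
    rw [mul_inv_eq_iff_eq_mul] at h1; exact h1.symm
  have h2 := h.h3 K hK.1 L hL.1 y hy (by rw [hyy, hK.2]) (by rw [hL.2]; exact hyt)
  have h3 := h.inn_sq hL.1 h2 (by rw [hyy]; exact h.zz_sq (Ov_zz hK))
  rwa [hyy] at h3

/-- `t` centralises `K`: C-pair -/
theorem comm_of_cen (hK : K ∈ Ov Om z) (hc : ∀ k ∈ K, t * k = k * t) (hne : z ≠ t) (hL : L ∈ Ov Om t) :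
    ∀ a ∈ K, ∀ b ∈ L, a * b = b * a := by
  -- `K` normalises `L`
  have hn : K ≤ normalizer (L : Set G) := by
    intro k hk
    rw [mem_normalizer_iff_cj]
    rcases h.sq hK.1 hk with h1 | h1
    · have h2 : ∀ l ∈ L, z * l = l * z ∨ True := fun _ _ => Or.inr trivial
      rcases h.uniq hK.1 hk h1 with h3 | h3
      · rw [h3, cj_one]
      · -- `z = y²`
        obtain ⟨y, hy, hyy⟩ := h.exists_four hK.1
        have h4 := h.h3 K hK.1 L hL.1 y hy hyy (by rw [hL.2]; exact (hc y hy).symm)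
        rw [h3, ← hyy, cj_mul, h4, h4]
    · exact h.h3 K hK.1 L hL.1 k hk h1 (by rw [hL.2]; exact (hc k hk).symm)
  have hT : IsPGroup 2 (K ⊔ L : Subgroup G) := (h.two hK.1).to_sup_of_normal_right' (h.two hL.1) hn
  exact h.pg K hK.1 L hL.1 _ hT le_sup_left le_sup_right (h.Ov_ne hK hL hne)

theorem CP_of_cen (hK : K ∈ Ov Om z) (hc : ∀ k ∈ K, t * k = k * t) (hne : z ≠ t) : CP Om z t := by
  refine ⟨hne, fun K' hK' L hL => ?_⟩
  have h1 := h.comm_of_cen hK hc hne hL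
  -- `z` centralises `L`
  have h2 : ∀ l ∈ L, z * l = l * z := fun l hl => h1 z (h.Ov_mem hK) l hl
  intro a ha b hb
  exact (h.comm_of_cen hL h2 hne.symm hK' b hb a ha).symm

/-- a C-pair: the groups `R` commute -/
theorem CP_RR (hc : CP Om u v) (ha : a ∈ RR Om u) (hb : b ∈ RR Om v) : a * b = b * a :=
  SS_comm' (fun K hK L hL k hk l hl => hc.2 K hK L hL k hk l hl) ha hb

/-- inner but nontrivial -/
theorem IN_of (hI : ∀ K ∈ Ov Om z, Inn t K) (hn : ∀ K ∈ Ov Om z, ¬ ∀ k ∈ K, t * k = k * t) : IN Om t z := by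
  intro K hK
  obtain ⟨y, hy, h1⟩ := hI K hK
  refine ⟨y, hy, ?_, h1⟩
  have hnc : ¬ ∀ k ∈ K, y * k = k * y := by
    intro h2
    apply hn K hK
    intro k hk
    have h3 := h1 k hk
    rw [h2 k hk, mul_inv_cancel_right, mul_inv_eq_iff_eq_mul] at h3
    exact h3
  rw [← hK.2]
  refine h.sq_eq hK.1 hy ?_ ?_
  · rintro rfl; exact hnc fun k _ => by rw [one_mul, mul_one]
  · rintro rfl; exact hnc fun k hk => (h.cen hK.1 hk).symm

/-- **trichotomy** -/
theorem tri (hz : z ∈ ZZ Om) (ht : t ∈ ZZ Om) (hne : z ≠ t) :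
    CP Om z t ∨ TI Om z t ∨ (Fr Om z t ∧ Fr Om t z) := by
  by_cases hex : ∃ K ∈ Ov Om z, Inn t K
  · obtain ⟨K, hK, hi⟩ := hex
    have h1 : ∀ L ∈ Ov Om t, Inn z L := fun L hL => h.inn_swap hK hi hL
    obtain ⟨L, hL⟩ := ht
    have h2 : ∀ K ∈ Ov Om z, Inn t K := fun K hK => h.inn_swap hL (h1 L hL) hK
    by_cases hc : ∃ K ∈ Ov Om z, ∀ k ∈ K, t * k = k * t
    · obtain ⟨K', hK', hc'⟩ := hc
      exact Or.inl (h.CP_of_cen hK' hc' hne)
    push Not at hc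
    have hc' : ∀ K ∈ Ov Om z, ¬ ∀ k ∈ K, t * k = k * t := by
      intro K hK h3
      obtain ⟨k, hk, h4⟩ := hc K hK
      exact h4 (h3 k hk)
    have hd' : ∀ L ∈ Ov Om t, ¬ ∀ l ∈ L, z * l = l * z := by
      intro L hL h3
      have h4 := (h.CP_of_cen hL h3 hne.symm).symm
      exact hc' K hK fun k hk => (h4.2 K hK L hL k hk t (h.Ov_mem hL)).symm
    exact Or.inr (Or.inl ⟨h.IN_of h1 hd', h.IN_of h2 hc'⟩)
  · push Not at hex
    refine Or.inr (Or.inr ⟨?_, fun K hK _ => hex K hK⟩)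
    intro L hL _ hi
    obtain ⟨K, hK⟩ := hz
    exact hex K hK (h.inn_swap hL hi hK)

/-- a C-pair is inner -/
theorem CP_inn (hc : CP Om u v) (hu : u ∈ ZZ Om) (hL : L ∈ Ov Om v) : ∀ l ∈ L, u * l = l * u := by
  obtain ⟨K, hK⟩ := hu
  exact fun l hl => hc.2 K hK L hL u (h.Ov_mem hK) l hl

theorem CP_comm (hc : CP Om u v) (hu : u ∈ ZZ Om) (hv : v ∈ ZZ Om) : u * v = v * u :=
  h.CP_RR hc (h.RR_mem hu) (h.RR_mem hv)

theorem CP_cj (hc : CP Om u v) (g : G) : CP Om (g * u * g⁻¹) (g * v * g⁻¹) := by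
  refine ⟨fun h1 => hc.1 (mul_left_cancel (mul_right_cancel h1)), fun K hK L hL a ha b hb => ?_⟩
  have h1 := h.Ov_cj hK g⁻¹
  have h2 := h.Ov_cj hL g⁻¹
  rw [show g⁻¹ * (g * u * g⁻¹) * g⁻¹⁻¹ = u by group] at h1
  rw [show g⁻¹ * (g * v * g⁻¹) * g⁻¹⁻¹ = v by group] at h2
  have h3 := hc.2 _ h1 _ h2 _ (conj_mem_cj ha) _ (conj_mem_cj hb)
  calc a * b = g * (g⁻¹ * a * g⁻¹⁻¹ * (g⁻¹ * b * g⁻¹⁻¹)) * g⁻¹ := by group
    _ = g * (g⁻¹ * b * g⁻¹⁻¹ * (g⁻¹ * a * g⁻¹⁻¹)) * g⁻¹ := by rw [h3]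
    _ = b * a := by group

end

/-! ### From `Hyp Om` -/

theorem of_hyp [Finite G] (h : Hyp Om) (h8 : ∀ K ∈ Om, Nat.card K = 8) : WR Om := by
  haveI : Fact (Nat.Prime 2) := ⟨Nat.prime_two⟩
  have h2 : ∀ K ∈ Om, IsPGroup 2 K := fun K hK => IsPGroup.of_card (n := 3) (h8 K hK)
  have hq : ∀ K ∈ Om, Nonempty (K ≃* QuaternionGroup 2) := by
    intro K hK
    obtain ⟨S, n, ⟨e⟩⟩ := h.quat K hK
    have h3 : (S : Subgroup K) = ⊤ := by
      have h4 : IsPGroup 2 (⊤ : Subgroup K) := (h2 K hK).to_subgroup ⊤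
      exact S.is_maximal' h4 le_top |>.symm
    have h5 : Nat.card (S : Subgroup K) = 8 := by rw [h3, card_top, h8 K hK]
    have h6 : n = 0 := by
      rw [Nat.card_congr e.toEquiv, Nat.card_eq_fintype_card, QuaternionGroup.card, pow_succ] at h5
      by_contra hn
      have h7 : 2 ^ 1 ≤ 2 ^ n := Nat.pow_le_pow_right (by norm_num) (by omega)
      omega
    subst h6
    exact ⟨(((MulEquiv.subgroupCongr h3).trans topEquiv).symm.trans e)⟩
  have hpg : ∀ K ∈ Om, ∀ L ∈ Om, ∀ T : Subgroup G, IsPGroup 2 T → K ≤ T → L ≤ T → K ≠ L →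
      ∀ a ∈ K, ∀ b ∈ L, a * b = b * a := by
    intro K hK L hL T hT hKT hLT hne a ha b hb
    have hm : ∀ M ∈ Om, M ≤ T → M ∈ OmS Om T := by
      intro M hM hMT
      refine ⟨hM, ?_⟩
      rw [relIndex_eq_one.2 hMT]
      norm_num
    exact h.comm hT (hm K hK hKT) (hm L hL hLT) hne (mem_inf.2 ⟨ha, hKT ha⟩) (mem_inf.2 ⟨hb, hLT hb⟩)
  refine ⟨hq, h.conj, ?_, ?_, hpg⟩
  · intro K hK L hL hz hne a ha b hb
    exact h.comm_of_zz_comm hK hL (h2 K hK) (h2 L hL) (fun a ha => by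
      rw [← hz]
      exact mem_centralizer_singleton_iff.1 (h.le_centralizer hK ha)) hne a ha b hb
  · intro K hK L hL y hy hyy hyL
    rw [← mem_normalizer_iff_cj]
    refine h.h3 K hK L hL y hy ?_ ?_ hyL
    · exact (h2 K hK).to_le (by rwa [zpowers_le])
    · have h1 : orderOf y = 4 := by
        have h3 := orderOf_eq_prime_pow (p := 2) (n := 1) (x := y)
          (by rw [pow_one, pow_two, hyy]; exact h.zz_ne hK)
          (by
            have : y ^ 2 ^ (1 + 1) = (y * y) * (y * y) := by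
              change y ^ 4 = _
              simp only [pow_succ, pow_zero, one_mul, mul_assoc]
            rw [this, hyy, h.zz_mul hK])
        simpa using h3
      omega

end WR

end Cfsg.Agent.Cit.Nil.RG
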