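import Cfsg.Agent.Cit.Nil.RG.Tri

/-!
# (6b), (C3), `r ≥ 2`, commuting elements of `Z` are C-pairs: involutions in a normal 2-subgroup commute

`CC Om` : commuting elements of `Z` are equal or a C-pair. `Two2 Om` : at least two members over every `z`.

* `CC.conj_pair` (5.0) : `w` in a 2-group `P` normalised by `R_u`, `w u w⁻¹ ≠ u` : `(u, w u w⁻¹)` is a C-pair;
* `CC.comm` (5.2) : `u, w ∈ Z ∩ P`, `R_u`, `R_w` normalise the 2-group `P` : `u w = w u`.

-- uses: (H2), (H3), (PG) only; no OneCls, no cores, no AN, no NIL.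
-/

set_option autoImplicit false
set_option linter.style.haveILetI false
set_option linter.unusedSectionVars false

namespace Cfsg.Agent.Cit.Nil.RG

open Subgroup Cfsg Cit

variable {G : Type*} [Group G]

/-- commuting elements of `Z` are C-pairs -/
def CC (Om : Set (Subgroup G)) : Prop := ∀ u ∈ ZZ Om, ∀ v ∈ ZZ Om, u ≠ v → u * v = v * u → CP Om u v

/-- `r ≥ 2` -/
def Two2 (Om : Set (Subgroup G)) : Prop := ∀ z ∈ ZZ Om, ∃ K ∈ Ov Om z, ∃ L ∈ Ov Om z, K ≠ L

variable {Om : Set (Subgroup G)} {K L : Subgroup G} {P : Subgroup G} {u v w k l a : G}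

namespace CC

/-- **(5.0)** -/
theorem conj_pair (hC : CC Om) (h : WR Om) (hP : IsPGroup 2 P) (hu : u ∈ ZZ Om) (hn : RR Om u ≤ normalizer (P : Set G))
    (hw : w ∈ P) (hne : w * u * w⁻¹ ≠ u) : CP Om u (w * u * w⁻¹) := by
  obtain ⟨K, hK⟩ := hu
  have hKn : K ≤ normalizer (P : Set G) := (WR.le_RR hK).trans hn
  have hT : IsPGroup 2 (K ⊔ P : Subgroup G) := (h.two hK.1).to_sup_of_normal_right' hP hKn
  have hwT : w ∈ K ⊔ P := mem_sup_right hw
  have hKw : cj w K ≤ K ⊔ P := by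
    rintro _ ⟨k, hk, rfl⟩
    exact mul_mem (mul_mem hwT (mem_sup_left hk)) (inv_mem hwT)
  have hKw' := h.Ov_cj hK w
  have h1 := h.pg K hK.1 (cj w K) hKw'.1 _ hT le_sup_left hKw (h.Ov_ne hK hKw' hne.symm)
  exact hC u ⟨K, hK⟩ _ ⟨_, hKw'⟩ hne.symm (h1 u (h.Ov_mem hK) _ (h.Ov_mem hKw'))

end CC

namespace WR

variable (h : WR Om)

include h

/-- a product of elements of order four in two members does not centralise `R_u` -/
theorem not_cen (hK : K ∈ Ov Om u) (hL : L ∈ Ov Om u) (hne : K ≠ L) (hk : k ∈ K) (hl : l ∈ L) (hkk : k * k = u)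
    (hc : ∀ x ∈ RR Om u, (k * l) * x = x * (k * l)) : False := by
  have hu1 := h.zz_ne (Ov_zz hK)
  have hu2 := h.zz_sq (Ov_zz hK)
  have h1 : ∀ x ∈ K, k * x = x * k := by
    intro x hx
    have h2 := hc x (WR.le_RR hK hx)
    have h3 : l * x = x * l := (h.Ov_comm hK hL hne hx hl).symm
    have h4 : k * x * l = x * k * l := by
      calc k * x * l = k * (x * l) := by group
        _ = k * (l * x) := by rw [h3]
        _ = k * l * x := by group
        _ = x * (k * l) := h2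
        _ = _ := by group
    exact mul_right_cancel h4
  rcases h.Ov_central hK hk h1 with h2 | h2
  · rw [h2, one_mul] at hkk; exact hu1 hkk.symm
  · rw [h2, hu2] at hkk; exact hu1 hkk.symm

/-- the element `t = w w^{kl}` -/
theorem key (hw : w * w = 1) (hc : CP Om u (w * u * w⁻¹)) (hK : K ∈ Ov Om u) (hL : L ∈ Ov Om u) (hne : K ≠ L)
    (hk : k ∈ K) (hl : l ∈ L) (hkk : k * k = u) (hll : l * l = u) :
    (w * ((k * l) * w * (k * l)⁻¹)) * (w * ((k * l) * w * (k * l)⁻¹)) = 1 ∧ w * ((k * l) * w * (k * l)⁻¹) ≠ 1 ∧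
      w * ((k * l) * w * (k * l)⁻¹) ≠ u * (w * u * w⁻¹) := by
  have hu : u ∈ ZZ Om := Ov_zz hK
  have hu2 := h.zz_sq hu
  have hwi : w⁻¹ = w := inv_eq_of_mul_eq_one_right hw
  set g := k * l with hg
  have hgR : g ∈ RR Om u := mul_mem (WR.le_RR hK hk) (WR.le_RR hL hl)
  have hkl : k * l = l * k := h.Ov_comm hK hL hne hk hl
  have hgg : g * g = 1 := by
    calc g * g = k * (l * k) * l := by rw [hg]; group
      _ = (k * k) * (l * l) := by rw [← hkl]; group
      _ = 1 := by rw [hkk, hll, hu2]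
  set A := w * g * w⁻¹ with hA
  have hAR : A ∈ RR Om (w * u * w⁻¹) := h.RR_cj hgR w
  have hAA : A * A = 1 := by
    calc A * A = w * (g * g) * w⁻¹ := by rw [hA]; group
      _ = 1 := by rw [hgg, mul_one, mul_inv_cancel]
  have ht : w * (g * w * g⁻¹) = A * g⁻¹ := by
    rw [hA, hwi]; group
  have hgi : g⁻¹ = g := inv_eq_of_mul_eq_one_right hgg
  have hAg : g * A = A * g := h.CP_RR hc hgR hAR
  rw [ht, hgi]
  refine ⟨?_, ?_, ?_⟩
  · calc A * g * (A * g) = A * (g * A) * g := by group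
      _ = (A * A) * (g * g) := by rw [hAg]; group
      _ = 1 := by rw [hAA, hgg, mul_one]
  · intro h1
    have h2 : g = A⁻¹ := eq_inv_of_mul_eq_one_right h1
    refine h.not_cen hK hL hne hk hl hkk fun x hx => ?_
    rw [← hg, h2]
    exact (h.CP_RR hc hx (inv_mem hAR)).symm
  · intro h1
    -- `u g = A (w u w⁻¹)⁻¹ …`
    have hcu : ∀ x ∈ RR Om u, x * (w * u * w⁻¹) = (w * u * w⁻¹) * x := fun x hx =>
      h.CP_RR hc hx (h.RR_mem (h.zz_cj hu w))
    have h2 : g = A⁻¹ * (u * (w * u * w⁻¹)) := by rw [← h1]; group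
    refine h.not_cen hK hL hne hk hl hkk fun x hx => ?_
    rw [← hg, h2]
    have e1 : A⁻¹ * x = x * A⁻¹ := (h.CP_RR hc hx (inv_mem hAR)).symm
    have e2 : u * x = x * u := h.RR_cen hx
    calc A⁻¹ * (u * (w * u * w⁻¹)) * x = A⁻¹ * u * ((w * u * w⁻¹) * x) := by group
      _ = A⁻¹ * u * (x * (w * u * w⁻¹)) := by rw [hcu x hx]
      _ = A⁻¹ * (u * x) * (w * u * w⁻¹) := by group
      _ = A⁻¹ * (x * u) * (w * u * w⁻¹) := by rw [e2]
      _ = (A⁻¹ * x) * u * (w * u * w⁻¹) := by group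
      _ = (x * A⁻¹) * u * (w * u * w⁻¹) := by rw [e1]
      _ = _ := by group

end WR

/-- two involutions with `(a b)² = 1` commute -/
theorem comm_of_sq {a b : G} (ha : a * a = 1) (hb : b * b = 1) (hab : a * b * (a * b) = 1) : a * b = b * a := by
  have h1 : (a * b)⁻¹ = a * b := inv_eq_of_mul_eq_one_right hab
  rw [← h1, mul_inv_rev, inv_eq_of_mul_eq_one_right ha, inv_eq_of_mul_eq_one_right hb]

/-- **(5.2)** -/
theorem CC.comm (hC : CC Om) (h : WR Om) (h2 : Two2 Om) (hP : IsPGroup 2 P) (hu : u ∈ ZZ Om) (hw : w ∈ ZZ Om)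
    (huP : u ∈ P) (hwP : w ∈ P) (nu : RR Om u ≤ normalizer (P : Set G)) (nw : RR Om w ≤ normalizer (P : Set G)) :
    u * w = w * u := by
  by_contra hne
  have hu2 := h.zz_sq hu
  have hw2 := h.zz_sq hw
  have hui := h.zz_inv hu
  have hwi := h.zz_inv hw
  have hcu : CP Om u (w * u * w⁻¹) := hC.conj_pair h hP hu nu hwP fun h1 => hne (mul_inv_eq_iff_eq_mul.1 h1).symm
  have hcw : CP Om w (u * w * u⁻¹) := hC.conj_pair h hP hw nw huP fun h1 => hne (mul_inv_eq_iff_eq_mul.1 h1)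
  obtain ⟨K, hK, L, hL, hKL⟩ := h2 u hu
  obtain ⟨M, hM, N, hN, hMN⟩ := h2 w hw
  obtain ⟨k, hk, hkk⟩ := h.exists_four hK.1
  obtain ⟨l, hl, hll⟩ := h.exists_four hL.1
  obtain ⟨m, hm, hmm⟩ := h.exists_four hM.1
  obtain ⟨n, hn, hnn⟩ := h.exists_four hN.1
  rw [hK.2] at hkk
  rw [hL.2] at hll
  rw [hM.2] at hmm
  rw [hN.2] at hnn
  obtain ⟨t2, t1, -⟩ := h.key hw2 hcu hK hL hKL hk hl hkk hll
  obtain ⟨s2, s1, s3⟩ := h.key hu2 hcw hM hN hMN hm hn hmm hnn
  set g := k * l with hg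
  set a := m * n with ha
  have hgR : g ∈ RR Om u := mul_mem (WR.le_RR hK hk) (WR.le_RR hL hl)
  have haR : a ∈ RR Om w := mul_mem (WR.le_RR hM hm) (WR.le_RR hN hn)
  -- `(w, w^g)` is a C-pair
  have hw' : g * w * g⁻¹ ∈ ZZ Om := h.zz_cj hw g
  have e1 : w ≠ g * w * g⁻¹ := fun h1 => t1 (by rw [← h1, hw2])
  have c1 : CP Om w (g * w * g⁻¹) := hC w hw _ hw' e1 (comm_of_sq hw2 (h.zz_sq hw') t2)
  have hv : a * u * a⁻¹ ∈ ZZ Om := h.zz_cj hu a
  have e2 : u ≠ a * u * a⁻¹ := fun h1 => s1 (by rw [← h1, hu2])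
  have c2 : CP Om u (a * u * a⁻¹) := hC u hu _ hv e2 (comm_of_sq hu2 (h.zz_sq hv) s2)
  -- `t`
  set t := w * (g * w * g⁻¹) with ht
  have hta : a * t * a⁻¹ = t := by
    rw [mul_inv_eq_iff_eq_mul]
    have h3 : w * a = a * w := h.RR_cen haR
    have h4 : a * (g * w * g⁻¹) = (g * w * g⁻¹) * a := h.CP_RR c1 haR (h.RR_mem hw')
    calc a * t = (a * w) * (g * w * g⁻¹) := by rw [ht]; group
      _ = w * (a * (g * w * g⁻¹)) := by rw [← h3]; group
      _ = _ := by rw [h4, ht]; group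
  -- `c = u u' = w w'`
  set u' := w * u * w⁻¹ with hu'
  have hu'Z : u' ∈ ZZ Om := h.zz_cj hu w
  have huu' : u * u' = u' * u := h.CP_comm hcu hu hu'Z
  obtain ⟨c, hc⟩ : ∃ c, c = u * u' := ⟨_, rfl⟩
  have hcc : c * c = 1 := by
    calc c * c = u * (u' * u) * u' := by rw [hc]; group
      _ = (u * u) * (u' * u') := by rw [← huu']; group
      _ = 1 := by rw [hu2, h.zz_sq hu'Z, mul_one]
  have hcw' : c = w * (u * w * u⁻¹) := by
    have h3 : c⁻¹ = c := inv_eq_of_mul_eq_one_right hcc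
    rw [← h3, hc, hu', mul_inv_rev, mul_inv_rev, mul_inv_rev, inv_inv, hwi, hui]
    group
  have hu'c : u' = u * c := by rw [hc, ← mul_assoc, hu2, one_mul]
  have huc : u * c = c * u := by
    calc u * c = u * (u * u') := by rw [hc]
      _ = u * (u' * u) := by rw [huu']
      _ = c * u := by rw [hc]; group
  -- `a` commutes with `c`
  have hac : a * c = c * a := by
    have h3 : w * a = a * w := h.RR_cen haR
    have h4 : a * (u * w * u⁻¹) = (u * w * u⁻¹) * a := h.CP_RR hcw haR (h.RR_mem (h.zz_cj hw u))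
    calc a * c = (a * w) * (u * w * u⁻¹) := by rw [hcw']; group
      _ = w * (a * (u * w * u⁻¹)) := by rw [← h3]; group
      _ = _ := by rw [h4, hcw']; group
  have hv' : a * u' * a⁻¹ = (a * u * a⁻¹) * c := by
    calc a * u' * a⁻¹ = a * u * (c * a⁻¹) := by rw [hu'c]; group
      _ = a * u * (a⁻¹ * c) := by
        have : c * a⁻¹ = a⁻¹ * c := by
          rw [eq_inv_mul_iff_mul_eq, ← mul_assoc, hac, mul_inv_cancel_right]
        rw [this]
      _ = _ := by group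
  have huv : u * (a * u * a⁻¹) = (a * u * a⁻¹) * u := h.CP_comm c2 hu hv
  have hv'Z : a * u' * a⁻¹ ∈ ZZ Om := h.zz_cj hu'Z a
  have e3 : u ≠ a * u' * a⁻¹ := by
    intro h3
    apply s3
    rw [← hcw', hc]
    -- `u v = c`
    have h4 : u * c = a * u * a⁻¹ := by
      calc u * c = (a * u * a⁻¹ * c) * c := by rw [← hv', ← h3]
        _ = a * u * a⁻¹ * (c * c) := by group
        _ = _ := by rw [hcc, mul_one]
    rw [← h4, ← hu'c]
  have c3 : CP Om u (a * u' * a⁻¹) := by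
    refine hC u hu _ hv'Z e3 ?_
    rw [hv']
    calc u * (a * u * a⁻¹ * c) = (u * (a * u * a⁻¹)) * c := by group
      _ = (a * u * a⁻¹) * (u * c) := by rw [huv]; group
      _ = _ := by rw [huc]; group
  -- the contradiction
  set A := w * g * w⁻¹ with hA
  have hAR : A ∈ RR Om u' := h.RR_cj hgR w
  have htA : t = A * g⁻¹ := by rw [ht, hA, hwi]; group
  have hgi : g = t⁻¹ * A := by rw [htA]; group
  refine h.not_cen hK hL hKL hk hl hkk fun x hx => ?_
  rw [← hg, hgi]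
  have f1 : x * A = A * x := h.CP_RR hcu hx hAR
  have f2 : x * t = t * x := by
    rw [← hta, htA]
    have h3 : x * (a * A * a⁻¹) = (a * A * a⁻¹) * x := h.CP_RR c3 hx (h.RR_cj hAR a)
    have h4 : x * (a * g⁻¹ * a⁻¹) = (a * g⁻¹ * a⁻¹) * x := h.CP_RR c2 hx (h.RR_cj (inv_mem hgR) a)
    calc x * (a * (A * g⁻¹) * a⁻¹) = (x * (a * A * a⁻¹)) * (a * g⁻¹ * a⁻¹) := by group
      _ = (a * A * a⁻¹) * (x * (a * g⁻¹ * a⁻¹)) := by rw [h3]; group
      _ = (a * A * a⁻¹) * ((a * g⁻¹ * a⁻¹) * x) := by rw [h4]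
      _ = _ := by group
  have f3 : t⁻¹ * x = x * t⁻¹ := by
    rw [inv_mul_eq_iff_eq_mul, ← mul_assoc, ← f2, mul_inv_cancel_right]
  calc t⁻¹ * A * x = t⁻¹ * (x * A) := by rw [f1]; group
    _ = (t⁻¹ * x) * A := by group
    _ = _ := by rw [f3]; group

end Cfsg.Agent.Cit.Nil.RG
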