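import Cfsg.Agent.Cit.Nil.RG.Defs

/-!
# (6b), general `r`: the action on a member, the group `R_z`, the types of commuting pairs (helper488)
-/

set_option autoImplicit false
set_option linter.style.haveILetI false
set_option linter.unusedSectionVars false

namespace Cfsg.Agent.Cit.Nil.RG

open Subgroup Cfsg Cit QuaternionGroup
open Cfsg.Agent.Cit.Nil.ROne

variable {G : Type*} [Group G]

/-- `g` acts on `K` as a transposition inverting `a` -/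
structure Tr (g : G) (K : Subgroup G) (a : G) : Prop where
  mem : a ∈ K
  sq : a * a = zz K
  inv : g * a * g⁻¹ = a⁻¹
  ne : ∀ b ∈ K, b * b = zz K → b ≠ a → b ≠ a⁻¹ → g * b * g⁻¹ ≠ b ∧ g * b * g⁻¹ ≠ b⁻¹
  com : ∀ b ∈ K, b * b = zz K → b ≠ a → b ≠ a⁻¹ → g * b * g⁻¹ * b⁻¹ = a ∨ g * b * g⁻¹ * b⁻¹ = a⁻¹

theorem conj_mem_of_cj {K : Subgroup G} {g x : G} (hg : cj g K = K) (hx : x ∈ K) : g * x * g⁻¹ ∈ K := by
  have h1 := conj_mem_cj (g := g) hx
  rwa [hg] at h1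

theorem cj_inv_eq {K : Subgroup G} {g : G} (hg : cj g K = K) : cj g⁻¹ K = K := by
  rw [← cj_inj (g := g), cj_cj_inv, hg]

theorem Inn.mul {g g' : G} {K : Subgroup G} (h : Inn g K) (h' : Inn g' K) : Inn (g * g') K := by
  obtain ⟨y, hy, h1⟩ := h
  obtain ⟨y', hy', h2⟩ := h'
  refine ⟨y * y', mul_mem hy hy', fun k hk => ?_⟩
  rw [show g * g' * k * (g * g')⁻¹ = g * (g' * k * g'⁻¹) * g⁻¹ by group, h2 k hk,
    h1 _ (mul_mem (mul_mem hy' hk) (inv_mem hy'))]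
  group

theorem Inn.of_comm {g : G} {K : Subgroup G} (h : ∀ k ∈ K, g * k = k * g) : Inn g K :=
  ⟨1, one_mem K, fun k hk => by rw [h k hk]; group⟩

theorem Inn.of_mem {g : G} {K : Subgroup G} (h : g ∈ K) : Inn g K := ⟨g, h, fun _ _ => rfl⟩

theorem Inn.inv {g : G} {K : Subgroup G} (h : Inn g K) : Inn g⁻¹ K := by
  have hc := h.cj_eq
  obtain ⟨y, hy, h1⟩ := h
  refine ⟨y⁻¹, inv_mem hy, fun k hk => ?_⟩
  have h2 : y⁻¹ * k * y ∈ K := mul_mem (mul_mem (inv_mem hy) hk) hy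
  have h3 := h1 _ h2
  have h4 : y * (y⁻¹ * k * y) * y⁻¹ = k := by group
  rw [h4] at h3
  calc g⁻¹ * k * g⁻¹⁻¹ = g⁻¹ * (g * (y⁻¹ * k * y) * g⁻¹) * g := by rw [h3, inv_inv]
    _ = y⁻¹ * k * y⁻¹⁻¹ := by group

namespace QE

open QEight

set_option maxRecDepth 100000 in
theorem mod_aux : ∀ p q : Q, Ok p q → (∀ x, F p q x = x ∨ F p q x = QuaternionGroup.a 2 * x) →
    ∃ y : Q, ∀ x, F p q x = y * x * y⁻¹ := by
  decide

set_option maxRecDepth 100000 in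
theorem fix_aux : ∀ p q : Q, Ok p q → ∀ y : Q, y * y = QuaternionGroup.a 2 → F p q y = y →
    (∀ x, F p q (F p q x) = x) → ∃ y : Q, ∀ x, F p q x = y * x * y⁻¹ := by
  decide

theorem mod (α : MulAut Q) (h : ∀ x, α x = x ∨ α x = QuaternionGroup.a 2 * x) :
    ∃ y : Q, ∀ x, α x = y * x * y⁻¹ := by
  have h1 := mod_aux _ _ (aut_ok α)
  rw [← funF α] at h1
  exact h1 h

theorem fix (α : MulAut Q) (y : Q) (hy : y * y = QuaternionGroup.a 2) (hf : α y = y) (h : ∀ x, α (α x) = x) :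
    ∃ y : Q, ∀ x, α x = y * x * y⁻¹ := by
  have h1 := fix_aux _ _ (aut_ok α) y hy
  rw [← funF α] at h1
  exact h1 hf h

theorem third : ∀ y b c : Q, y * y = QuaternionGroup.a 2 → b * b = QuaternionGroup.a 2 → c * c = QuaternionGroup.a 2 →
    b ≠ y → b ≠ y⁻¹ → c ≠ y → c ≠ y⁻¹ → c ≠ b → c ≠ b⁻¹ → c * b⁻¹ = y ∨ c * b⁻¹ = y⁻¹ := by
  decide

end QE

namespace WR

variable {Om : Set (Subgroup G)} {K L : Subgroup G} {z x y g g' u v a a' b k t : G}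

section act

variable (h : WR Om)

/-- conjugation by `g` on `K` -/
def actK (hg : cj g K = K) : MulAut K where
  toFun x := ⟨g * x * g⁻¹, conj_mem_of_cj hg x.2⟩
  invFun x := ⟨g⁻¹ * x * g, by
    have h1 := conj_mem_of_cj (cj_inv_eq hg) x.2
    rwa [inv_inv] at h1⟩
  left_inv x := Subtype.ext (by change g⁻¹ * (g * x * g⁻¹) * g = x; group)
  right_inv x := Subtype.ext (by change g * (g⁻¹ * x * g) * g⁻¹ = x; group)
  map_mul' x y := Subtype.ext (by change g * (x * y) * g⁻¹ = (g * x * g⁻¹) * (g * y * g⁻¹); group)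

/-- conjugation by `g` on the model of `K` -/
noncomputable def rho (hK : K ∈ Om) (hg : cj g K = K) : MulAut QEight.Q :=
  ((h.e hK).symm.trans (actK hg)).trans (h.e hK)

theorem rho_e (hK : K ∈ Om) (hg : cj g K = K) (hx : x ∈ K) :
    h.rho hK hg (h.e hK ⟨x, hx⟩) = h.e hK ⟨g * x * g⁻¹, conj_mem_of_cj hg hx⟩ := by
  change h.e hK (actK hg ((h.e hK).symm (h.e hK ⟨x, hx⟩))) = _
  rw [(h.e hK).symm_apply_apply]
  rfl

theorem exists_e (hK : K ∈ Om) (p : QEight.Q) : ∃ x, ∃ hx : x ∈ K, h.e hK ⟨x, hx⟩ = p :=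
  ⟨((h.e hK).symm p : K), ((h.e hK).symm p).2, (h.e hK).apply_symm_apply p⟩

include h

theorem inn_of_rho (hK : K ∈ Om) (hg : cj g K = K) (hy : ∃ y : QEight.Q, ∀ x, h.rho hK hg x = y * x * y⁻¹) : Inn g K := by
  obtain ⟨q, hq⟩ := hy
  obtain ⟨y, hy, rfl⟩ := h.exists_e hK q
  refine ⟨y, hy, fun k hk => ?_⟩
  have h1 := hq (h.e hK ⟨k, hk⟩)
  rw [h.rho_e, ← h.e_inv hK hy, ← h.e_mul hK hy hk, ← h.e_mul hK (mul_mem hy hk) (inv_mem hy), h.e_eq hK] at h1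
  exact h1

/-- an automorphism trivial modulo the centre is inner -/
theorem inn_of_mod (hK : K ∈ Om) (hg : cj g K = K) (hm : ∀ k ∈ K, g * k * g⁻¹ = k ∨ g * k * g⁻¹ = zz K * k) : Inn g K := by
  refine h.inn_of_rho hK hg (QE.mod _ fun p => ?_)
  obtain ⟨k, hk, rfl⟩ := h.exists_e hK p
  rw [h.rho_e, ← h.e_z hK, ← h.e_mul hK (h.zm hK) hk, h.e_eq hK, h.e_eq hK]
  exact hm k hk

theorem rho_sq (hK : K ∈ Om) (hg : cj g K = K) (hs : ∀ k ∈ K, g * g * k = k * (g * g)) (p : QEight.Q) :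
    h.rho hK hg (h.rho hK hg p) = p := by
  obtain ⟨k, hk, rfl⟩ := h.exists_e hK p
  rw [h.rho_e, h.rho_e, h.e_eq hK]
  calc g * (g * k * g⁻¹) * g⁻¹ = (g * g * k) * (g * g)⁻¹ := by group
    _ = k := by rw [hs k hk, mul_inv_cancel_right]

/-- an automorphism of order two fixing an element of order four is inner -/
theorem inn_of_fix' (hK : K ∈ Om) (hg : cj g K = K) (hs : ∀ k ∈ K, g * g * k = k * (g * g)) (hy : y ∈ K) (hyy : y * y = zz K)
    (hf : g * y * g⁻¹ = y) : Inn g K := by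
  refine h.inn_of_rho hK hg (QE.fix _ (h.e hK ⟨y, hy⟩) ?_ ?_ (h.rho_sq hK hg hs))
  · rw [← h.e_mul hK hy hy, ← h.e_z hK, h.e_eq hK]; exact hyy
  · rw [h.rho_e, h.e_eq hK]; exact hf

theorem inn_of_fix (hK : K ∈ Om) (hg : cj g K = K) (hs : g * g = 1) (hy : y ∈ K) (hyy : y * y = zz K)
    (hf : g * y * g⁻¹ = y) : Inn g K :=
  h.inn_of_fix' hK hg (fun k _ => by rw [hs, one_mul, mul_one]) hy hyy hf

/-- an inner automorphism fixes an element of order four -/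
theorem exists_fix (hK : K ∈ Om) (hi : Inn g K) : ∃ y ∈ K, y * y = zz K ∧ g * y * g⁻¹ = y := by
  obtain ⟨y, hy, h1⟩ := hi
  by_cases hc : ∀ k ∈ K, y * k = k * y
  · obtain ⟨w, hw, hww⟩ := h.exists_four hK
    exact ⟨w, hw, hww, by rw [h1 w hw, hc w hw, mul_inv_cancel_right]⟩
  · have hy1 : y ≠ 1 := by rintro rfl; exact hc fun k _ => by rw [one_mul, mul_one]
    have hy2 : y ≠ zz K := by rintro rfl; exact hc fun k hk => (h.cen hK hk).symm
    exact ⟨y, hy, h.sq_eq hK hy hy1 hy2, by rw [h1 y hy, mul_inv_cancel_right]⟩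

/-- automorphisms of order two -/
theorem inn_or_tr' (hK : K ∈ Om) (hg : cj g K = K) (hs : ∀ k ∈ K, g * g * k = k * (g * g)) :
    Inn g K ∨ ∃ a, Tr g K a := by
  rcases QEight.invol (h.rho hK hg) (h.rho_sq hK hg hs) with h1 | h1 | h1
  · left
    exact h.inn_of_rho hK hg ⟨1, fun x => by rw [h1 x]; group⟩
  · left
    obtain ⟨y, -, h2⟩ := h1
    exact h.inn_of_rho hK hg ⟨y, h2⟩
  · right
    obtain ⟨q, hq1, hq2, hq3⟩ := h1
    obtain ⟨a, ha, rfl⟩ := h.exists_e hK q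
    have haa : a * a = zz K := by
      rw [← h.e_mul hK ha ha, ← h.e_z hK, h.e_eq hK] at hq1
      exact hq1
    have hinv : g * a * g⁻¹ = a⁻¹ := by
      rw [h.rho_e, ← h.e_inv hK ha, h.e_eq hK] at hq2
      exact hq2
    have hne : ∀ b ∈ K, b * b = zz K → b ≠ a → b ≠ a⁻¹ → g * b * g⁻¹ ≠ b ∧ g * b * g⁻¹ ≠ b⁻¹ := by
      intro b hb hbb h1 h2
      have h3 := hq3 (h.e hK ⟨b, hb⟩) (by rw [← h.e_mul hK hb hb, ← h.e_z hK, h.e_eq hK]; exact hbb)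
        (by rw [Ne, h.e_eq hK]; exact h1) (by rw [← h.e_inv hK ha, Ne, h.e_eq hK]; exact h2)
      rw [h.rho_e, ← h.e_inv hK hb, Ne, Ne, h.e_eq hK, h.e_eq hK] at h3
      exact h3
    refine ⟨a, ha, haa, hinv, hne, ?_⟩
    intro b hb hbb h1 h2
    obtain ⟨h3, h4⟩ := hne b hb hbb h1 h2
    have hc : g * b * g⁻¹ ∈ K := conj_mem_of_cj hg hb
    have hcc : g * b * g⁻¹ * (g * b * g⁻¹) = zz K := by
      have hz : g * zz K * g⁻¹ = zz K := by rw [← h.zcj hK, hg]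
      rw [show g * b * g⁻¹ * (g * b * g⁻¹) = g * (b * b) * g⁻¹ by group, hbb, hz]
    have h5 : g * b * g⁻¹ ≠ a := by
      intro h6
      apply h2
      have h7 : b = g⁻¹ * a * g := by rw [← h6]; group
      have h8 : g * a⁻¹ * g⁻¹ = a := by
        have h9 : g * a⁻¹ * g⁻¹ = (g * a * g⁻¹)⁻¹ := by group
        rw [h9, hinv, inv_inv]
      rw [h7]
      calc g⁻¹ * a * g = g⁻¹ * (g * a⁻¹ * g⁻¹) * g := by rw [h8]
        _ = a⁻¹ := by group
    have h6 : g * b * g⁻¹ ≠ a⁻¹ := by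
      intro h6
      apply h1
      calc b = g⁻¹ * (g * b * g⁻¹) * g := by group
        _ = g⁻¹ * (g * a * g⁻¹) * g := by rw [h6, hinv]
        _ = a := by group
    have h7 := QE.third (h.e hK ⟨a, ha⟩) (h.e hK ⟨b, hb⟩) (h.e hK ⟨_, hc⟩)
      (by rw [← h.e_mul hK ha ha, ← h.e_z hK, h.e_eq hK]; exact haa)
      (by rw [← h.e_mul hK hb hb, ← h.e_z hK, h.e_eq hK]; exact hbb)
      (by rw [← h.e_mul hK hc hc, ← h.e_z hK, h.e_eq hK]; exact hcc)
      (by rw [Ne, h.e_eq hK]; exact h1) (by rw [← h.e_inv hK ha, Ne, h.e_eq hK]; exact h2)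
      (by rw [Ne, h.e_eq hK]; exact h5) (by rw [← h.e_inv hK ha, Ne, h.e_eq hK]; exact h6)
      (by rw [Ne, h.e_eq hK]; exact h3) (by rw [← h.e_inv hK hb, Ne, h.e_eq hK]; exact h4)
    rw [← h.e_inv hK hb, ← h.e_mul hK hc (inv_mem hb), ← h.e_inv hK ha, h.e_eq hK, h.e_eq hK] at h7
    exact h7

theorem inn_or_tr (hK : K ∈ Om) (hg : cj g K = K) (hs : g * g = 1) : Inn g K ∨ ∃ a, Tr g K a :=
  h.inn_or_tr' hK hg fun k _ => by rw [hs, one_mul, mul_one]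


/-- a transposition is not inner -/
theorem not_inn (hK : K ∈ Om) (ht : Tr g K a) : ¬ Inn g K := by
  intro hi
  obtain ⟨y, hy, hyy, h1⟩ := h.exists_fix hK hi
  by_cases h2 : y = a
  · subst h2
    rw [ht.inv] at h1
    exact h.ne_inv hK hyy h1.symm
  by_cases h3 : y = a⁻¹
  · subst h3
    have h4 : g * a⁻¹ * g⁻¹ = a := by
      have h5 : g * a⁻¹ * g⁻¹ = (g * a * g⁻¹)⁻¹ := by group
      rw [h5, ht.inv, inv_inv]
    rw [h4] at h1
    exact h.ne_inv hK ht.sq h1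
  exact (ht.ne y hy hyy h2 h3).1 h1

/-- the square of an element normalising `K` is inner (if it is of order two) -/
theorem inn_sq (hK : K ∈ Om) (hg : cj g K = K) (hs : (g * g) * (g * g) = 1) : Inn (g * g) K := by
  have hgg : cj (g * g) K = K := by rw [cj_mul, hg, hg]
  rcases h.inn_or_tr hK hgg hs with h1 | ⟨a, ha⟩
  · exact h1
  exfalso
  refine QEight.sq_trn (h.rho hK hg) (h.e hK ⟨a, ha.mem⟩) ⟨?_, ?_, ?_⟩
  · rw [← h.e_mul hK ha.mem ha.mem, ← h.e_z hK, h.e_eq hK]; exact ha.sq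
  · change h.rho hK hg (h.rho hK hg _) = _
    rw [h.rho_e, h.rho_e, ← h.e_inv hK ha.mem, h.e_eq hK, ← ha.inv]
    group
  · intro p hp h1 h2
    obtain ⟨b, hb, rfl⟩ := h.exists_e hK p
    change h.rho hK hg (h.rho hK hg _) ≠ _ ∧ h.rho hK hg (h.rho hK hg _) ≠ _
    have h3 := ha.ne b hb (by rw [← h.e_mul hK hb hb, ← h.e_z hK, h.e_eq hK] at hp; exact hp)
      (by rw [Ne, h.e_eq hK] at h1; exact h1) (by rw [← h.e_inv hK ha.mem, Ne, h.e_eq hK] at h2; exact h2)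
    rw [h.rho_e, h.rho_e, ← h.e_inv hK hb, Ne, Ne, h.e_eq hK, h.e_eq hK,
      show g * (g * b * g⁻¹) * g⁻¹ = g * g * b * (g * g)⁻¹ by group]
    exact h3

/-- two transpositions with the same axis -/
theorem inn_of_tr (hK : K ∈ Om) (hg : cj g K = K) (hg' : cj g' K = K) (ht : Tr g K a) (ht' : Tr g' K a')
    (haa : a' = a ∨ a' = a⁻¹) : Inn (g * g') K := by
  have hz : g * zz K * g⁻¹ = zz K := by rw [← h.zcj hK, hg]
  have hz' : g' * zz K * g'⁻¹ = zz K := by rw [← h.zcj hK, hg']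
  -- `g'` inverts `a`
  have h1 : g' * a * g'⁻¹ = a⁻¹ := by
    rcases haa with rfl | rfl
    · exact ht'.inv
    · have h2 := ht'.inv
      have h3 : g' * a * g'⁻¹ = (g' * a⁻¹ * g'⁻¹)⁻¹ := by group
      rw [h3, h2, inv_inv]
  have hai : g * a⁻¹ * g⁻¹ = a := by
    have h5 : g * a⁻¹ * g⁻¹ = (g * a * g⁻¹)⁻¹ := by group
    rw [h5, ht.inv, inv_inv]
  have hcj : ∀ k, g * g' * k * (g * g')⁻¹ = g * (g' * k * g'⁻¹) * g⁻¹ := fun k => by group
  refine h.inn_of_mod hK (by rw [cj_mul, hg', hg]) fun k hk => ?_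
  by_cases k1 : k = 1
  · subst k1; left; group
  by_cases k2 : k = zz K
  · subst k2; left; rw [hcj, hz', hz]
  have hkk := h.sq_eq hK hk k1 k2
  by_cases k3 : k = a
  · subst k3; left; rw [hcj, h1, hai]
  by_cases k4 : k = a⁻¹
  · subst k4; left
    rw [hcj]
    have h6 : g' * a⁻¹ * g'⁻¹ = a := by
      have h5 : g' * a⁻¹ * g'⁻¹ = (g' * a * g'⁻¹)⁻¹ := by group
      rw [h5, h1, inv_inv]
    rw [h6, ht.inv]
  -- `g' k g'⁻¹ = c k`, `c = a^{±1}`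
  have h7 : g' * k * g'⁻¹ * k⁻¹ = a ∨ g' * k * g'⁻¹ * k⁻¹ = a⁻¹ := by
    rcases haa with rfl | rfl
    · exact ht'.com k hk hkk k3 k4
    · rcases ht'.com k hk hkk k4 (by rwa [inv_inv]) with h8 | h8
      · exact Or.inr h8
      · exact Or.inl (by rwa [inv_inv] at h8)
  have h8 := ht.com k hk hkk k3 k4
  obtain ⟨c, hc⟩ : ∃ c, c = g' * k * g'⁻¹ * k⁻¹ := ⟨_, rfl⟩
  obtain ⟨d, hd⟩ : ∃ d, d = g * k * g⁻¹ * k⁻¹ := ⟨_, rfl⟩
  rw [← hc] at h7
  rw [← hd] at h8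
  have h9 : g' * k * g'⁻¹ = c * k := by rw [hc]; group
  have h10 : g * k * g⁻¹ = d * k := by rw [hd]; group
  have h11 : g * c * g⁻¹ = c⁻¹ := by
    rcases h7 with h7 | h7
    · rw [h7, ht.inv]
    · rw [h7, hai, inv_inv]
  rw [hcj, h9, show g * (c * k) * g⁻¹ = (g * c * g⁻¹) * (g * k * g⁻¹) by group, h11, h10, ← mul_assoc]
  have hia : a⁻¹ * a⁻¹ = zz K := by
    rw [← _root_.mul_inv_rev, ht.sq]
    exact inv_eq_of_mul_eq_one_right (h.zs hK)
  rcases h7 with h7 | h7 <;> rcases h8 with h8 | h8 <;> rw [h7, h8]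
  · left; rw [inv_mul_cancel, one_mul]
  · right; rw [hia]
  · right; rw [inv_inv, ht.sq]
  · left; rw [inv_inv, mul_inv_cancel, one_mul]

end act

end WR

end Cfsg.Agent.Cit.Nil.RG
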