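import Cfsg.Agent.Cit.Nil.RG.Tri
import Cfsg.Agent.Cit.Nil.ROne.FStar

/-!
# (6b), (C3), general `r`: (C3) and `X = F*(G)`

* `C3G Om` : (C3) for the members; `C3G.of_c3` : it follows from `Nil.C3 K` for a class;
* `mem_of_fsimp` : `Z ⊆ X`; `WR.inf_cases` : `K ≤ X` or `K ∩ X = ⟨z⟩`;
* `WR.axes`, `WR.gen_of_ne`, `WR.exists_ij`, `WR.exists_sylow_of_comm`.
-/

set_option autoImplicit false
set_option linter.style.haveILetI false
set_option linter.unusedSectionVars false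

namespace Cfsg.Agent.Cit.Nil.RG

open Subgroup Cfsg Cit
open Cfsg.Agent.Cit.Nil.ROne

variable {G : Type*} [Group G] {Om : Set (Subgroup G)} {K L H X : Subgroup G} {u v w x y s e g z b d i j k : G}

/-- (C3) -/
def C3G (Om : Set (Subgroup G)) : Prop :=
  ∀ K ∈ Om, ∀ y ∈ K, y * y = zz K → ∃ g, cj g K = K ∧ g * y * g⁻¹ ≠ y ∧ g * y * g⁻¹ ≠ y⁻¹

/-- **(0.1)(e)** `Z ⊆ X` -/
theorem mem_of_fsimp [Finite G] (hyp : Hyp Om) (h : WR Om) (f : FSimp X) (h2 : 2 ∣ Nat.card X) (hz : z ∈ ZZ Om) :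
    z ∈ X := by
  haveI := f.nor
  haveI := f.sim
  have hO : OO X = ⊥ := by
    have h3 : (OO X).Normal := by
      refine ⟨fun n hn g => ?_⟩
      have h4 : cj g X = X := mem_normalizer_iff_cj.1 (by rw [normalizer_eq_top_iff.2 f.nor]; exact mem_top g)
      have h5 : cj g (OO X) = OO X := by rw [← OO_cj, h4]
      rw [← h5]
      exact conj_mem_cj hn
    by_contra hne
    have h4 := f.le (N := OO X) (fun g _ n hn => h3.conj_mem n hn g) hne
    exact odd_OO X (h2.trans (card_dvd_of_le h4))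
  by_contra hn
  obtain ⟨K, hK, rfl⟩ := hz
  have h4 := hyp.lemma_two (K := K) (M := X) (fun L hL => h.two hL) hK
    (by rw [normalizer_eq_top_iff.2 f.nor]; exact le_top) hO hn
  apply h.zn hK
  have h5 : zz K ∈ centralizer (X : Set G) := by
    rw [mem_centralizer_iff]
    exact fun g hg => mem_centralizer_singleton_iff.1 (h4 hg)
  rwa [f.cen, mem_bot] at h5

namespace WR

variable (h : WR Om)

include h

/-- the elements of `K` -/
theorem gen_of_ne (hK : K ∈ Om) (hy : y ∈ K) (hyy : y * y = zz K) (hb : b ∈ K) (hbb : b * b = zz K) (h1 : b ≠ y)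
    (h2 : b ≠ y⁻¹) (hx : x ∈ K) : x ∈ closure {y, b} := by
  have h3 : ∀ p q : QEight.Q, p * p = QuaternionGroup.a 2 → q * q = QuaternionGroup.a 2 → q ≠ p → q ≠ p⁻¹ →
      ∀ r : QEight.Q, r = 1 ∨ r = p * p ∨ r = p ∨ r = p⁻¹ ∨ r = q ∨ r = q⁻¹ ∨ r = p * q ∨ r = q * p := by decide
  have hsq : ∀ {y : G} (hy : y ∈ K), y * y = zz K → h.e hK ⟨y, hy⟩ * h.e hK ⟨y, hy⟩ = QuaternionGroup.a 2 := by
    intro y hy h4
    rw [← h.e_mul hK hy hy, ← h.e_z hK]
    exact congrArg (h.e hK) (Subtype.ext h4)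
  have hyc : y ∈ closure {y, b} := subset_closure (by simp)
  have hbc : b ∈ closure {y, b} := subset_closure (by simp)
  have h4 := h3 _ _ (hsq hy hyy) (hsq hb hbb) (fun h5 => h1 ((h.e_eq hK _ _).1 h5))
    (fun h5 => h2 (by rw [← h.e_inv hK hy] at h5; exact (h.e_eq hK _ _).1 h5)) (h.e hK ⟨x, hx⟩)
  have h1' : (1 : QEight.Q) = h.e hK ⟨1, one_mem _⟩ := (map_one (h.e hK)).symm
  rw [← h.e_mul hK hy hy, ← h.e_inv hK hy, ← h.e_inv hK hb, ← h.e_mul hK hy hb, ← h.e_mul hK hb hy, h1'] at h4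
  rcases h4 with h5 | h5 | h5 | h5 | h5 | h5 | h5 | h5 <;> rw [(h.e_eq hK _ _).1 h5]
  · exact one_mem _
  · exact mul_mem hyc hyc
  · exact hyc
  · exact inv_mem hyc
  · exact hbc
  · exact inv_mem hbc
  · exact mul_mem hyc hbc
  · exact mul_mem hbc hyc

theorem inf_cases (c3 : C3G Om) (hn : X.Normal) (hK : K ∈ Om) :
    K ≤ X ∨ ∀ y ∈ K, y ∈ X → y = 1 ∨ y = zz K := by
  by_contra hcon
  push Not at hcon
  obtain ⟨h1, y, hy, hyX, hy1, hyz⟩ := hcon
  have hyy := h.sq_eq hK hy hy1 hyz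
  obtain ⟨g, hgK, hg1, hg2⟩ := c3 K hK y hy hyy
  have hgy : g * y * g⁻¹ ∈ K := by
    have := conj_mem_cj (g := g) hy
    rwa [hgK] at this
  refine h1 fun x hx => ?_
  have h2 : closure {y, g * y * g⁻¹} ≤ X := by
    rw [closure_le]
    rintro a (rfl | rfl)
    · exact hyX
    · exact hn.conj_mem _ hyX g
  refine h2 (h.gen_of_ne hK hy hyy hgy ?_ hg1 hg2 hx)
  calc g * y * g⁻¹ * (g * y * g⁻¹) = g * (y * y) * g⁻¹ := by group
    _ = g * zz K * g⁻¹ := by rw [hyy]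
    _ = zz (cj g K) := (h.zcj hK g).symm
    _ = zz K := by rw [hgK]

/-- two anticommuting elements of order four -/
theorem exists_ij (hK : K ∈ Ov Om z) : ∃ i ∈ K, ∃ j ∈ K, i * i = z ∧ j * j = z ∧ j * i = z * (i * j) ∧
    (i * j) * (i * j) = z := by
  obtain ⟨i, hi, hii⟩ := h.exists_four hK.1
  obtain ⟨j, hj, hjj, h1, h2⟩ := h.exists_anti hK.1 hi hii
  obtain ⟨h3, h4⟩ := h.anti hK.1 hi hj hii hjj h1 h2
  rw [hK.2] at hii hjj h3 h4
  exact ⟨i, hi, j, hj, hii, hjj, h3, h4⟩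

/-- commuting with a member of `Ov z` -/
theorem comm_of_cp (hcp : CP Om u v) (hK : K ∈ Ov Om u) (hL : L ∈ Ov Om v) (hx : x ∈ K) (hy : y ∈ L) :
    x * y = y * x := hcp.2 K hK L hL x hx y hy

/-- two commuting members are in a Sylow 2-subgroup -/
theorem exists_sylow_of_comm [Finite G] (hK : K ∈ Om) (hL : L ∈ Om) (hc : ∀ x ∈ K, ∀ y ∈ L, x * y = y * x) :
    ∃ S : Sylow 2 G, K ≤ (S : Subgroup G) ∧ L ≤ (S : Subgroup G) := by
  have hn : K ≤ normalizer (L : Set G) := by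
    intro x hx
    rw [mem_normalizer_iff_cj]
    ext y
    rw [mem_cj]
    have key : ∀ y ∈ L, x⁻¹ * y * x = y := fun y hy => by
      have := hc x hx y hy
      rw [mul_assoc, ← this, inv_mul_cancel_left]
    constructor
    · intro hy
      have h1 := hc x hx _ hy
      have h2 : x * (x⁻¹ * y * x) = y * x := by group
      rw [h2] at h1
      rw [mul_right_cancel h1]
      exact hy
    · intro hy
      rw [key y hy]; exact hy
  obtain ⟨S, hS⟩ := ((h.two hK).to_sup_of_normal_right' (h.two hL) hn).exists_le_sylow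
  exact ⟨S, le_sup_left.trans hS, le_sup_right.trans hS⟩

end WR

/-- an element of odd order acting nontrivially on `K` moves all axes -/
theorem WR.axes [Finite G] (h : WR Om) (hK : K ∈ Om) (hg : cj g K = K) (hodd : Odd (orderOf g))
    (hn : ¬ ∀ k ∈ K, g * k = k * g) (hy : y ∈ K) (hyy : y * y = zz K) : g * y * g⁻¹ ≠ y ∧ g * y * g⁻¹ ≠ y⁻¹ := by
  have hgK : ∀ {k : G}, k ∈ K → g * k * g⁻¹ ∈ K := fun hk => by
    have := conj_mem_cj (g := g) hk
    rwa [hg] at this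
  by_contra hcon
  apply hn
  have hcon' : g * y * g⁻¹ = y ∨ g * y * g⁻¹ = y⁻¹ := by tauto
  -- `g²` fixes `y`
  obtain ⟨p, hp⟩ : ∃ p, p = g * g := ⟨_, rfl⟩
  have hpy : p * y * p⁻¹ = y := by
    have h1 : p * y * p⁻¹ = g * (g * y * g⁻¹) * g⁻¹ := by rw [hp]; group
    rw [h1]
    rcases hcon' with h2 | h2
    · rw [h2, h2]
    · rw [h2]
      have h3 : g * y⁻¹ * g⁻¹ = (g * y * g⁻¹)⁻¹ := by group
      rw [h3, h2, inv_inv]
  have hpK : ∀ {k : G}, k ∈ K → p * k * p⁻¹ ∈ K := fun {k} hk => by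
    have h1 : p * k * p⁻¹ = g * (g * k * g⁻¹) * g⁻¹ := by rw [hp]; group
    rw [h1]
    exact hgK (hgK hk)
  obtain ⟨b, hb, hbb, hb1, hb2⟩ := h.exists_anti hK hy hyy
  have hyz : y * zz K = zz K * y := h.cen hK hy
  have hpz : p * zz K * p⁻¹ = zz K := by
    rw [← hyy]
    calc p * (y * y) * p⁻¹ = (p * y * p⁻¹) * (p * y * p⁻¹) := by group
      _ = y * y := by rw [hpy]
  obtain ⟨b', hb'⟩ : ∃ b', b' = p * b * p⁻¹ := ⟨_, rfl⟩
  have hb'K : b' ∈ K := by rw [hb']; exact hpK hb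
  have hb'b' : b' * b' = zz K := by
    rw [hb']
    calc p * b * p⁻¹ * (p * b * p⁻¹) = p * (b * b) * p⁻¹ := by group
      _ = zz K := by rw [hbb, hpz]
  have hby := (h.anti hK hy hb hyy hbb hb1 hb2).1
  have hb'y : b' * y = zz K * (y * b') := by
    have h1 : b' * y = p * (b * y) * p⁻¹ := by
      calc b' * y = p * b * p⁻¹ * (p * y * p⁻¹) := by rw [hb', hpy]
        _ = _ := by group
    rw [h1, hby]
    calc p * (zz K * (y * b)) * p⁻¹ = (p * zz K * p⁻¹) * ((p * y * p⁻¹) * (p * b * p⁻¹)) := by group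
      _ = _ := by rw [hpz, hpy, ← hb']
  obtain ⟨w, hw⟩ : ∃ w, w = b⁻¹ * b' := ⟨_, rfl⟩
  have hwK : w ∈ K := by rw [hw]; exact mul_mem (inv_mem hb) hb'K
  have hwy : w * y = y * w := by
    have h1 : b⁻¹ * (b' * y) = b⁻¹ * (zz K * (y * b')) := by rw [hb'y]
    have h2 : b⁻¹ * (zz K * y) = y * b⁻¹ := by
      rw [inv_mul_eq_iff_eq_mul]
      have h3 : b * (y * b⁻¹) = (b * y) * b⁻¹ := by group
      rw [h3, hby]
      group
    calc w * y = b⁻¹ * (b' * y) := by rw [hw]; group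
      _ = (b⁻¹ * (zz K * y)) * b' := by rw [h1]; group
      _ = y * w := by rw [h2, hw]; group
  have hpw : p * w * p⁻¹ = w := by
    by_cases h1 : w = 1
    · rw [h1]; group
    by_cases h2 : w = zz K
    · rw [h2, hpz]
    have h3 := h.sq_eq hK hwK h1 h2
    rcases h.eq_of_comm hK hy hwK hyy h3 hwy.symm with h4 | h4
    · rw [h4, hpy]
    · rw [h4]
      have h5 : p * y⁻¹ * p⁻¹ = (p * y * p⁻¹)⁻¹ := by group
      rw [h5, hpy]
  have hw4 : w * w * (w * w) = 1 := by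
    rcases h.sq hK hwK with h1 | h1 <;> rw [h1]
    · rw [one_mul]
    · exact h.zs hK
  have hpb : p * b * p⁻¹ = b * w := by rw [← hb', hw]; group
  have hpow : ∀ n : ℕ, p ^ n * b * (p ^ n)⁻¹ = b * w ^ n := by
    intro n
    induction n with
    | zero => simp
    | succ n ih =>
      have h1 : p ^ (n + 1) * b * (p ^ (n + 1))⁻¹ = p * (p ^ n * b * (p ^ n)⁻¹) * p⁻¹ := by
        rw [pow_succ']; group
      have h2 : p * w ^ n * p⁻¹ = w ^ n := by
        have h3 : Commute p w := mul_inv_eq_iff_eq_mul.1 hpw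
        have h4 := h3.pow_right n
        rw [h4.eq, mul_inv_cancel_right]
      rw [h1, ih]
      calc p * (b * w ^ n) * p⁻¹ = (p * b * p⁻¹) * (p * w ^ n * p⁻¹) := by group
        _ = b * w * w ^ n := by rw [hpb, h2]
        _ = b * w ^ (n + 1) := by rw [pow_succ', mul_assoc]
  have hp4 : p ^ 4 * b * (p ^ 4)⁻¹ = b := by
    rw [hpow 4]
    have h1 : w ^ 4 = w * w * (w * w) := by simp only [pow_succ, pow_zero, one_mul, mul_assoc]
    rw [h1, hw4, mul_one]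
  have hp4y : p ^ 4 * y * (p ^ 4)⁻¹ = y := by
    have h3 : Commute p y := mul_inv_eq_iff_eq_mul.1 hpy
    rw [(h3.pow_left 4).eq, mul_inv_cancel_right]
  have hp4K : K ≤ centralizer {p ^ 4} := by
    intro k hk
    refine (closure_le _).2 ?_ (h.gen_of_ne hK hy hyy hb hbb hb1 hb2 hk)
    rintro a (rfl | rfl)
    · exact mem_centralizer_singleton_iff.2 (mul_inv_eq_iff_eq_mul.1 hp4y).symm
    · exact mem_centralizer_singleton_iff.2 (mul_inv_eq_iff_eq_mul.1 hp4).symm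
  intro k hk
  have h1 := mem_centralizer_singleton_iff.1 (hp4K hk)
  have h3 : (orderOf g).Coprime 8 := by
    have h4 : (8 : ℕ) = 2 ^ 3 := by norm_num
    rw [h4]
    exact Nat.Coprime.pow_right 3 (Nat.coprime_two_right.2 hodd)
  obtain ⟨m, hm⟩ := exists_pow_eq_self_of_coprime h3.symm
  have h5 : p ^ 4 = g ^ 8 := by rw [hp, ← pow_two, ← pow_mul]
  rw [h5] at h1
  have h4 : Commute (g ^ 8) k := h1.symm
  have h6 := h4.pow_left m
  rw [hm] at h6
  exact h6.eq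

/-- (C3) from `Nil.C3 K` for one member of a class -/
theorem C3G.of_c3 [Finite G] (h : WR Om) (cls : ∀ K ∈ Om, ∀ L ∈ Om, ∃ g, cj g K = L) (hK : K ∈ Om) (c3 : Nil.C3 K) :
    C3G Om := by
  obtain ⟨Q, hQ, h8, c, hcK, -, hc3, q, hq, hcq⟩ := c3
  have hodd : Odd (orderOf c) := by
    obtain ⟨k, hk⟩ := hc3 ⟨c, mem_zpowers c⟩
    have hk' : c ^ 3 ^ k = 1 := congrArg Subtype.val hk
    exact Odd.of_dvd_nat (Odd.pow (by decide)) (orderOf_dvd_of_pow_eq_one hk')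
  intro L hL y hy hyy
  obtain ⟨g, rfl⟩ := cls K hK L hL
  have h1 : cj (g * c * g⁻¹) (cj g K) = cj g K := by
    rw [cj_mul, cj_mul, cj_inv_cj, mem_normalizer_iff_cj.1 hcK]
  refine ⟨g * c * g⁻¹, h1, h.axes hL h1 ?_ ?_ hy hyy⟩
  · have h2 := (MulAut.conj g).orderOf_eq c
    rw [MulAut.conj_apply] at h2
    rw [h2]; exact hodd
  · intro h2
    apply hcq
    have h3 := h2 _ (conj_mem_cj (g := g) (hQ.1 hq))
    have h4 : g * (c * q) * g⁻¹ = g * (q * c) * g⁻¹ := by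
      calc g * (c * q) * g⁻¹ = g * c * g⁻¹ * (g * q * g⁻¹) := by group
        _ = g * q * g⁻¹ * (g * c * g⁻¹) := h3
        _ = g * (q * c) * g⁻¹ := by group
    exact mul_left_cancel (mul_right_cancel h4)

end Cfsg.Agent.Cit.Nil.RG
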