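import Cfsg.Agent.Cit.Commute
import Cfsg.Agent.Cit.Nil.ROne.QEight

/-!
# (6b), (C3), general `r`: the world (helper488)

`WR Om` : `Om` is an invariant set of quaternion groups of order 8, members with the same involution commute,
`(H3)`, members in a common 2-group commute.

* `Ov Om z` : the members over `z`; `RR Om z = ⟨Ov Om z⟩`; `SS 𝒦 = ⟨𝒦⟩`;
* `Inn g K` : `g` acts on `K` as an inner automorphism (possibly trivial);
* `CP Om u v` : C-pair; `TI Om u v` : type I; `Fr Om x z` : `x` is not inner on the members over `z` which it fixes.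
-/

set_option autoImplicit false
set_option linter.style.haveILetI false
set_option linter.unusedSectionVars false

namespace Cfsg.Agent.Cit.Nil.RG

open Subgroup Cfsg Cit QuaternionGroup
open Cfsg.Agent.Cit.Nil.ROne

variable {G : Type*} [Group G]

/-- see the head of the file -/
structure WR (Om : Set (Subgroup G)) : Prop where
  q8 : ∀ K ∈ Om, Nonempty (K ≃* QuaternionGroup 2)
  conj : ∀ K ∈ Om, ∀ g, cj g K ∈ Om
  comm : ∀ K ∈ Om, ∀ L ∈ Om, zz K = zz L → K ≠ L → ∀ a ∈ K, ∀ b ∈ L, a * b = b * a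
  h3 : ∀ K ∈ Om, ∀ L ∈ Om, ∀ y ∈ K, y * y = zz K → y * zz L = zz L * y → cj y L = L
  pg : ∀ K ∈ Om, ∀ L ∈ Om, ∀ T : Subgroup G, IsPGroup 2 T → K ≤ T → L ≤ T → K ≠ L →
    ∀ a ∈ K, ∀ b ∈ L, a * b = b * a

/-- the subgroup generated by a set of subgroups -/
def SS (𝒦 : Set (Subgroup G)) : Subgroup G := closure {g | ∃ K ∈ 𝒦, g ∈ K}

/-- the members over `z` -/
def Ov (Om : Set (Subgroup G)) (z : G) : Set (Subgroup G) := {K | K ∈ Om ∧ zz K = z}

/-- the involutions of the members -/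
def ZZ (Om : Set (Subgroup G)) : Set G := {z | ∃ K ∈ Om, zz K = z}

/-- `R_z` -/
def RR (Om : Set (Subgroup G)) (z : G) : Subgroup G := SS (Ov Om z)

/-- `g` acts on `K` as an inner automorphism -/
def Inn (g : G) (K : Subgroup G) : Prop := ∃ y ∈ K, ∀ k ∈ K, g * k * g⁻¹ = y * k * y⁻¹

/-- C-pair -/
def CP (Om : Set (Subgroup G)) (u v : G) : Prop :=
  u ≠ v ∧ ∀ K ∈ Ov Om u, ∀ L ∈ Ov Om v, ∀ a ∈ K, ∀ b ∈ L, a * b = b * a

/-- `x` acts on the members over `z` as nontrivial inner automorphisms -/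
def IN (Om : Set (Subgroup G)) (x z : G) : Prop :=
  ∀ K ∈ Ov Om z, ∃ y ∈ K, y * y = z ∧ ∀ k ∈ K, x * k * x⁻¹ = y * k * y⁻¹

/-- type I -/
def TI (Om : Set (Subgroup G)) (u v : G) : Prop := IN Om u v ∧ IN Om v u

/-- `x` is not inner on the members over `z` which it fixes -/
def Fr (Om : Set (Subgroup G)) (x z : G) : Prop := ∀ K ∈ Ov Om z, cj x K = K → ¬ Inn x K

theorem Inn.cj_eq {g : G} {K : Subgroup G} (h : Inn g K) : cj g K = K := by
  obtain ⟨y, hy, h1⟩ := h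
  ext k
  rw [mem_cj]
  constructor
  · intro hk
    have h2 := h1 _ hk
    have h3 : g * (g⁻¹ * k * g) * g⁻¹ = k := by group
    rw [h3] at h2
    rw [h2]
    exact mul_mem (mul_mem hy hk) (inv_mem hy)
  · intro hk
    have h2 : y⁻¹ * k * y ∈ K := mul_mem (mul_mem (inv_mem hy) hk) hy
    have h3 := h1 _ h2
    have h4 : y * (y⁻¹ * k * y) * y⁻¹ = k := by group
    rw [h4] at h3
    have h5 : g⁻¹ * k * g = y⁻¹ * k * y := by
      calc g⁻¹ * k * g = g⁻¹ * (g * (y⁻¹ * k * y) * g⁻¹) * g := by rw [h3]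
        _ = y⁻¹ * k * y := by group
    rw [h5]; exact h2

namespace WR

variable {Om : Set (Subgroup G)} {K L : Subgroup G} {z x y g u v a b k : G}

/-! ### A single member -/

section member

variable (h : WR Om)

include h

/-- the model isomorphism -/
noncomputable def e (hK : K ∈ Om) : K ≃* QEight.Q := (h.q8 K hK).some

theorem lift (hK : K ∈ Om) (p q : K) (hpq : h.e hK p = h.e hK q) : (p : G) = q :=
  congrArg Subtype.val ((h.e hK).injective hpq)

theorem zz_spec (hK : K ∈ Om) : zz K ∈ K ∧ orderOf (zz K) = 2 := by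
  apply Cit.zz_spec
  refine ⟨((h.e hK).symm (QuaternionGroup.a 2) : K), ((h.e hK).symm (QuaternionGroup.a 2)).2, ?_⟩
  rw [Subgroup.orderOf_coe, MulEquiv.orderOf_eq]
  refine orderOf_eq_prime ?_ ?_
  · rw [pow_two]; decide
  · decide

theorem zm (hK : K ∈ Om) : zz K ∈ K := (h.zz_spec hK).1

theorem zs (hK : K ∈ Om) : zz K * zz K = 1 := by
  rw [← pow_two, ← (h.zz_spec hK).2, pow_orderOf_eq_one]

theorem zn (hK : K ∈ Om) : zz K ≠ 1 := by
  intro h1
  have := (h.zz_spec hK).2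
  rw [h1, orderOf_one] at this
  omega

theorem e_z (hK : K ∈ Om) : h.e hK ⟨zz K, h.zm hK⟩ = QuaternionGroup.a 2 := by
  have h1 : ∀ x : QEight.Q, x * x = 1 → x ≠ 1 → x = QuaternionGroup.a 2 := by decide
  apply h1
  · rw [← map_mul, ← map_one (h.e hK)]
    exact congrArg (h.e hK) (Subtype.ext (h.zs hK))
  · intro h2
    rw [← map_one (h.e hK)] at h2
    exact h.zn hK (congrArg Subtype.val ((h.e hK).injective h2))

theorem e_mul (hK : K ∈ Om) (hx : x ∈ K) (hy : y ∈ K) :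
    h.e hK ⟨x * y, mul_mem hx hy⟩ = h.e hK ⟨x, hx⟩ * h.e hK ⟨y, hy⟩ := by
  rw [← map_mul]; rfl

theorem e_inv (hK : K ∈ Om) (hx : x ∈ K) : h.e hK ⟨x⁻¹, inv_mem hx⟩ = (h.e hK ⟨x, hx⟩)⁻¹ := by
  rw [← map_inv]; rfl

theorem e_one (hK : K ∈ Om) : h.e hK ⟨1, one_mem K⟩ = 1 := map_one (h.e hK)

/-- transport of an equation -/
theorem eq_of_e (hK : K ∈ Om) (hx : x ∈ K) (hy : y ∈ K) (he : h.e hK ⟨x, hx⟩ = h.e hK ⟨y, hy⟩) : x = y :=
  congrArg Subtype.val ((h.e hK).injective he)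

theorem e_eq (hK : K ∈ Om) (hx : x ∈ K) (hy : y ∈ K) : h.e hK ⟨x, hx⟩ = h.e hK ⟨y, hy⟩ ↔ x = y :=
  ⟨h.eq_of_e hK hx hy, fun hxy => by subst hxy; rfl⟩

theorem uniq (hK : K ∈ Om) (hx : x ∈ K) (hxx : x * x = 1) : x = 1 ∨ x = zz K := by
  have h2 : ∀ x : QEight.Q, x * x = 1 → x = 1 ∨ x = QuaternionGroup.a 2 := by decide
  rcases h2 (h.e hK ⟨x, hx⟩) (by
    rw [← h.e_mul hK hx hx, ← h.e_one hK, h.e_eq hK]; exact hxx) with h3 | h3
  · left
    rw [← h.e_one hK, h.e_eq hK] at h3; exact h3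
  · right
    rw [← h.e_z hK, h.e_eq hK] at h3; exact h3

theorem sq (hK : K ∈ Om) (hx : x ∈ K) : x * x = 1 ∨ x * x = zz K := by
  refine h.uniq hK (mul_mem hx hx) ?_
  have h2 : ∀ x : QEight.Q, x * x * (x * x) = 1 := by decide
  have h3 := h2 (h.e hK ⟨x, hx⟩)
  rw [← h.e_mul hK hx hx, ← h.e_mul hK (mul_mem hx hx) (mul_mem hx hx), ← h.e_one hK, h.e_eq hK] at h3
  exact h3

theorem sq_eq (hK : K ∈ Om) (hx : x ∈ K) (h1 : x ≠ 1) (h2 : x ≠ zz K) : x * x = zz K := by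
  rcases h.sq hK hx with h3 | h3
  · rcases h.uniq hK hx h3 with h4 | h4
    · exact absurd h4 h1
    · exact absurd h4 h2
  · exact h3

/-- `zz K` is central in `K` -/
theorem cen (hK : K ∈ Om) (hx : x ∈ K) : x * zz K = zz K * x := by
  have h3 : ∀ x : QEight.Q, x * QuaternionGroup.a 2 = QuaternionGroup.a 2 * x := by decide
  have h4 := h3 (h.e hK ⟨x, hx⟩)
  rw [← h.e_z hK, ← h.e_mul hK hx (h.zm hK), ← h.e_mul hK (h.zm hK) hx, h.e_eq hK] at h4
  exact h4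

theorem inv_eq (hK : K ∈ Om) (hx : x ∈ K) (hxx : x * x = zz K) : x⁻¹ = zz K * x := by
  rw [inv_eq_iff_mul_eq_one, ← h.cen hK hx, ← mul_assoc, hxx, h.zs hK]

theorem four_ne_one (hK : K ∈ Om) (hxx : x * x = zz K) : x ≠ 1 := by
  rintro rfl
  rw [mul_one] at hxx
  exact h.zn hK hxx.symm

theorem four_ne_z (hK : K ∈ Om) (hxx : x * x = zz K) : x ≠ zz K := by
  rintro rfl
  rw [h.zs hK] at hxx
  exact h.zn hK hxx.symm

/-- two elements of order four on different axes anticommute -/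
theorem anti (hK : K ∈ Om) (ha : a ∈ K) (hb : b ∈ K) (haa : a * a = zz K) (hbb : b * b = zz K) (h1 : b ≠ a)
    (h2 : b ≠ a⁻¹) : b * a = zz K * (a * b) ∧ (a * b) * (a * b) = zz K := by
  have h3 : ∀ a b : QEight.Q, a * a = QuaternionGroup.a 2 → b * b = QuaternionGroup.a 2 → b ≠ a → b ≠ a⁻¹ →
      b * a = QuaternionGroup.a 2 * (a * b) ∧ (a * b) * (a * b) = QuaternionGroup.a 2 := by decide
  have h4 := h3 (h.e hK ⟨a, ha⟩) (h.e hK ⟨b, hb⟩)
    (by rw [← h.e_mul hK ha ha, ← h.e_z hK, h.e_eq hK]; exact haa)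
    (by rw [← h.e_mul hK hb hb, ← h.e_z hK, h.e_eq hK]; exact hbb)
    (by rw [Ne, h.e_eq hK]; exact h1)
    (by rw [← h.e_inv hK ha, Ne, h.e_eq hK]; exact h2)
  refine ⟨?_, ?_⟩
  · have h5 := h4.1
    rw [← h.e_mul hK hb ha, ← h.e_mul hK ha hb, ← h.e_z hK, ← h.e_mul hK (h.zm hK) (mul_mem ha hb), h.e_eq hK] at h5
    exact h5
  · have h5 := h4.2
    rw [← h.e_mul hK ha hb, ← h.e_mul hK (mul_mem ha hb) (mul_mem ha hb), ← h.e_z hK, h.e_eq hK] at h5
    exact h5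

/-- there is an element of order four -/
theorem exists_four (hK : K ∈ Om) : ∃ y ∈ K, y * y = zz K := by
  refine ⟨((h.e hK).symm (QuaternionGroup.a 1) : K), ((h.e hK).symm (QuaternionGroup.a 1)).2, ?_⟩
  refine h.eq_of_e hK (mul_mem ((h.e hK).symm (QuaternionGroup.a 1)).2 ((h.e hK).symm (QuaternionGroup.a 1)).2)
    (h.zm hK) ?_
  rw [h.e_z hK, h.e_mul hK ((h.e hK).symm (QuaternionGroup.a 1)).2 ((h.e hK).symm (QuaternionGroup.a 1)).2,
    Subtype.coe_eta, (h.e hK).apply_symm_apply]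
  decide

/-- there is an element of order four on another axis -/
theorem exists_anti (hK : K ∈ Om) (ha : a ∈ K) (haa : a * a = zz K) : ∃ b ∈ K, b * b = zz K ∧ b ≠ a ∧ b ≠ a⁻¹ := by
  have h3 : ∀ a : QEight.Q, a * a = QuaternionGroup.a 2 → ∃ b : QEight.Q, b * b = QuaternionGroup.a 2 ∧ b ≠ a ∧ b ≠ a⁻¹ := by
    decide
  obtain ⟨b, hb1, hb2, hb3⟩ := h3 (h.e hK ⟨a, ha⟩) (by rw [← h.e_mul hK ha ha, ← h.e_z hK, h.e_eq hK]; exact haa)
  have hbe : h.e hK ⟨((h.e hK).symm b : K), ((h.e hK).symm b).2⟩ = b := by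
    rw [Subtype.coe_eta, (h.e hK).apply_symm_apply]
  refine ⟨((h.e hK).symm b : K), ((h.e hK).symm b).2, ?_, ?_, ?_⟩
  · refine h.eq_of_e hK (mul_mem ((h.e hK).symm b).2 ((h.e hK).symm b).2) (h.zm hK) ?_
    rw [h.e_z hK, h.e_mul hK ((h.e hK).symm b).2 ((h.e hK).symm b).2, hbe, hb1]
  · intro h4
    apply hb2
    rw [← hbe, h.e_eq hK]
    exact h4
  · intro h4
    apply hb3
    rw [← hbe, ← h.e_inv hK ha, h.e_eq hK]
    exact h4

/-- an element centralising `K` in `K` -/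
theorem central (hK : K ∈ Om) (hx : x ∈ K) (hc : ∀ k ∈ K, x * k = k * x) : x = 1 ∨ x = zz K := by
  by_contra hcon
  push Not at hcon
  have h1 := h.sq_eq hK hx hcon.1 hcon.2
  obtain ⟨b, hb, hbb, h2, h3⟩ := h.exists_anti hK hx h1
  obtain ⟨h4, -⟩ := h.anti hK hx hb h1 hbb h2 h3
  rw [← hc b hb] at h4
  have h5 : zz K * (x * b) = 1 * (x * b) := by rw [one_mul]; exact h4.symm
  exact h.zn hK (mul_right_cancel h5)

/-- commuting elements of order four -/
theorem eq_of_comm (hK : K ∈ Om) (ha : a ∈ K) (hb : b ∈ K) (haa : a * a = zz K) (hbb : b * b = zz K)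
    (hc : a * b = b * a) : b = a ∨ b = a⁻¹ := by
  by_contra hcon
  push Not at hcon
  obtain ⟨h4, -⟩ := h.anti hK ha hb haa hbb hcon.1 hcon.2
  rw [← hc] at h4
  have h5 : zz K * (a * b) = 1 * (a * b) := by rw [one_mul]; exact h4.symm
  exact h.zn hK (mul_right_cancel h5)

theorem ne_inv (hK : K ∈ Om) (haa : a * a = zz K) : a ≠ a⁻¹ := by
  intro h1
  have h2 : a * a = 1 := by nth_rw 2 [h1]; rw [mul_inv_cancel]
  rw [haa] at h2
  exact h.zn hK h2

/-- conjugation inside `K` -/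
theorem conj_cases (hK : K ∈ Om) (hy : y ∈ K) (hk : k ∈ K) : y * k * y⁻¹ = k ∨ y * k * y⁻¹ = zz K * k := by
  by_cases hc : y * k = k * y
  · left; rw [hc, mul_inv_cancel_right]
  right
  have hy1 : y ≠ 1 := by rintro rfl; exact hc (by rw [one_mul, mul_one])
  have hy2 : y ≠ zz K := by rintro rfl; exact hc (h.cen hK hk).symm
  have hk1 : k ≠ 1 := by rintro rfl; exact hc (by rw [one_mul, mul_one])
  have hk2 : k ≠ zz K := by rintro rfl; exact hc (h.cen hK hy)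
  have hyy := h.sq_eq hK hy hy1 hy2
  have hkk := h.sq_eq hK hk hk1 hk2
  obtain ⟨h4, -⟩ := h.anti hK hk hy hkk hyy (by rintro rfl; exact hc rfl) (by
    intro h5; apply hc; rw [h5, inv_mul_cancel, mul_inv_cancel])
  rw [h4, mul_assoc, mul_assoc, mul_inv_cancel, mul_one]

theorem card (hK : K ∈ Om) : Nat.card K = 8 := by
  rw [Nat.card_congr (h.e hK).toEquiv, Nat.card_eq_fintype_card]
  decide

theorem two (hK : K ∈ Om) : IsPGroup 2 K := by
  haveI : Fact (Nat.Prime 2) := ⟨Nat.prime_two⟩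
  exact IsPGroup.of_card (n := 3) (h.card hK)

theorem zcj (hK : K ∈ Om) (g : G) : zz (cj g K) = g * zz K * g⁻¹ := by
  symm
  rcases h.uniq (h.conj K hK g) (conj_mem_cj (g := g) (h.zm hK)) (by
    rw [show g * zz K * g⁻¹ * (g * zz K * g⁻¹) = g * (zz K * zz K) * g⁻¹ by group, h.zs hK]; group) with h1 | h1
  · rw [conj_eq_one_iff] at h1
    exact absurd h1 (h.zn hK)
  · exact h1

end member

end WR

end Cfsg.Agent.Cit.Nil.RG
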