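import Cfsg.Agent.Cit.Nil.RG.TZero

/-!
# (6b), general `r`: (F1) (helper488)

Commuting elements of `ZZ Om` are C-pairs, at least two members over each involution: `x, u ∈ ZZ Om`, `u` commutes
with `x u x⁻¹`: then `x` commutes with `u`.
-/

set_option autoImplicit false
set_option linter.style.haveILetI false
set_option linter.unusedSectionVars false

namespace Cfsg.Agent.Cit.Nil.RG

open Subgroup Cfsg Cit QuaternionGroup
open Cfsg.Agent.Cit.Nil.ROne

variable {G : Type*} [Group G]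

/-- commuting involutions are C-pairs -/
def AllC (Om : Set (Subgroup G)) : Prop := ∀ s ∈ ZZ Om, ∀ x ∈ ZZ Om, x ≠ s → x * s = s * x → CP Om x s

/-- at least two members over each involution -/
def R2 (Om : Set (Subgroup G)) : Prop := ∀ z ∈ ZZ Om, 2 ≤ (Ov Om z).ncard

theorem R3.r2 {Om : Set (Subgroup G)} (h : R3 Om) : R2 Om := fun z hz => le_trans (by norm_num) (h z hz)

theorem exists_second [Finite G] {Om : Set (Subgroup G)} {z : G} (h2 : 2 ≤ (Ov Om z).ncard) (K : Subgroup G) :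
    ∃ M ∈ Ov Om z, M ≠ K := by
  by_contra hcon
  push Not at hcon
  have h1 : Ov Om z ⊆ {K} := fun M hM => hcon M hM
  have h3 := Set.ncard_le_ncard h1 (Set.toFinite _)
  rw [Set.ncard_singleton] at h3
  omega

namespace WR

variable {Om : Set (Subgroup G)} {𝒦 𝒦' : Set (Subgroup G)} {K L M : Subgroup G}
  {z x y g g' u v w a a' b k l r s t i p q c : G}

section

variable (h : WR Om) (hC : AllC Om)

include h hC

/-- (A) -/
theorem f1a (hx : x ∈ ZZ Om) (hu : u ∈ ZZ Om) (huv : CP Om u (x * u * x⁻¹)) (ha : a ∈ RR Om u) (haa : a * a = 1) :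
    x * (a * x * a⁻¹) = (a * x * a⁻¹) * x ∧ ∀ s ∈ RR Om x, (a * (x * a * x⁻¹)) * s = s * (a * (x * a * x⁻¹)) := by
  have hxx := h.zz_sq hx
  have hxi := h.zz_inv hx
  have hai : a⁻¹ = a := inv_eq_of_mul_eq_one_right haa
  have hcom : a * (x * a * x⁻¹) = (x * a * x⁻¹) * a := h.CP_RR huv ha (h.RR_cj ha x)
  have h1 : a * x * a⁻¹ = x * (a * (x * a * x⁻¹)) := by
    rw [hcom, hai, hxi]
    calc a * x * a = 1 * a * x * a := by group
      _ = (x * x) * a * x * a := by rw [hxx]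
      _ = _ := by group
  have hdx : x * (a * (x * a * x⁻¹)) = (a * (x * a * x⁻¹)) * x := by
    calc x * (a * (x * a * x⁻¹)) = (x * a * x⁻¹) * (x * x) * a * x⁻¹ := by group
      _ = (x * a * x⁻¹) * a * x⁻¹ := by rw [hxx, mul_one]
      _ = (a * (x * a * x⁻¹)) * x⁻¹ := by rw [hcom]
      _ = (a * (x * a * x⁻¹)) * x := by rw [hxi]
  have hx' : a * x * a⁻¹ ∈ ZZ Om := h.zz_cj hx a
  have hcx : x * (a * x * a⁻¹) = (a * x * a⁻¹) * x := by
    rw [h1, mul_assoc x _ x, ← hdx]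
  refine ⟨hcx, fun s hs => ?_⟩
  by_cases hne : a * x * a⁻¹ = x
  · rw [h1] at hne
    rw [mul_eq_left.1 hne, one_mul, mul_one]
  · have h2 := hC x hx _ hx' hne hcx.symm
    have h3 := h.CP_RR h2 (h.RR_mem hx') hs
    have h4 := h.RR_cen hs
    rw [h1] at h3
    have h5 : x * ((a * (x * a * x⁻¹)) * s) = x * (s * (a * (x * a * x⁻¹))) := by
      calc x * ((a * (x * a * x⁻¹)) * s) = x * (a * (x * a * x⁻¹)) * s := by group
        _ = (s * x) * (a * (x * a * x⁻¹)) := by rw [h3]; group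
        _ = _ := by rw [← h4]; group
    exact mul_left_cancel h5

/-- (B) -/
theorem f1b [Finite G] (h2 : R2 Om) (hx : x ∈ ZZ Om) (hu : u ∈ ZZ Om) (huv : CP Om u (x * u * x⁻¹)) (hK : K ∈ Ov Om u)
    (hk : k ∈ K) (hkk : k * k = u) : ∀ s ∈ RR Om x, (k * (x * k * x⁻¹)) * s = s * (k * (x * k * x⁻¹)) := by
  have huu := h.zz_sq hu
  obtain ⟨L, hL, hLK⟩ := exists_second (h2 u hu) K
  obtain ⟨l, hl, hll⟩ := h.exists_four hL.1
  rw [hL.2] at hll
  have hkq : k * k = zz K := by rw [hkk, hK.2]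
  obtain ⟨b, hb, hbb, hb1, hb2⟩ := h.exists_anti hK.1 hk hkq
  obtain ⟨-, h3⟩ := h.anti hK.1 hk hb hkq hbb hb1 hb2
  rw [hK.2] at hbb h3
  have hbi : b⁻¹ = u * b := by rw [h.inv_eq hK.1 hb (by rw [hbb, hK.2]), hK.2]
  have hli : l⁻¹ = u * l := by rw [h.inv_eq hL.1 hl (by rw [hll, hL.2]), hL.2]
  -- `k = k₁ b`, `k₁ = k b⁻¹`
  have hk1 : k * b⁻¹ ∈ K := mul_mem hk (inv_mem hb)
  have hk1s : (k * b⁻¹) * (k * b⁻¹) = u := by
    have h4 : k * b⁻¹ = u * (k * b) := by rw [hbi, ← mul_assoc, ← h.Ov_cen hK hk, mul_assoc]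
    have h5 := h.Ov_cen hK (mul_mem hk hb)
    rw [h4]
    calc u * (k * b) * (u * (k * b)) = u * ((k * b) * u) * (k * b) := by group
      _ = u * (u * (k * b)) * (k * b) := by rw [h5]
      _ = (u * u) * ((k * b) * (k * b)) := by group
      _ = u := by rw [huu, h3, one_mul]
  have hc : ∀ p ∈ K, p * l = l * p := fun p hp => h.Ov_comm hK hL hLK.symm hp hl
  have ha1 : (k * b⁻¹ * l) * (k * b⁻¹ * l) = 1 := by
    have h4 := hc _ hk1
    calc (k * b⁻¹ * l) * (k * b⁻¹ * l) = (k * b⁻¹) * (l * (k * b⁻¹)) * l := by group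
      _ = (k * b⁻¹) * (k * b⁻¹ * l) * l := by rw [h4]
      _ = ((k * b⁻¹) * (k * b⁻¹)) * (l * l) := by group
      _ = 1 := by rw [hk1s, hll, huu]
  have ha2 : (b * l⁻¹) * (b * l⁻¹) = 1 := by
    have h4 : l⁻¹ * b = b * l⁻¹ := by
      rw [inv_mul_eq_iff_eq_mul, ← mul_assoc, ← hc b hb, mul_inv_cancel_right]
    calc (b * l⁻¹) * (b * l⁻¹) = b * (l⁻¹ * b) * l⁻¹ := by group
      _ = (b * b) * (l * l)⁻¹ := by rw [h4]; group
      _ = 1 := by rw [hbb, hll, mul_inv_cancel]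
  have ha1m : k * b⁻¹ * l ∈ RR Om u := mul_mem (le_RR hK hk1) (le_RR hL hl)
  have ha2m : b * l⁻¹ ∈ RR Om u := mul_mem (le_RR hK hb) (inv_mem (le_RR hL hl))
  have hkp : k = (k * b⁻¹ * l) * (b * l⁻¹) := by
    calc k = (k * b⁻¹) * b := by group
      _ = (k * b⁻¹) * (b * l) * l⁻¹ := by group
      _ = (k * b⁻¹) * (l * b) * l⁻¹ := by rw [hc b hb]
      _ = _ := by group
  obtain ⟨a1, e1⟩ : ∃ a1, a1 = k * b⁻¹ * l := ⟨_, rfl⟩
  obtain ⟨a2, e2⟩ : ∃ a2, a2 = b * l⁻¹ := ⟨_, rfl⟩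
  rw [← e1] at ha1 ha1m hkp
  rw [← e2] at ha2 ha2m hkp
  have h5 : a2 * (x * a1 * x⁻¹) = (x * a1 * x⁻¹) * a2 := h.CP_RR huv ha2m (h.RR_cj ha1m x)
  have h6 : k * (x * k * x⁻¹) = (a1 * (x * a1 * x⁻¹)) * (a2 * (x * a2 * x⁻¹)) := by
    rw [hkp]
    calc a1 * a2 * (x * (a1 * a2) * x⁻¹) = a1 * (a2 * (x * a1 * x⁻¹)) * (x * a2 * x⁻¹) := by group
      _ = a1 * ((x * a1 * x⁻¹) * a2) * (x * a2 * x⁻¹) := by rw [h5]
      _ = _ := by group
  intro s hs
  have h7 := (h.f1a hC hx hu huv ha1m ha1).2 s hs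
  have h8 := (h.f1a hC hx hu huv ha2m ha2).2 s hs
  rw [h6, mul_assoc, h8, ← mul_assoc, h7, mul_assoc]

/-- **(F1)** -/
theorem f1 [Finite G] (h2 : R2 Om) (hx : x ∈ ZZ Om) (hu : u ∈ ZZ Om)
    (hc : u * (x * u * x⁻¹) = (x * u * x⁻¹) * u) : x * u = u * x := by
  by_contra hcon
  have hxx := h.zz_sq hx
  have hxi := h.zz_inv hx
  have huu := h.zz_sq hu
  have hui := h.zz_inv hu
  obtain ⟨v, hv⟩ : ∃ v, v = x * u * x⁻¹ := ⟨_, rfl⟩
  rw [← hv] at hc
  have hvZ : v ∈ ZZ Om := by rw [hv]; exact h.zz_cj hu x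
  have hvu : v ≠ u := by
    intro h3
    apply hcon
    rw [hv, mul_inv_eq_iff_eq_mul] at h3
    exact h3
  have hCP : CP Om u v := hC v hvZ u hu hvu.symm hc
  obtain ⟨c, hc0⟩ : ∃ c, c = u * v := ⟨_, rfl⟩
  have hvv := h.zz_sq hvZ
  have hxv : x * v * x⁻¹ = u := by
    rw [hv]
    calc x * (x * u * x⁻¹) * x⁻¹ = (x * x) * u * (x * x)⁻¹ := by group
      _ = u := by rw [hxx]; group
  have hcc : c * c = 1 := by
    rw [hc0]
    calc u * v * (u * v) = u * (v * u) * v := by group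
      _ = u * (u * v) * v := by rw [hc]
      _ = (u * u) * (v * v) := by group
      _ = 1 := by rw [huu, hvv, one_mul]
  have hvc : v = u * c := by rw [hc0, ← mul_assoc, huu, one_mul]
  have huc : u * c = c * u := by rw [hc0, ← mul_assoc, huu, one_mul, mul_assoc, ← hc, ← mul_assoc, huu, one_mul]
  have hc1 : c ≠ 1 := by
    intro h3
    rw [h3, mul_one] at hvc
    exact hvu hvc
  have hxc : x * c * x⁻¹ = c := by
    rw [hc0]
    calc x * (u * v) * x⁻¹ = (x * u * x⁻¹) * (x * v * x⁻¹) := by group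
      _ = u * v := by rw [hxv, ← hv, hc]
  have hxc' : x * c = c * x := by rwa [mul_inv_eq_iff_eq_mul] at hxc
  have hux : u * x * u⁻¹ = x * c := by
    rw [hui]
    calc u * x * u = 1 * (u * x * u) := by group
      _ = (x * x) * (u * x * u) := by rw [hxx]
      _ = x * ((x * u * x) * u) := by group
      _ = x * ((x * u * x⁻¹) * u) := by rw [hxi]
      _ = x * c := by rw [← hv, ← hc, hc0]
  have hxcZ : x * c ∈ ZZ Om := by rw [← hux]; exact h.zz_cj hx u
  have hCPx : CP Om x (u * x * u⁻¹) := by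
    rw [hux]
    exact hC _ hxcZ x hx (fun h3 => hc1 (mul_eq_left.1 h3.symm)) (by rw [mul_assoc x c x, ← hxc'])
  -- `c` centralises `R_x`
  have hcR : ∀ s ∈ RR Om x, c * s = s * c := by
    intro s hs
    have h3 := h.CP_RR hCPx hs (h.RR_mem (h.zz_cj hx u))
    rw [hux] at h3
    have h4 := h.RR_cen hs
    have h5 : x * (c * s) = x * (s * c) := by
      calc x * (c * s) = x * c * s := by group
        _ = s * (x * c) := h3.symm
        _ = (s * x) * c := by group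
        _ = _ := by rw [← h4]; group
    exact mul_left_cancel h5
  -- (C)
  have stepC : ∀ s ∈ RR Om x, s * s = 1 → s * u * s⁻¹ = u ∨ s * u * s⁻¹ = v := by
    intro s hs hss
    obtain ⟨w, hw⟩ : ∃ w, w = s * u * s⁻¹ := ⟨_, rfl⟩
    rw [← hw]
    by_contra hcon2
    push Not at hcon2
    obtain ⟨hwu, hwv⟩ := hcon2
    have hwZ : w ∈ ZZ Om := by rw [hw]; exact h.zz_cj hu s
    have h3 : u * w = w * u := by
      have h4 := (h.f1a hC hu hx (by exact hCPx) hs hss).1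
      rw [← hw] at h4
      exact h4
    have hwc : s * v * s⁻¹ = w * c := by
      have h4 : s * c = c * s := (hcR s hs).symm
      calc s * v * s⁻¹ = s * u * c * s⁻¹ := by rw [hvc]; group
        _ = (s * u * s⁻¹) * (s * c * s⁻¹) := by group
        _ = w * c := by rw [h4, mul_inv_cancel_right, ← hw]
    have hwcZ : w * c ∈ ZZ Om := by rw [← hwc]; exact h.zz_cj hvZ s
    have h5 : u * (w * c) = (w * c) * u := by rw [← mul_assoc, h3, mul_assoc, huc, ← mul_assoc]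
    have h6 : w * c ≠ u := by
      intro h7
      apply hwv
      have h8 : w = u * c := by rw [← h7, mul_assoc, hcc, mul_one]
      rw [h8, hvc]
    have hCP1 : CP Om w u := hC u hu w hwZ hwu h3.symm
    have hCP2 : CP Om (w * c) u := hC u hu _ hwcZ h6 h5.symm
    obtain ⟨K, hK⟩ := id hu
    obtain ⟨k, hk, hkk⟩ := h.exists_four hK.1
    rw [hK.2] at hkk
    have hd := h.f1b hC h2 hx hu (by rw [← hv]; exact hCP) hK hk hkk s hs
    refine h.four_nc hK hk hkk fun l hl => ?_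
    have hlR : l ∈ RR Om u := le_RR hK hl
    have hkR : k ∈ RR Om u := le_RR hK hk
    -- `d = s d s⁻¹`
    have h7 : k * (x * k * x⁻¹) = (s * k * s⁻¹) * (s * (x * k * x⁻¹) * s⁻¹) := by
      have h8 : s * (k * (x * k * x⁻¹)) * s⁻¹ = k * (x * k * x⁻¹) := by rw [← hd, mul_inv_cancel_right]
      rw [← h8]; group
    have h8 : s * k * s⁻¹ ∈ RR Om w := by rw [hw]; exact h.RR_cj hkR s
    have h9 : s * (x * k * x⁻¹) * s⁻¹ ∈ RR Om (w * c) := by
      rw [← hwc, hv]; exact h.RR_cj (h.RR_cj hkR x) s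
    have h10 := h.CP_RR hCP1 h8 hlR
    have h11 := h.CP_RR hCP2 h9 hlR
    have h12 : (k * (x * k * x⁻¹)) * l = l * (k * (x * k * x⁻¹)) := by
      rw [h7, mul_assoc, h11, ← mul_assoc, h10, mul_assoc]
    have h13 : l * (x * k * x⁻¹) = (x * k * x⁻¹) * l := by
      have h14 : x * k * x⁻¹ ∈ RR Om v := by rw [hv]; exact h.RR_cj hkR x
      exact h.CP_RR hCP hlR h14
    have h14 : (k * l) * (x * k * x⁻¹) = (l * k) * (x * k * x⁻¹) := by
      calc (k * l) * (x * k * x⁻¹) = k * (l * (x * k * x⁻¹)) := by group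
        _ = k * ((x * k * x⁻¹) * l) := by rw [h13]
        _ = (k * (x * k * x⁻¹)) * l := by group
        _ = l * (k * (x * k * x⁻¹)) := h12
        _ = _ := by group
    exact mul_right_cancel h14
  -- (D)
  obtain ⟨K, hK⟩ := id hx
  obtain ⟨L, hL, hLK⟩ := exists_second (h2 x hx) K
  obtain ⟨k, hk, hkk⟩ := h.exists_four hK.1
  obtain ⟨k', hk', hkk', hk1, hk2⟩ := h.exists_anti hK.1 hk hkk
  obtain ⟨-, h3⟩ := h.anti hK.1 hk hk' hkk hkk' hk1 hk2
  obtain ⟨l, hl, hll⟩ := h.exists_four hL.1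
  rw [hK.2] at hkk hkk' h3
  rw [hL.2] at hll
  have hcl : ∀ p ∈ K, p * l = l * p := fun p hp => h.Ov_comm hK hL hLK.symm hp hl
  have inv : ∀ p ∈ K, p * p = x → (p * l) * (p * l) = 1 := by
    intro p hp hpp
    calc (p * l) * (p * l) = p * (l * p) * l := by group
      _ = p * (p * l) * l := by rw [hcl p hp]
      _ = (p * p) * (l * l) := by group
      _ = 1 := by rw [hpp, hll, hxx]
  have hmem : ∀ p ∈ K, p * l ∈ RR Om x := fun p hp => mul_mem (le_RR hK hp) (le_RR hL hl)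
  have ca := stepC _ (hmem k hk) (inv k hk hkk)
  have cb := stepC _ (hmem k' hk') (inv k' hk' hkk')
  -- `p = a b`
  have mv : ∀ p ∈ RR Om x, (p * u * p⁻¹ = u ∨ p * u * p⁻¹ = v) → (p * v * p⁻¹ = v ∨ p * v * p⁻¹ = u) ∧
      (p * u * p⁻¹ = u → p * v * p⁻¹ = v) ∧ (p * u * p⁻¹ = v → p * v * p⁻¹ = u) := by
    intro p hp hpu
    have h4 : p * c = c * p := (hcR p hp).symm
    have h5 : p * v * p⁻¹ = (p * u * p⁻¹) * c := by
      calc p * v * p⁻¹ = (p * u * p⁻¹) * (p * c * p⁻¹) := by rw [hvc]; group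
        _ = _ := by rw [h4, mul_inv_cancel_right]
    have h6 : v * c = u := by rw [hvc, mul_assoc, hcc, mul_one]
    refine ⟨?_, ?_, ?_⟩
    · rcases hpu with h7 | h7
      · left; rw [h5, h7, hvc]
      · right; rw [h5, h7, h6]
    · intro h7; rw [h5, h7, hvc]
    · intro h7; rw [h5, h7, h6]
  have hpab : ((k * l) * (k' * l)) * ((k * l) * (k' * l)) = x := by
    have h4 : (k * l) * (k' * l) = (k * k') * x := by
      calc (k * l) * (k' * l) = k * (l * k') * l := by group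
        _ = k * (k' * l) * l := by rw [hcl k' hk']
        _ = (k * k') * (l * l) := by group
        _ = _ := by rw [hll]
    have h5 := h.Ov_cen hK (mul_mem hk hk')
    rw [h4]
    calc (k * k') * x * ((k * k') * x) = (k * k') * (x * (k * k')) * x := by group
      _ = (k * k') * ((k * k') * x) * x := by rw [h5]
      _ = ((k * k') * (k * k')) * (x * x) := by group
      _ = x := by rw [h3, hxx, mul_one]
  obtain ⟨a, ha0⟩ : ∃ a, a = k * l := ⟨_, rfl⟩
  obtain ⟨b, hb0⟩ : ∃ b, b = k' * l := ⟨_, rfl⟩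
  have haR := hmem k hk
  have hbR := hmem k' hk'
  rw [← ha0] at ca hpab haR
  rw [← hb0] at cb hpab hbR
  have hma := mv a haR ca
  have hp : (a * b) * u * (a * b)⁻¹ = u ∨ (a * b) * u * (a * b)⁻¹ = v := by
    have h4 : (a * b) * u * (a * b)⁻¹ = a * (b * u * b⁻¹) * a⁻¹ := by group
    rw [h4]
    rcases cb with h5 | h5
    · rw [h5]; exact ca
    · rw [h5]; exact hma.1.symm
  have hmp := mv (a * b) (mul_mem haR hbR) hp
  apply hvu
  rw [hv]
  have h4 : x * u * x⁻¹ = (a * b) * ((a * b) * u * (a * b)⁻¹) * (a * b)⁻¹ := by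
    nth_rw 1 2 [← hpab]; group
  rw [h4]
  rcases hp with h5 | h5
  · rw [h5, h5]
  · rw [h5]; exact hmp.2.2 h5

end

end WR

end Cfsg.Agent.Cit.Nil.RG
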