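import Cfsg.Agent.Cit.Nil.RG.FOne

/-!
# (6b), general `r`: (F1) from the diagonal elements (helper488)

`WR.f1_of` : `(u, x u x⁻¹)` and `(x, u x u⁻¹)` are C-pairs, the diagonal elements `a (x a x⁻¹)`, `a ∈ R_u` an involution,
centralise `R_x`, and conversely: impossible.  (No hypothesis on other pairs.)
-/

set_option autoImplicit false
set_option linter.style.haveILetI false
set_option linter.unusedSectionVars false

namespace Cfsg.Agent.Cit.Nil.RG

open Subgroup Cfsg Cit QuaternionGroup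
open Cfsg.Agent.Cit.Nil.ROne

variable {G : Type*} [Group G]

namespace WR

variable {Om : Set (Subgroup G)} {𝒦 𝒦' : Set (Subgroup G)} {K L M : Subgroup G}
  {z x y g g' u v w a a' b k l r s t i p q c : G}

section

variable (h : WR Om)

include h

/-- (B) -/
theorem f1b_of [Finite G] (h2 : R2 Om) (hu : u ∈ ZZ Om) (huv : CP Om u (x * u * x⁻¹))
    (hA : ∀ a ∈ RR Om u, a * a = 1 → ∀ s ∈ RR Om x, (a * (x * a * x⁻¹)) * s = s * (a * (x * a * x⁻¹)))
    (hK : K ∈ Ov Om u) (hk : k ∈ K) (hkk : k * k = u) : ∀ s ∈ RR Om x, (k * (x * k * x⁻¹)) * s = s * (k * (x * k * x⁻¹)) := by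
  have huu := h.zz_sq hu
  obtain ⟨L, hL, hLK⟩ := exists_second (h2 u hu) K
  obtain ⟨l, hl, hll⟩ := h.exists_four hL.1
  rw [hL.2] at hll
  have hkq : k * k = zz K := by rw [hkk, hK.2]
  obtain ⟨b, hb, hbb, hb1, hb2⟩ := h.exists_anti hK.1 hk hkq
  obtain ⟨-, h3⟩ := h.anti hK.1 hk hb hkq hbb hb1 hb2
  rw [hK.2] at hbb h3
  have hbi : b⁻¹ = u * b := by rw [h.inv_eq hK.1 hb (by rw [hbb, hK.2]), hK.2]
  have hli : l⁻¹ = u * l := by rw [h.inv_eq hL.1 hl (by rw [hll, hL.2]), hL.2]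
  -- `k = k₁ b`, `k₁ = k b⁻¹`
  have hk1 : k * b⁻¹ ∈ K := mul_mem hk (inv_mem hb)
  have hk1s : (k * b⁻¹) * (k * b⁻¹) = u := by
    have h4 : k * b⁻¹ = u * (k * b) := by rw [hbi, ← mul_assoc, ← h.Ov_cen hK hk, mul_assoc]
    have h5 := h.Ov_cen hK (mul_mem hk hb)
    rw [h4]
    calc u * (k * b) * (u * (k * b)) = u * ((k * b) * u) * (k * b) := by group
      _ = u * (u * (k * b)) * (k * b) := by rw [h5]
      _ = (u * u) * ((k * b) * (k * b)) := by group
      _ = u := by rw [huu, h3, one_mul]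
  have hc : ∀ p ∈ K, p * l = l * p := fun p hp => h.Ov_comm hK hL hLK.symm hp hl
  have ha1 : (k * b⁻¹ * l) * (k * b⁻¹ * l) = 1 := by
    have h4 := hc _ hk1
    calc (k * b⁻¹ * l) * (k * b⁻¹ * l) = (k * b⁻¹) * (l * (k * b⁻¹)) * l := by group
      _ = (k * b⁻¹) * (k * b⁻¹ * l) * l := by rw [h4]
      _ = ((k * b⁻¹) * (k * b⁻¹)) * (l * l) := by group
      _ = 1 := by rw [hk1s, hll, huu]
  have ha2 : (b * l⁻¹) * (b * l⁻¹) = 1 := by
    have h4 : l⁻¹ * b = b * l⁻¹ := by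
      rw [inv_mul_eq_iff_eq_mul, ← mul_assoc, ← hc b hb, mul_inv_cancel_right]
    calc (b * l⁻¹) * (b * l⁻¹) = b * (l⁻¹ * b) * l⁻¹ := by group
      _ = (b * b) * (l * l)⁻¹ := by rw [h4]; group
      _ = 1 := by rw [hbb, hll, mul_inv_cancel]
  have ha1m : k * b⁻¹ * l ∈ RR Om u := mul_mem (le_RR hK hk1) (le_RR hL hl)
  have ha2m : b * l⁻¹ ∈ RR Om u := mul_mem (le_RR hK hb) (inv_mem (le_RR hL hl))
  have hkp : k = (k * b⁻¹ * l) * (b * l⁻¹) := by
    calc k = (k * b⁻¹) * b := by group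
      _ = (k * b⁻¹) * (b * l) * l⁻¹ := by group
      _ = (k * b⁻¹) * (l * b) * l⁻¹ := by rw [hc b hb]
      _ = _ := by group
  obtain ⟨a1, e1⟩ : ∃ a1, a1 = k * b⁻¹ * l := ⟨_, rfl⟩
  obtain ⟨a2, e2⟩ : ∃ a2, a2 = b * l⁻¹ := ⟨_, rfl⟩
  rw [← e1] at ha1 ha1m hkp
  rw [← e2] at ha2 ha2m hkp
  have h5 : a2 * (x * a1 * x⁻¹) = (x * a1 * x⁻¹) * a2 := h.CP_RR huv ha2m (h.RR_cj ha1m x)
  have h6 : k * (x * k * x⁻¹) = (a1 * (x * a1 * x⁻¹)) * (a2 * (x * a2 * x⁻¹)) := by
    rw [hkp]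
    calc a1 * a2 * (x * (a1 * a2) * x⁻¹) = a1 * (a2 * (x * a1 * x⁻¹)) * (x * a2 * x⁻¹) := by group
      _ = a1 * ((x * a1 * x⁻¹) * a2) * (x * a2 * x⁻¹) := by rw [h5]
      _ = _ := by group
  intro s hs
  have h7 := hA a1 ha1m ha1 s hs
  have h8 := hA a2 ha2m ha2 s hs
  rw [h6, mul_assoc, h8, ← mul_assoc, h7, mul_assoc]

/-- **(F1)** -/
theorem f1_of [Finite G] (h2 : R2 Om) (hx : x ∈ ZZ Om) (hu : u ∈ ZZ Om) (huv : CP Om u (x * u * x⁻¹))
    (hxu : CP Om x (u * x * u⁻¹))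
    (hA : ∀ a ∈ RR Om u, a * a = 1 → ∀ s ∈ RR Om x, (a * (x * a * x⁻¹)) * s = s * (a * (x * a * x⁻¹)))
    (hA' : ∀ s ∈ RR Om x, s * s = 1 → ∀ a ∈ RR Om u, (s * (u * s * u⁻¹)) * a = a * (s * (u * s * u⁻¹))) : False := by
  have hc : u * (x * u * x⁻¹) = (x * u * x⁻¹) * u := h.CP_comm huv hu (h.zz_cj hu x)
  have hxx := h.zz_sq hx
  have hxi := h.zz_inv hx
  have huu := h.zz_sq hu
  have hui := h.zz_inv hu
  obtain ⟨v, hv⟩ : ∃ v, v = x * u * x⁻¹ := ⟨_, rfl⟩
  rw [← hv] at hc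
  have hvZ : v ∈ ZZ Om := by rw [hv]; exact h.zz_cj hu x
  have hCP : CP Om u v := by rw [hv]; exact huv
  have hvu : v ≠ u := hCP.1.symm
  obtain ⟨c, hc0⟩ : ∃ c, c = u * v := ⟨_, rfl⟩
  have hvv := h.zz_sq hvZ
  have hxv : x * v * x⁻¹ = u := by
    rw [hv]
    calc x * (x * u * x⁻¹) * x⁻¹ = (x * x) * u * (x * x)⁻¹ := by group
      _ = u := by rw [hxx]; group
  have hcc : c * c = 1 := by
    rw [hc0]
    calc u * v * (u * v) = u * (v * u) * v := by group
      _ = u * (u * v) * v := by rw [hc]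
      _ = (u * u) * (v * v) := by group
      _ = 1 := by rw [huu, hvv, one_mul]
  have hvc : v = u * c := by rw [hc0, ← mul_assoc, huu, one_mul]
  have huc : u * c = c * u := by rw [hc0, ← mul_assoc, huu, one_mul, mul_assoc, ← hc, ← mul_assoc, huu, one_mul]
  have hc1 : c ≠ 1 := by
    intro h3
    rw [h3, mul_one] at hvc
    exact hvu hvc
  have hxc : x * c * x⁻¹ = c := by
    rw [hc0]
    calc x * (u * v) * x⁻¹ = (x * u * x⁻¹) * (x * v * x⁻¹) := by group
      _ = u * v := by rw [hxv, ← hv, hc]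
  have hxc' : x * c = c * x := by rwa [mul_inv_eq_iff_eq_mul] at hxc
  have hux : u * x * u⁻¹ = x * c := by
    rw [hui]
    calc u * x * u = 1 * (u * x * u) := by group
      _ = (x * x) * (u * x * u) := by rw [hxx]
      _ = x * ((x * u * x) * u) := by group
      _ = x * ((x * u * x⁻¹) * u) := by rw [hxi]
      _ = x * c := by rw [← hv, ← hc, hc0]
  have hxcZ : x * c ∈ ZZ Om := by rw [← hux]; exact h.zz_cj hx u
  have hCPx : CP Om x (u * x * u⁻¹) := hxu
  -- `c` centralises `R_x`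
  have hcR : ∀ s ∈ RR Om x, c * s = s * c := by
    intro s hs
    have h3 := h.CP_RR hCPx hs (h.RR_mem (h.zz_cj hx u))
    rw [hux] at h3
    have h4 := h.RR_cen hs
    have h5 : x * (c * s) = x * (s * c) := by
      calc x * (c * s) = x * c * s := by group
        _ = s * (x * c) := h3.symm
        _ = (s * x) * c := by group
        _ = _ := by rw [← h4]; group
    exact mul_left_cancel h5
  -- (C)
  have stepC : ∀ s ∈ RR Om x, s * s = 1 → s * u * s⁻¹ = u ∨ s * u * s⁻¹ = v := by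
    intro s hs hss
    obtain ⟨w, hw⟩ : ∃ w, w = s * u * s⁻¹ := ⟨_, rfl⟩
    rw [← hw]
    by_contra hcon2
    push Not at hcon2
    obtain ⟨hwu, hwv⟩ := hcon2
    have hwZ : w ∈ ZZ Om := by rw [hw]; exact h.zz_cj hu s
    -- `w u = s (u s u⁻¹)` centralises `R_u`
    have hsi : s⁻¹ = s := inv_eq_of_mul_eq_one_right hss
    have hwu2 : s * (u * s * u⁻¹) = w * u := by rw [hw, hsi, hui]; group
    have hwR : ∀ a ∈ RR Om u, w * a = a * w := by
      intro a ha
      have h3 := hA' s hs hss a ha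
      rw [hwu2] at h3
      have h4 := h.RR_cen ha
      have h5 : (w * a) * u = (a * w) * u := by
        calc (w * a) * u = w * (u * a) := by rw [h4]; group
          _ = (w * u) * a := by group
          _ = a * (w * u) := h3
          _ = _ := by group
      exact mul_right_cancel h5
    have h3 : u * w = w * u := (hwR u (h.RR_mem hu)).symm
    have hwc : s * v * s⁻¹ = w * c := by
      have h4 : s * c = c * s := (hcR s hs).symm
      calc s * v * s⁻¹ = s * u * c * s⁻¹ := by rw [hvc]; group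
        _ = (s * u * s⁻¹) * (s * c * s⁻¹) := by group
        _ = w * c := by rw [h4, mul_inv_cancel_right, ← hw]
    have hwcZ : w * c ∈ ZZ Om := by rw [← hwc]; exact h.zz_cj hvZ s
    have h5 : u * (w * c) = (w * c) * u := by rw [← mul_assoc, h3, mul_assoc, huc, ← mul_assoc]
    have h6 : w * c ≠ u := by
      intro h7
      apply hwv
      have h8 : w = u * c := by rw [← h7, mul_assoc, hcc, mul_one]
      rw [h8, hvc]
    obtain ⟨K, hK⟩ := id hu
    have hCP1 : CP Om w u := (h.CP_of_cen hK (fun k hk => hwR k (le_RR hK hk)) (Ne.symm hwu)).symm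
    have hcRu : ∀ a ∈ RR Om u, c * a = a * c := by
      intro a ha
      have h7 := h.CP_RR hCP ha (h.RR_mem hvZ)
      have h8 := h.RR_cen ha
      rw [hc0]
      calc u * v * a = u * (v * a) := by group
        _ = u * (a * v) := by rw [h7]
        _ = (u * a) * v := by group
        _ = a * (u * v) := by rw [h8]; group
    have hCP2 : CP Om (w * c) u := (h.CP_of_cen hK (fun k hk => by
      have h7 := hwR k (le_RR hK hk)
      have h8 := hcRu k (le_RR hK hk)
      calc w * c * k = w * (c * k) := by group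
        _ = (w * k) * c := by rw [h8]; group
        _ = k * (w * c) := by rw [h7]; group) (Ne.symm h6)).symm
    obtain ⟨k, hk, hkk⟩ := h.exists_four hK.1
    rw [hK.2] at hkk
    have hd := f1b_of h h2 hu huv hA hK hk hkk s hs
    refine h.four_nc hK hk hkk fun l hl => ?_
    have hlR : l ∈ RR Om u := le_RR hK hl
    have hkR : k ∈ RR Om u := le_RR hK hk
    -- `d = s d s⁻¹`
    have h7 : k * (x * k * x⁻¹) = (s * k * s⁻¹) * (s * (x * k * x⁻¹) * s⁻¹) := by
      have h8 : s * (k * (x * k * x⁻¹)) * s⁻¹ = k * (x * k * x⁻¹) := by rw [← hd, mul_inv_cancel_right]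
      rw [← h8]; group
    have h8 : s * k * s⁻¹ ∈ RR Om w := by rw [hw]; exact h.RR_cj hkR s
    have h9 : s * (x * k * x⁻¹) * s⁻¹ ∈ RR Om (w * c) := by
      rw [← hwc, hv]; exact h.RR_cj (h.RR_cj hkR x) s
    have h10 := h.CP_RR hCP1 h8 hlR
    have h11 := h.CP_RR hCP2 h9 hlR
    have h12 : (k * (x * k * x⁻¹)) * l = l * (k * (x * k * x⁻¹)) := by
      rw [h7, mul_assoc, h11, ← mul_assoc, h10, mul_assoc]
    have h13 : l * (x * k * x⁻¹) = (x * k * x⁻¹) * l := by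
      have h14 : x * k * x⁻¹ ∈ RR Om v := by rw [hv]; exact h.RR_cj hkR x
      exact h.CP_RR hCP hlR h14
    have h14 : (k * l) * (x * k * x⁻¹) = (l * k) * (x * k * x⁻¹) := by
      calc (k * l) * (x * k * x⁻¹) = k * (l * (x * k * x⁻¹)) := by group
        _ = k * ((x * k * x⁻¹) * l) := by rw [h13]
        _ = (k * (x * k * x⁻¹)) * l := by group
        _ = l * (k * (x * k * x⁻¹)) := h12
        _ = _ := by group
    exact mul_right_cancel h14
  -- (D)
  obtain ⟨K, hK⟩ := id hx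
  obtain ⟨L, hL, hLK⟩ := exists_second (h2 x hx) K
  obtain ⟨k, hk, hkk⟩ := h.exists_four hK.1
  obtain ⟨k', hk', hkk', hk1, hk2⟩ := h.exists_anti hK.1 hk hkk
  obtain ⟨-, h3⟩ := h.anti hK.1 hk hk' hkk hkk' hk1 hk2
  obtain ⟨l, hl, hll⟩ := h.exists_four hL.1
  rw [hK.2] at hkk hkk' h3
  rw [hL.2] at hll
  have hcl : ∀ p ∈ K, p * l = l * p := fun p hp => h.Ov_comm hK hL hLK.symm hp hl
  have inv : ∀ p ∈ K, p * p = x → (p * l) * (p * l) = 1 := by
    intro p hp hpp
    calc (p * l) * (p * l) = p * (l * p) * l := by group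
      _ = p * (p * l) * l := by rw [hcl p hp]
      _ = (p * p) * (l * l) := by group
      _ = 1 := by rw [hpp, hll, hxx]
  have hmem : ∀ p ∈ K, p * l ∈ RR Om x := fun p hp => mul_mem (le_RR hK hp) (le_RR hL hl)
  have ca := stepC _ (hmem k hk) (inv k hk hkk)
  have cb := stepC _ (hmem k' hk') (inv k' hk' hkk')
  -- `p = a b`
  have mv : ∀ p ∈ RR Om x, (p * u * p⁻¹ = u ∨ p * u * p⁻¹ = v) → (p * v * p⁻¹ = v ∨ p * v * p⁻¹ = u) ∧
      (p * u * p⁻¹ = u → p * v * p⁻¹ = v) ∧ (p * u * p⁻¹ = v → p * v * p⁻¹ = u) := by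
    intro p hp hpu
    have h4 : p * c = c * p := (hcR p hp).symm
    have h5 : p * v * p⁻¹ = (p * u * p⁻¹) * c := by
      calc p * v * p⁻¹ = (p * u * p⁻¹) * (p * c * p⁻¹) := by rw [hvc]; group
        _ = _ := by rw [h4, mul_inv_cancel_right]
    have h6 : v * c = u := by rw [hvc, mul_assoc, hcc, mul_one]
    refine ⟨?_, ?_, ?_⟩
    · rcases hpu with h7 | h7
      · left; rw [h5, h7, hvc]
      · right; rw [h5, h7, h6]
    · intro h7; rw [h5, h7, hvc]
    · intro h7; rw [h5, h7, h6]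
  have hpab : ((k * l) * (k' * l)) * ((k * l) * (k' * l)) = x := by
    have h4 : (k * l) * (k' * l) = (k * k') * x := by
      calc (k * l) * (k' * l) = k * (l * k') * l := by group
        _ = k * (k' * l) * l := by rw [hcl k' hk']
        _ = (k * k') * (l * l) := by group
        _ = _ := by rw [hll]
    have h5 := h.Ov_cen hK (mul_mem hk hk')
    rw [h4]
    calc (k * k') * x * ((k * k') * x) = (k * k') * (x * (k * k')) * x := by group
      _ = (k * k') * ((k * k') * x) * x := by rw [h5]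
      _ = ((k * k') * (k * k')) * (x * x) := by group
      _ = x := by rw [h3, hxx, mul_one]
  obtain ⟨a, ha0⟩ : ∃ a, a = k * l := ⟨_, rfl⟩
  obtain ⟨b, hb0⟩ : ∃ b, b = k' * l := ⟨_, rfl⟩
  have haR := hmem k hk
  have hbR := hmem k' hk'
  rw [← ha0] at ca hpab haR
  rw [← hb0] at cb hpab hbR
  have hma := mv a haR ca
  have hp : (a * b) * u * (a * b)⁻¹ = u ∨ (a * b) * u * (a * b)⁻¹ = v := by
    have h4 : (a * b) * u * (a * b)⁻¹ = a * (b * u * b⁻¹) * a⁻¹ := by group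
    rw [h4]
    rcases cb with h5 | h5
    · rw [h5]; exact ca
    · rw [h5]; exact hma.1.symm
  have hmp := mv (a * b) (mul_mem haR hbR) hp
  apply hvu
  rw [hv]
  have h4 : x * u * x⁻¹ = (a * b) * ((a * b) * u * (a * b)⁻¹) * (a * b)⁻¹ := by
    nth_rw 1 2 [← hpab]; group
  rw [h4]
  rcases hp with h5 | h5
  · rw [h5, h5]
  · rw [h5]; exact hmp.2.2 h5

end

end WR

end Cfsg.Agent.Cit.Nil.RG
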