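import Cfsg.Agent.Cit.Nil.RG.TClosed
import Cfsg.Agent.Cit.Nil.RG.CThree
import Cfsg.Agent.Cit.Nil.RG.TZero
import Cfsg.Agent.Cit.Nil.ROne.EndG0

/-!
# (6b), (C3), any `r`: the end (blueprint, (9.3))

`X = F*(G)` simple (`FSimp X`).

* `CX Om X` : `(z, g z g⁻¹)` is a C-pair, if `g ∈ X`, `g z g⁻¹ ≠ z` commutes with `z`;
* `TE Om X` : `WR Om`, `Z ⊆ X`, `CX Om X`; `TE.not_comm`, `TE.not_emb`;
* `NoXY Om` : `x y` is not in `Z` for elements `x`, `y` of order four in different members over `z`;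
  `NoXY.of_cc`, `NoXY.of_noTI`, `NoXY.of_r3`;
* `false_of_closed` : a strongly closed commutative `1 ≠ A ≤ X` is impossible, given `CX Om X` in the case
  `K ∩ X = ⟨z⟩`, and `NoXY Om`;
* `TZ.false_of_fsimp` : **the world T0 is impossible**.
-/

set_option autoImplicit false
set_option linter.style.haveILetI false
set_option linter.unusedSectionVars false

namespace Cfsg.Agent.Cit.Nil.RG

open Subgroup Cfsg Cit
open RFour (ComZ AZ)
open Cfsg.Agent.Cit.Nil.ROne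

variable {G : Type*} [Group G] {Om : Set (Subgroup G)} {K L H X : Subgroup G} {u v w x y s e g z b d i j k : G}

/-- commuting conjugates under `X` are C-pairs -/
def CX (Om : Set (Subgroup G)) (X : Subgroup G) : Prop := ∀ z ∈ ZZ Om, ∀ g ∈ X, z ≠ g * z * g⁻¹ →
  z * (g * z * g⁻¹) = g * z * g⁻¹ * z → CP Om z (g * z * g⁻¹)

/-- see the head of the file -/
structure TE (Om : Set (Subgroup G)) (X : Subgroup G) : Prop where
  w : WR Om
  cc : CX Om X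
  nor : X.Normal
  sub : ∀ z ∈ ZZ Om, z ∈ X

namespace TE

variable (t : TE Om X)

include t

/-- the 2-subgroups of `X` are not all commutative -/
theorem not_comm [Finite G] (hK : K ∈ Ov Om z) (hg : g ∈ X) (hne : z ≠ g * z * g⁻¹)
    (hc : z * (g * z * g⁻¹) = g * z * g⁻¹ * z) :
    ∃ S : Sylow 2 G, ∃ a ∈ (S : Subgroup G) ⊓ X, ∃ b ∈ (S : Subgroup G) ⊓ X, a * b ≠ b * a := by
  have h := t.w
  have hz : z ∈ ZZ Om := WR.Ov_zz hK
  have hcp : CP Om z (g * z * g⁻¹) := t.cc z hz g hg hne hc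
  have hL : cj g K ∈ Ov Om (g * z * g⁻¹) := h.Ov_cj hK g
  have hKL : ∀ x ∈ K, ∀ y ∈ K, x * (g * y * g⁻¹) = g * y * g⁻¹ * x := fun x hx y hy =>
    hcp.2 K hK _ hL x hx _ (conj_mem_cj hy)
  obtain ⟨S, hKS, hLS⟩ := h.exists_sylow_of_comm hK.1 hL.1 (fun x hx y hy => hcp.2 K hK _ hL x hx y hy)
  obtain ⟨i, hi, j, hj, -, -, hji, -⟩ := h.exists_ij hK
  have key : ∀ i ∈ K, i * (g * i⁻¹ * g⁻¹) ∈ (S : Subgroup G) ⊓ X := by
    intro i hi
    refine mem_inf.2 ⟨mul_mem (hKS hi) (hLS (conj_mem_cj (inv_mem hi))), ?_⟩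
    have h1 : i * (g * i⁻¹ * g⁻¹) = (i * g * i⁻¹) * g⁻¹ := by group
    rw [h1]
    exact mul_mem (t.nor.conj_mem _ hg i) (inv_mem hg)
  refine ⟨S, _, key i hi, _, key j hj, fun he => hne ?_⟩
  have c1 : (g * i⁻¹ * g⁻¹) * j = j * (g * i⁻¹ * g⁻¹) := (hKL j hj _ (inv_mem hi)).symm
  have c2 : (g * j⁻¹ * g⁻¹) * i = i * (g * j⁻¹ * g⁻¹) := (hKL i hi _ (inv_mem hj)).symm
  have e1 : i * (g * i⁻¹ * g⁻¹) * (j * (g * j⁻¹ * g⁻¹)) = (i * j) * (g * (j * i)⁻¹ * g⁻¹) := by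
    calc i * (g * i⁻¹ * g⁻¹) * (j * (g * j⁻¹ * g⁻¹)) = i * ((g * i⁻¹ * g⁻¹) * j) * (g * j⁻¹ * g⁻¹) := by group
      _ = i * (j * (g * i⁻¹ * g⁻¹)) * (g * j⁻¹ * g⁻¹) := by rw [c1]
      _ = _ := by group
  have e2 : j * (g * j⁻¹ * g⁻¹) * (i * (g * i⁻¹ * g⁻¹)) = (j * i) * (g * (i * j)⁻¹ * g⁻¹) := by
    calc j * (g * j⁻¹ * g⁻¹) * (i * (g * i⁻¹ * g⁻¹)) = j * ((g * j⁻¹ * g⁻¹) * i) * (g * i⁻¹ * g⁻¹) := by group
      _ = j * (i * (g * j⁻¹ * g⁻¹)) * (g * i⁻¹ * g⁻¹) := by rw [c2]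
      _ = _ := by group
  rw [e1, e2, hji] at he
  -- `ij · g (ij)⁻¹ z g⁻¹ = z ij · g (ij)⁻¹ g⁻¹`
  have hij : (i * j) * z = z * (i * j) := (h.Ov_cen hK (mul_mem hi hj)).symm
  have h3 : z * (g * (i * j)⁻¹ * g⁻¹) = (g * (i * j)⁻¹ * g⁻¹) * (g * z * g⁻¹) := by
    have h4 : g * (z * (i * j))⁻¹ * g⁻¹ = (g * (i * j)⁻¹ * g⁻¹) * (g * z * g⁻¹) := by
      rw [_root_.mul_inv_rev, h.zz_inv hz]; group
    rw [← h4]
    have h5 : (i * j) * (z * (g * (i * j)⁻¹ * g⁻¹)) = (i * j) * (g * (z * (i * j))⁻¹ * g⁻¹) := by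
      rw [he, ← mul_assoc (i * j) z, hij]
    exact mul_left_cancel h5
  have h4 : z * (g * (i * j)⁻¹ * g⁻¹) = (g * (i * j)⁻¹ * g⁻¹) * z := hKL z (h.Ov_mem hK) _ (inv_mem (mul_mem hi hj))
  rw [h4] at h3
  exact mul_left_cancel h3

/-- not all involutions of `X` are conjugate in `X` -/
theorem not_emb (hK : K ∈ Ov Om z) (hu : u ∈ ZZ Om) (hzu : z ≠ u) (hc : z * u = u * z)
    (hall : ∀ x ∈ X, x * x = 1 → x ≠ 1 → ∃ g ∈ X, g * z * g⁻¹ = x) : False := by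
  have h := t.w
  have hz : z ∈ ZZ Om := WR.Ov_zz hK
  have hZ : ∀ x ∈ X, x * x = 1 → x ≠ 1 → x ∈ ZZ Om := by
    intro x hx h1 h2
    obtain ⟨g, -, rfl⟩ := hall x hx h1 h2
    exact h.zz_cj hz g
  have hx : ∀ x ∈ ZZ Om, z ≠ x → z * x = x * z → CP Om z x := by
    intro x hx h1 h2
    obtain ⟨g, hg, rfl⟩ := hall x (t.sub x hx) (h.zz_sq hx) (h.zz_ne hx)
    exact t.cc z hz g hg h1 h2
  have hcp : CP Om z u := hx u hu hzu hc
  have hzz := h.zz_sq hz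
  have huu := h.zz_sq hu
  -- the third involution
  have hv1 : z * u ≠ 1 := fun h1 => hzu (by rw [mul_eq_one_iff_eq_inv] at h1; rw [h1, h.zz_inv hu])
  have hvv : z * u * (z * u) = 1 := by
    calc z * u * (z * u) = z * (u * z) * u := by group
      _ = (z * z) * (u * u) := by rw [← hc]; group
      _ = 1 := by rw [hzz, huu, one_mul]
  have hv := hZ (z * u) (mul_mem (t.sub z hz) (t.sub u hu)) hvv hv1
  have hzv : CP Om z (z * u) := by
    refine hx _ hv ?_ ?_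
    · intro h1
      exact h.zz_ne hu (by simpa using h1.symm)
    · rw [mul_assoc, ← hc]
  obtain ⟨g2, hg2, e2⟩ := hall u (t.sub u hu) huu (h.zz_ne hu)
  obtain ⟨g3, hg3, e3⟩ := hall (z * u) (t.sub _ hv) hvv hv1
  have huv : CP Om u (z * u) := by
    have h1 : (g3 * g2⁻¹) * u * (g3 * g2⁻¹)⁻¹ = z * u := by
      rw [← e3, ← e2]; group
    have h2 := t.cc u hu (g3 * g2⁻¹) (mul_mem hg3 (inv_mem hg2))
    rw [h1] at h2
    refine h2 ?_ ?_
    · intro h1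
      exact h.zz_ne hz (by simpa using h1.symm)
    · rw [← mul_assoc, hc]
  obtain ⟨i, hi, j, hj, hii, hjj, hji, hij⟩ := h.exists_ij hK
  set k := (i * j)⁻¹ with hk
  have hkK : k ∈ K := inv_mem (mul_mem hi hj)
  have hkk : k * k = z := by rw [hk, ← _root_.mul_inv_rev, hij, h.zz_inv hz]
  set b := g2 * j * g2⁻¹ with hb
  set c := g3 * k * g3⁻¹ with hcdef
  have hbK : b ∈ cj g2 K := conj_mem_cj hj
  have hcK : c ∈ cj g3 K := conj_mem_cj hkK
  have hb2 : cj g2 K ∈ Ov Om u := by have := h.Ov_cj hK g2; rwa [e2] at this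
  have hc2 : cj g3 K ∈ Ov Om (z * u) := by have := h.Ov_cj hK g3; rwa [e3] at this
  have hbb : b * b = u := by
    rw [hb, ← e2]
    calc g2 * j * g2⁻¹ * (g2 * j * g2⁻¹) = g2 * (j * j) * g2⁻¹ := by group
      _ = _ := by rw [hjj]
  have hcc : c * c = z * u := by
    rw [hcdef, ← e3]
    calc g3 * k * g3⁻¹ * (g3 * k * g3⁻¹) = g3 * (k * k) * g3⁻¹ := by group
      _ = _ := by rw [hkk]
  have hib : i * b = b * i := hcp.2 K hK _ hb2 i hi b hbK
  have hic : i * c = c * i := hzv.2 K hK _ hc2 i hi c hcK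
  have hbc : b * c = c * b := huv.2 _ hb2 _ hc2 b hbK c hcK
  have hxG : i * b * c ∈ X := by
    have h1 : i * b * c = (i * (g2 * (j * g2⁻¹ * j⁻¹)) * i⁻¹) * ((i * j) * (g3 * (k * g3⁻¹ * k⁻¹)) * (i * j)⁻¹) *
        ((i * j) * k) := by rw [hb, hcdef]; group
    rw [h1, hk, mul_inv_cancel, mul_one]
    refine mul_mem (t.nor.conj_mem _ (mul_mem hg2 (t.nor.conj_mem _ (inv_mem hg2) j)) i)
      (t.nor.conj_mem _ (mul_mem hg3 (t.nor.conj_mem _ (inv_mem hg3) _)) _)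
  have hxx : i * b * c * (i * b * c) = 1 := by
    calc i * b * c * (i * b * c) = i * b * (c * i) * b * c := by group
      _ = i * (b * i) * (c * b) * c := by rw [← hic]; group
      _ = (i * i) * (b * b) * (c * c) := by rw [← hib, ← hbc]; group
      _ = 1 := by rw [hii, hbb, hcc, hvv]
  have hact : ∀ k ∈ K, (i * b * c) * k * (i * b * c)⁻¹ = i * k * i⁻¹ := by
    intro k hk
    have h1 : c * k = k * c := (hzv.2 K hK _ hc2 k hk c hcK).symm
    have h2 : b * k = k * b := (hcp.2 K hK _ hb2 k hk b hbK).symm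
    calc (i * b * c) * k * (i * b * c)⁻¹ = i * b * (c * k) * c⁻¹ * b⁻¹ * i⁻¹ := by group
      _ = i * (b * k) * b⁻¹ * i⁻¹ := by rw [h1]; group
      _ = _ := by rw [h2]; group
  have hnc : (i * b * c) * j ≠ j * (i * b * c) := by
    intro h1
    have h2 := hact j hj
    rw [h1, mul_inv_cancel_right] at h2
    -- `i j = j i`
    have h3 : j * i = i * j := eq_mul_inv_iff_mul_eq.1 h2
    rw [hji] at h3
    exact h.zz_ne hz (by simpa using h3)
  have hx1 : i * b * c ≠ 1 := by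
    intro h1
    apply hnc
    rw [h1, one_mul, mul_one]
  have hxZ := hZ _ hxG hxx hx1
  have hxz : z ≠ i * b * c := by
    intro h1
    apply hnc
    rw [← h1]
    exact h.Ov_cen hK hj
  have h1 := hact z (h.Ov_mem hK)
  rw [← h.Ov_cen hK hi, mul_inv_cancel_right, mul_inv_eq_iff_eq_mul] at h1
  have h2 := hx _ hxZ hxz h1.symm
  exact hnc (h.CP_RR h2.symm (h.RR_mem hxZ) (WR.le_RR hK hj))

end TE

/-- `x y` is not in `Z` for elements `x`, `y` of order four in different members over `z` -/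
def NoXY (Om : Set (Subgroup G)) : Prop := ∀ z, ∀ K ∈ Ov Om z, ∀ L ∈ Ov Om z, K ≠ L → ∀ x ∈ K, ∀ y ∈ L,
  x * x = z → y * y = z → x * y ∉ ZZ Om

theorem WR.noXY_aux (h : WR Om) (hK : K ∈ Ov Om z) (hL : L ∈ Ov Om z) (hne : K ≠ L) (hx : x ∈ K)
    (hy : y ∈ L) (hxx : x * x = z) (hxy : x * y ∈ ZZ Om) : z ≠ x * y ∧ z * (x * y) = x * y * z ∧ ¬ CP Om z (x * y) := by
  have hz : z ∈ ZZ Om := WR.Ov_zz hK
  have hnc : ¬ ∀ k ∈ K, x * k = k * x := by
    intro h1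
    rcases h.Ov_central hK hx h1 with h2 | h2
    · rw [h2, one_mul] at hxx; exact h.zz_ne hz hxx.symm
    · rw [h2, h.zz_sq hz] at hxx; exact h.zz_ne hz hxx.symm
  have hcy : ∀ k ∈ K, y * k = k * y := fun k hk => (h.Ov_comm hK hL hne hk hy).symm
  refine ⟨?_, ?_, ?_⟩
  · intro h1
    apply hnc
    intro k hk
    have h2 : x = z * y⁻¹ := by rw [h1, mul_inv_cancel_right]
    have h3 : y⁻¹ * k = k * y⁻¹ := by rw [inv_mul_eq_iff_eq_mul, ← mul_assoc, hcy k hk, mul_inv_cancel_right]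
    rw [h2, mul_assoc, h3, ← mul_assoc, h.Ov_cen hK hk, mul_assoc]
  · rw [← mul_assoc, h.Ov_cen hK hx, mul_assoc, h.Ov_cen hL hy, mul_assoc]
  · intro h2
    apply hnc
    intro k hk
    have h3 := h.CP_RR h2.symm (h.RR_mem hxy) (WR.le_RR hK hk)
    have h4 : x * k * y = k * x * y := by
      calc x * k * y = x * (k * y) := by group
        _ = x * y * k := by rw [← hcy k hk]; group
        _ = k * (x * y) := h3
        _ = _ := by group
    exact mul_right_cancel h4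

theorem NoXY.of_cc (h : WR Om) (hC : CC Om) : NoXY Om := by
  intro z K hK L hL hne x hx y hy hxx _ hxy
  obtain ⟨h1, h2, h3⟩ := h.noXY_aux hK hL hne hx hy hxx hxy
  exact h3 (hC z (WR.Ov_zz hK) _ hxy h1 h2)

/-- only type I is possible -/
theorem WR.noXY_ti [Finite G] (h : WR Om) (hK : K ∈ Ov Om z) (hL : L ∈ Ov Om z) (hne : K ≠ L) (hx : x ∈ K)
    (hy : y ∈ L) (hxx : x * x = z) (hxy : x * y ∈ ZZ Om) : TI Om z (x * y) := by
  obtain ⟨h1, h2, h3⟩ := h.noXY_aux hK hL hne hx hy hxx hxy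
  rcases h.tri (WR.Ov_zz hK) hxy h1 with h4 | h4 | h4
  · exact absurd h4 h3
  · exact h4
  · exfalso
    have hact : ∀ k ∈ K, (x * y) * k * (x * y)⁻¹ = x * k * x⁻¹ := by
      intro k hk
      have h5 : y * k = k * y := (h.Ov_comm hK hL hne hk hy).symm
      calc (x * y) * k * (x * y)⁻¹ = x * (y * k) * y⁻¹ * x⁻¹ := by group
        _ = _ := by rw [h5]; group
    have hi : Inn (x * y) K := ⟨x, hx, hact⟩
    rcases h4 with ⟨h5, h6⟩
    first
      | exact h5 K hK hi.cj_eq hi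
      | exact h6 K hK hi.cj_eq hi

theorem NoXY.of_noTI [Finite G] (h : WR Om) (hT : NoTI Om) : NoXY Om := by
  intro z K hK L hL hne x hx y hy hxx _ hxy
  exact hT z (WR.Ov_zz hK) _ hxy (h.noXY_ti hK hL hne hx hy hxx hxy)

theorem NoXY.of_r3 [Finite G] (h : WR Om) (h3 : R3 Om) : NoXY Om := by
  intro z K hK L hL hne x hx y hy hxx _ hxy
  have hti := h.noXY_ti hK hL hne hx hy hxx hxy
  have hz : z ∈ ZZ Om := WR.Ov_zz hK
  obtain ⟨M, hM, hMK, hML⟩ := exists_third (h3 z hz) K L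
  have h1 : ∃ y' ∈ M, y' * y' = z ∧ ∀ k ∈ M, (x * y) * k * (x * y)⁻¹ = y' * k * y'⁻¹ := by
    first
      | exact hti.1 M hM
      | exact hti.2 M hM
  obtain ⟨y', hy', hyy', hact⟩ := h1
  have h2 : ∀ k ∈ M, y' * k = k * y' := by
    intro k hk
    have h5 : y * k = k * y := (h.Ov_comm hM hL hML hk hy).symm
    have h6 : x * k = k * x := (h.Ov_comm hM hK hMK hk hx).symm
    have h7 := hact k hk
    have h8 : (x * y) * k * (x * y)⁻¹ = k := by
      calc (x * y) * k * (x * y)⁻¹ = x * (y * k) * y⁻¹ * x⁻¹ := by group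
        _ = (x * k) * x⁻¹ := by rw [h5]; group
        _ = k := by rw [h6]; group
    rw [h8] at h7
    exact (mul_inv_eq_iff_eq_mul.1 h7.symm)
  rcases h.Ov_central hM hy' h2 with h4 | h4
  · rw [h4, one_mul] at hyy'; exact h.zz_ne hz hyy'.symm
  · rw [h4, h.zz_sq hz] at hyy'; exact h.zz_ne hz hyy'.symm

/-- all Sylow 2-subgroups of `X` are commutative -/
theorem comm_of_sylow [Finite G] (hn : X.Normal) (T : Sylow 2 X) (hT : IsMulCommutative (T : Subgroup X)) (S : Sylow 2 G) {a b : G}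
    (ha : a ∈ (S : Subgroup G) ⊓ X) (hb : b ∈ (S : Subgroup G) ⊓ X) : a * b = b * a := by
  obtain ⟨T', hT'⟩ := exists_sylow_subgroupOf hn S
  haveI : Fact (Nat.Prime 2) := ⟨Nat.prime_two⟩
  obtain ⟨r, hr⟩ := MulAction.exists_smul_eq X T T'
  have h4 : ∀ x ∈ (T' : Subgroup X), r⁻¹ * x * r ∈ (T : Subgroup X) := by
    intro x hx
    rw [← hr] at hx
    have h5 : x ∈ cj r (T : Subgroup X) := hx
    exact mem_cj.1 h5
  have ha' : (⟨a, (mem_inf.1 ha).2⟩ : X) ∈ (T' : Subgroup X) := by rw [hT']; exact (mem_inf.1 ha).1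
  have hb' : (⟨b, (mem_inf.1 hb).2⟩ : X) ∈ (T' : Subgroup X) := by rw [hT']; exact (mem_inf.1 hb).1
  have h5 := congrArg Subtype.val (hT.is_comm.comm ⟨_, h4 _ ha'⟩ ⟨_, h4 _ hb'⟩)
  have h6 : (⟨a, (mem_inf.1 ha).2⟩ : X) * ⟨b, (mem_inf.1 hb).2⟩ = ⟨b, (mem_inf.1 hb).2⟩ * ⟨a, (mem_inf.1 ha).2⟩ := by
    set a' : X := ⟨a, (mem_inf.1 ha).2⟩
    set b' : X := ⟨b, (mem_inf.1 hb).2⟩
    have h7 : r⁻¹ * a' * r * (r⁻¹ * b' * r) = r⁻¹ * b' * r * (r⁻¹ * a' * r) := h5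
    calc a' * b' = r * (r⁻¹ * a' * r * (r⁻¹ * b' * r)) * r⁻¹ := by group
      _ = r * (r⁻¹ * b' * r * (r⁻¹ * a' * r)) * r⁻¹ := by rw [h7]
      _ = b' * a' := by group
  exact congrArg Subtype.val h6

/-- **the end**: a strongly closed commutative `A ≤ X`, `A ≠ 1`, is impossible -/
theorem false_of_closed [Finite G] (h : WR Om) (two : Two2 Om) (cls : ∀ K ∈ Om, ∀ L ∈ Om, ∃ g, cj g K = L)
    (c3 : C3G Om) (f : FSimp X) (hZ : ∀ z ∈ ZZ Om, z ∈ X) (gold : Cit.ROne.Gold X) (ne : Om.Nonempty)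
    (hB : (∀ K ∈ Om, ∀ y ∈ K, y ∈ X → y = 1 ∨ y = zz K) → CX Om X) (hA : NoXY Om)
    (S : Sylow 2 G) {A : Subgroup G} (hA1 : A ≠ ⊥) (hAX : A ≤ X) (hAc : ∀ x ∈ A, ∀ y ∈ A, x * y = y * x)
    (hsc : IsStronglyClosed A (S : Subgroup G)) : False := by
  haveI : Fact (Nat.Prime 2) := ⟨Nat.prime_two⟩
  haveI := f.sim
  obtain ⟨K, hKO⟩ := ne
  obtain ⟨z, hzK⟩ : ∃ z, z = zz K := ⟨_, rfl⟩
  have hK : K ∈ Ov Om z := ⟨hKO, hzK.symm⟩
  have hz : z ∈ ZZ Om := WR.Ov_zz hK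
  have hzX : z ∈ X := hZ z hz
  -- a Sylow 2-subgroup containing `K`
  obtain ⟨S0, hKS⟩ := (h.two hKO).exists_le_sylow
  obtain ⟨T, hT⟩ := exists_sylow_subgroupOf f.nor S
  have hA' : A.subgroupOf X ≠ ⊥ := by
    intro h1
    apply hA1
    rw [← map_subgroupOf_eq_of_le hAX, h1, Subgroup.map_bot]
  have hc' : ∀ x ∈ A.subgroupOf X, ∀ y ∈ A.subgroupOf X, x * y = y * x :=
    fun x hx y hy => Subtype.ext (hAc x hx y hy)
  have hsc' : IsStronglyClosed (A.subgroupOf X) (T : Subgroup X) := by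
    refine ⟨?_, fun x hx g hg => ?_⟩
    · rw [hT]
      exact comap_mono hsc.1
    · rw [hT] at hg
      exact hsc.2 x hx g hg
  have hcj : ∀ {M : Subgroup G}, M ∈ Om → ∀ {L : Subgroup G}, L ∈ Om → M ≤ X → L ≤ X := by
    intro M hM L hL hMX
    obtain ⟨g, rfl⟩ := cls _ hM L hL
    intro x hx
    have h2 := f.nor.conj_mem _ (hMX (mem_cj.1 hx)) g
    have h3 : g * (g⁻¹ * x * g) * g⁻¹ = x := by group
    rwa [h3] at h2
  have hTE : ¬ K ≤ X → TE Om X := by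
    intro hncK
    refine ⟨h, hB fun L hL => (h.inf_cases c3 f.nor hL).resolve_left fun h1 => hncK (hcj hL hKO h1), f.nor, hZ⟩
  have hnc : ¬ IsMulCommutative X := by
    intro h2
    exact f.na fun x hx y hy => congrArg Subtype.val (h2.is_comm.comm ⟨x, hx⟩ ⟨y, hy⟩)
  obtain ⟨g, h2, h3⟩ := GH.QA.not_isolated f.sim hnc (u := (⟨z, hzX⟩ : X))
    (Subtype.ext (h.zz_sq hz)) (fun h2 => h.zz_ne hz (congrArg Subtype.val h2))
  have h2' : z * (g * z * (g : G)⁻¹) = g * z * (g : G)⁻¹ * z := congrArg Subtype.val h2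
  have h3' : z ≠ g * z * (g : G)⁻¹ := fun h4 => h3 (Subtype.ext h4.symm)
  rcases gold T _ hA' ⟨⟨fun a b => Subtype.ext (hc' a a.2 b b.2)⟩⟩ hsc' with h1 | ⟨H, hH⟩
  · -- commutative Sylow 2-subgroups
    obtain ⟨i, hi, j, hj, -, -, hji, -⟩ := h.exists_ij hK
    have hncK : ¬ K ≤ X := by
      intro hKX
      have h2 := comm_of_sylow f.nor T h1 S0 (mem_inf.2 ⟨hKS hj, hKX hj⟩) (mem_inf.2 ⟨hKS hi, hKX hi⟩)
      rw [hji] at h2
      exact h.zz_ne hz (by simpa using h2)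
    obtain ⟨S', a, ha, b, hb, hab⟩ := (hTE hncK).not_comm hK g.2 h3' h2'
    exact hab (comm_of_sylow f.nor T h1 S' ha hb)
  · -- strongly embedded
    have hall : ∀ x ∈ X, x * x = 1 → x ≠ 1 → ∃ g ∈ X, g * z * g⁻¹ = x := by
      intro x hx hxx hx1
      have h2 := Cfsg.Agent.TwoFusion.StronglyEmbeddedBasic.isConj_of_involutions hH (⟨z, hzX⟩ : X) ⟨x, hx⟩
        (by rw [← Subgroup.orderOf_coe]; exact orderOf_eq_prime (by rw [pow_two]; exact h.zz_sq hz) (h.zz_ne hz))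
        (by rw [← Subgroup.orderOf_coe]; exact orderOf_eq_prime (by rw [pow_two]; exact hxx) hx1)
      obtain ⟨g, hg⟩ := isConj_iff.1 h2
      exact ⟨g, g.2, congrArg Subtype.val hg⟩
    by_cases hKX : K ≤ X
    · obtain ⟨K', hK', L, hL, hne⟩ := two z hz
      obtain ⟨x, hx, hxx⟩ := h.exists_four hK'.1
      obtain ⟨y, hy, hyy⟩ := h.exists_four hL.1
      rw [hK'.2] at hxx
      rw [hL.2] at hyy
      have hxyc : x * y = y * x := h.Ov_comm hK' hL hne hx hy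
      have hxy2 : x * y * (x * y) = 1 := by
        calc x * y * (x * y) = x * (y * x) * y := by group
          _ = (x * x) * (y * y) := by rw [← hxyc]; group
          _ = 1 := by rw [hxx, hyy, h.zz_sq hz]
      have hxy1 : x * y ≠ 1 := by
        intro h2
        have h3 : x = y⁻¹ := mul_eq_one_iff_eq_inv.1 h2
        have h4 : x ∈ L := by rw [h3]; exact inv_mem hy
        rcases h.Ov_central hK' hx (fun k hk => (h.Ov_comm hK' hL hne hk h4).symm) with h5 | h5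
        · rw [h5, one_mul] at hxx; exact h.zz_ne hz hxx.symm
        · rw [h5, h.zz_sq hz] at hxx; exact h.zz_ne hz hxx.symm
      obtain ⟨g, -, hg⟩ := hall (x * y) (mul_mem (hcj hKO hK'.1 hKX hx) (hcj hKO hL.1 hKX hy)) hxy2 hxy1
      apply hA z K' hK' L hL hne x hx y hy hxx hyy
      rw [← hg]
      exact h.zz_cj hz g
    · exact (hTE hKX).not_emb hK (h.zz_cj hz g) h3' h2' hall

theorem CX.of_cc (h : WR Om) (hC : CC Om) : CX Om X := fun z hz g _ hne hc => hC z hz _ (h.zz_cj hz g) hne hc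

/-- **the world T0 is impossible** -/
theorem TZ.false_of_fsimp [Finite G] (t : TZ Om) (cls : ∀ K ∈ Om, ∀ L ∈ Om, ∃ g, cj g K = L) (c3 : C3G Om)
    (f : FSimp X) (hZ : ∀ z ∈ ZZ Om, z ∈ X) (gold : Cit.ROne.Gold X) (ne : Om.Nonempty) : False := by
  haveI : Fact (Nat.Prime 2) := ⟨Nat.prime_two⟩
  obtain ⟨K, hKO⟩ := id ne
  obtain ⟨z, hzK⟩ : ∃ z, z = zz K := ⟨_, rfl⟩
  have hK : K ∈ Ov Om z := ⟨hKO, hzK.symm⟩
  have hz : z ∈ ZZ Om := WR.Ov_zz hK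
  obtain ⟨S, hKS⟩ := (t.h.two hKO).exists_le_sylow
  refine false_of_closed t.h t.two cls c3 f hZ gold ne (fun _ => CX.of_cc t.h t.cc) (NoXY.of_cc t.h t.cc) S
    (A := AZ (ZZ Om) z) ?_ ?_ (t.com.AZ_comm hz) (t.closed S hz (hKS (t.h.Ov_mem hK)))
  · intro h1
    have h2 : z ∈ AZ (ZZ Om) z := ComZ.self_mem hz
    rw [h1, mem_bot] at h2
    exact t.h.zz_ne hz h2
  · rw [AZ, closure_le]
    rintro x ⟨hx, -⟩
    exact hZ x hx

end Cfsg.Agent.Cit.Nil.RG
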