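import Cfsg.Agent.Cit.Nil.RG.Leaf
import Cfsg.Agent.Cit.Nil.RI.EndT
import Cfsg.Agent.Cit.Nil.RFour.Leaf

/-!
# S1309, (C3), NIL, `r = 4`: the leaf

* `false_four` : NIL, `r = 4`, `m ≥ 2`: contradiction (no type I pairs: `false_of_noTI`; type I pairs: 764's `RI.T1.false`);
* `leafR4_nil` : `AssemblyNil.LeafR4` from NIL for `m ≥ 2`.
-/

set_option autoImplicit false
set_option linter.style.haveILetI false
set_option linter.unusedSectionVars false

namespace Cfsg.Agent.Cit.Nil.RG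

open Subgroup Cfsg Cfsg.Agent.Cit
open RFour (LIn MOne)

universe u

variable {G : Type u} [Group G] [Finite G] {K L : Subgroup G} {Om : Set (Subgroup G)} {z u v : G}

/-- **NIL, `r = 4`, type I pairs, `m ≥ 2`** -/
theorem false_of_ti (i : LIn.{u}) (w : AssemblyNil.W3 G K)
    (hf : ∀ t : G, orderOf t = 2 → centralizerPPrimeCore 2 t = ⊥) (h4 : (AssemblyNil.ovr K).ncard = 4)
    (hm : ¬ MOne (cls K)) (hT : ¬ NoTI (cls K)) (nil : NilC (cls K)) : False := by
  have h := WR.of_w3 w hf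
  have hcls := RFour.oneCls_cls K
  have hw : RI.WM (cls K) := ⟨w.hyp, fun L hL => h.card hL, fun L hL => by
    rw [← h4]; exact ncard_of_w3 w ⟨L, hL, rfl⟩⟩
  unfold NoTI at hT
  push Not at hT
  obtain ⟨s, hs, t, ht, hti⟩ := hT
  have hti' : RI.TI (cls K) s t := RI.TI.of_rg hw hs ht hti
  obtain ⟨a, ha, hc⟩ := exists_cp h hm (z := zz K) ⟨K, self_mem_cls K, rfl⟩
  have w1 : RI.T1 (cls K) := RI.T1.of hw hcls hti' (x := zz K) ⟨K, self_mem_cls K, rfl⟩ ha hc (NilC.nilP h nil)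
  have f := ROne.fsimp_of w.simple w.na
  haveI := f.sim
  have gold : Cit.ROne.Gold ↥(generalizedFittingSubgroup G) := fun S A h1 h2 h3 => i.gold _ S A h1 h2 h3
  exact w1.false hcls (C3G.of_c3 h hcls (self_mem_cls K) w.c3) f w.even gold ⟨K, self_mem_cls K⟩

/-- **NIL, `r = 4`, `m ≥ 2`** -/
theorem false_four (i : LIn.{u}) (w : AssemblyNil.W3 G K)
    (hf : ∀ t : G, orderOf t = 2 → centralizerPPrimeCore 2 t = ⊥) (h4 : (AssemblyNil.ovr K).ncard = 4)
    (hm : ¬ MOne (cls K)) (nil : NilC (cls K)) : False := by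
  by_cases hT : NoTI (cls K)
  · exact false_of_noTI i w hf (by omega) hT nil
  · exact false_of_ti i w hf h4 hm hT nil

/-- **`AssemblyNil.LeafR4` from NIL for `m ≥ 2`** -/
theorem leafR4_nil (i : LIn.{u}) (h1311 : ∀ (G : Type u) [Group G] [Finite G], AssemblyNil.FS G → AssemblyNil.St1311 G)
    (hU : AssemblyNil.UnbalStmt.{u})
    (nil : ∀ (G : Type u) [Group G] [Finite G] (K : Subgroup G), AssemblyNil.W3 G K →
      (∀ t : G, orderOf t = 2 → centralizerPPrimeCore 2 t = ⊥) → (AssemblyNil.ovr K).ncard = 4 → ¬ MOne (cls K) →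
      NilC (cls K)) : AssemblyNil.LeafR4.{u} :=
  RFour.leafR4 i h1311 hU fun G _ _ K w hf h4 hm => (false_four i w hf h4 hm (nil G K w hf h4 hm)).elim

end Cfsg.Agent.Cit.Nil.RG
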