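import Cfsg.Agent.Cit.Nil.RG.LeafFour
import Cfsg.Agent.Cit.Nil.RG.EndS

/-!
# S1309, (C3), `r ≥ 3`, no type I pairs, NIL or not: the leaves

* `false_of_noTI'` : `r ≥ 3`, no type I pairs: contradiction (helper488's `WR.false_of_allC`);
* **`leafR`** : `AssemblyNil.LeafR`, no hypothesis on NIL;
* `leafR4_ti` : `AssemblyNil.LeafR4` from the part `m ≥ 2` with type I pairs.
-/

set_option autoImplicit false
set_option linter.style.haveILetI false
set_option linter.unusedSectionVars false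

namespace Cfsg.Agent.Cit.Nil.RG

open Subgroup Cfsg Cfsg.Agent.Cit
open RFour (LIn MOne)

universe u

variable {G : Type u} [Group G] [Finite G] {K L : Subgroup G} {Om : Set (Subgroup G)} {z u v : G}

/-- **`r ≥ 3`, no type I pairs** -/
theorem false_of_noTI' (i : LIn.{u}) (w : AssemblyNil.W3 G K)
    (hf : ∀ t : G, orderOf t = 2 → centralizerPPrimeCore 2 t = ⊥) (h3 : 3 ≤ (AssemblyNil.ovr K).ncard)
    (hT : NoTI (cls K)) : False := by
  have h := WR.of_w3 w hf
  have r3 := R3.of_w3 w h3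
  have hC : AllC (cls K) := fun s hs x hx hne hc => h.cp_of_comm hT r3 hs hx hne hc
  have f := ROne.fsimp_of w.simple w.na
  haveI := f.sim
  have gold : Cit.ROne.Gold ↥(generalizedFittingSubgroup G) := fun S A h1 h2 h3 => i.gold _ S A h1 h2 h3
  have hB : CloEnd.Bend ↥(generalizedFittingSubgroup G) := i.bend _
  exact h.false_of_allC hC r3.r2 w.hyp (z := zz K) ⟨K, self_mem_cls K, rfl⟩ f w.even gold hB

/-- **`AssemblyNil.LeafR`** -/
theorem leafR (i : LIn.{u}) (h1311 : ∀ (G : Type u) [Group G] [Finite G], AssemblyNil.FS G → AssemblyNil.St1311 G)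
    (hU : AssemblyNil.UnbalStmt.{u}) : AssemblyNil.LeafR.{u} := by
  intro G _ _ K w e1 e2 e4
  by_cases hb : ∀ t : G, orderOf t = 2 → centralizerPPrimeCore 2 t = ⊥
  · have h3 := three_le w e1 e2
    have hT : NoTI (cls K) := NoTI.of_ne (WR.of_w3 w hb) (R3.of_w3 w h3) (fun z hz => by
      rw [ncard_of_w3 w hz]; exact e4)
    exact (false_of_noTI' i w hb h3 hT).elim
  push Not at hb
  obtain ⟨t, ht, ht2⟩ := hb
  rcases h1311 G w.toFS t ht ht2 with h3 | h3
  · exact Or.inl h3
  · exact (hU G K w h3).elim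

/-- **`AssemblyNil.LeafR4`** from the part with type I pairs, `m ≥ 2` -/
theorem leafR4_ti (i : LIn.{u}) (h1311 : ∀ (G : Type u) [Group G] [Finite G], AssemblyNil.FS G → AssemblyNil.St1311 G)
    (hU : AssemblyNil.UnbalStmt.{u})
    (h5 : ∀ (G : Type u) [Group G] [Finite G] (K : Subgroup G), AssemblyNil.W3 G K →
      (∀ t : G, orderOf t = 2 → centralizerPPrimeCore 2 t = ⊥) → (AssemblyNil.ovr K).ncard = 4 → ¬ MOne (cls K) →
      ¬ NoTI (cls K) → False) : AssemblyNil.LeafR4.{u} :=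
  RFour.leafR4 i h1311 hU fun G _ _ K w hf h4 hm => by
    by_cases hT : NoTI (cls K)
    · exact (false_of_noTI' i w hf (by omega) hT).elim
    · exact (h5 G K w hf h4 hm hT).elim

end Cfsg.Agent.Cit.Nil.RG
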