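import Cfsg.Agent.Cit.Nil.RG.Closed
import Cfsg.Agent.Cit.Nil.RG.Cnt
import Cfsg.Agent.Cit.Nil.RI.Closed

/-!
# (6b), any `r`, T0 and T1: strong closure from `CZ (ZZ Om)`

`closed_cz` : `WR Om`, `CZ (ZZ Om)` (commuting is transitive on `Z`, (F1)), `z ∈ CS Om S` (some member over `z` lies in
`S`): `AZ (ZZ Om) z = ⟨Z ∩ C(z)⟩` is strongly closed in `S`. The points of the count are the elements of `CS Om S*`.
-/

set_option autoImplicit false
set_option linter.style.haveILetI false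
set_option linter.unusedSectionVars false

namespace Cfsg.Agent.Cit.Nil.RG

open Subgroup Cfsg Cit
open RFour (ComZ AZ)
open RI (CS CS_zz CS_conj CS_cp CS_comm)

variable {G : Type*} [Group G] [Finite G] {Om : Set (Subgroup G)} {z : G}

theorem CS_cj (h : WR Om) (S : Subgroup G) (w : G) : CS Om (cj w S) = (fun u => w * u * w⁻¹) '' CS Om S := by
  have key : ∀ (S : Subgroup G) (w u : G), u ∈ CS Om S → w * u * w⁻¹ ∈ CS Om (cj w S) := by
    rintro S w u ⟨K, hK, hKS⟩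
    exact ⟨cj w K, h.Ov_cj hK w, cj_mono w hKS⟩
  ext x
  constructor
  · intro hx
    refine ⟨w⁻¹ * x * w⁻¹⁻¹, ?_, by change w * (w⁻¹ * x * w⁻¹⁻¹) * w⁻¹ = x; group⟩
    have h1 := key _ w⁻¹ x hx
    rwa [cj_inv_cj] at h1
  · rintro ⟨u, hu, rfl⟩
    exact key S w u hu

/-- **strong closure** -/
theorem closed_cz (h : WR Om) (c : CZ (ZZ Om)) (S : Sylow 2 G) (hz : z ∈ CS Om (S : Subgroup G)) :
    IsStronglyClosed (AZ (ZZ Om) z) (S : Subgroup G) := by
  haveI : Fact (Nat.Prime 2) := ⟨Nat.prime_two⟩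
  have hzZ : z ∈ ZZ Om := CS_zz hz
  have hzS : z ∈ (S : Subgroup G) := by
    obtain ⟨K, hK, hKS⟩ := hz
    exact hKS (h.Ov_mem hK)
  have hSM := c.pg_le hzZ S.isPGroup' hzS
  refine c.closed_of S hzZ hzS fun b hb hbb k _ hcent hmv => ?_
  by_contra hcon
  push Not at hcon
  obtain ⟨z', hz'⟩ : ∃ z', z' = k * z * k⁻¹ := ⟨_, rfl⟩
  rw [← hz'] at hcent hcon
  have hz'Z : z' ∈ ZZ Om := by rw [hz']; exact h.zz_cj hzZ k
  have hbi : b⁻¹ = b := inv_eq_of_mul_eq_one_right hbb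
  -- the Sylow subgroup `cj w S`
  obtain ⟨M, hM⟩ : ∃ M, M = normalizer (AZ (ZZ Om) z' : Set G) := ⟨_, rfl⟩
  have hkM : cj k (S : Subgroup G) ≤ M := by
    intro x hx
    have h1 := hSM (mem_cj.1 hx)
    rw [hM, hz', c.AZ_conj, mem_normalizer_iff_cj, ← cj_mul]
    have h2 : x * k = k * (k⁻¹ * x * k) := by group
    rw [h2, cj_mul, mem_normalizer_iff_cj.1 h1]
  have hRM : (S : Subgroup G) ⊓ centralizer {b} ≤ M := fun s hs => by
    rw [hM]; exact hcent s hs.1 (mem_centralizer_singleton_iff.1 hs.2)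
  have hR2 : IsPGroup 2 ((S : Subgroup G) ⊓ centralizer {b} : Subgroup G) := S.isPGroup'.to_le inf_le_left
  let Sk : Sylow 2 G := k • S
  have hSk : (Sk : Subgroup G) = cj k (S : Subgroup G) := rfl
  obtain ⟨m, hm⟩ := exists_le_cj (Sk.subtype (by rw [hSk]; exact hkM)) (hR2.comap_subtype (K := M))
  obtain ⟨w, hw⟩ : ∃ w, w = (m : G) * k := ⟨_, rfl⟩
  have hRw : (S : Subgroup G) ⊓ centralizer {b} ≤ cj w (S : Subgroup G) := by
    intro s hs
    have h1 : (⟨s, hRM hs⟩ : M) ∈ cj m ((Sk.subtype (by rw [hSk]; exact hkM) : Sylow 2 M) : Subgroup M) :=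
      hm (mem_subgroupOf.2 hs)
    have h2 := mem_cj.1 h1
    have h3 : (m : G)⁻¹ * s * m ∈ (Sk : Subgroup G) := h2
    rw [hw, cj_mul, mem_cj]
    rwa [hSk] at h3
  have hwM : cj w (S : Subgroup G) ≤ M := by
    intro x hx
    rw [hw, cj_mul, mem_cj] at hx
    have h1 := mul_mem (mul_mem m.2 (hkM hx)) (inv_mem m.2)
    have h2 : (m : G) * ((m : G)⁻¹ * x * m) * (m : G)⁻¹ = x := by group
    rwa [h2] at h1
  -- points
  have hpt : ∀ x ∈ CS Om (cj w (S : Subgroup G)), x * z' = z' * x := by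
    rintro x ⟨K, hK, hKS⟩
    have h1 : x ∈ M := hwM (hKS (h.Ov_mem hK))
    rw [hM] at h1
    exact c.comm_of_norm hz'Z (WR.Ov_zz hK) h1
  -- `α`
  have hch : ∀ u : CS Om (S : Subgroup G), ∃ K, K ∈ Ov Om (u : G) ∧ K ≤ (S : Subgroup G) := fun u => by
    obtain ⟨K, hK, hKS⟩ := u.2
    exact ⟨K, hK, hKS⟩
  choose K hK using hch
  let σ : CS Om (S : Subgroup G) → CS Om (S : Subgroup G) := fun u => ⟨b * u * b⁻¹, CS_conj h u.2 hb⟩
  have hσ : ∀ u, (σ u : G) = b * u * b⁻¹ := fun _ => rfl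
  have hzu : ∀ u : CS Om (S : Subgroup G), z * u = u * z := fun u => CS_comm h S.isPGroup' hz u.2
  have hσσ : ∀ u, σ (σ u) = u := by
    intro u
    apply Subtype.ext
    rw [hσ, hσ]
    calc b * (b * u * b⁻¹) * b⁻¹ = (b * b) * u * (b * b)⁻¹ := by group
      _ = u := by rw [hbb]; group
  have hσn : ∀ u, σ u ≠ u := by
    intro u hu
    have h1 := congrArg Subtype.val hu
    rw [hσ] at h1
    exact hmv u (CS_zz u.2) (hzu u) (mul_inv_eq_iff_eq_mul.1 h1).symm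
  have hcp : ∀ u v : CS Om (S : Subgroup G), u ≠ v → CP Om (u : G) v := fun u v hne =>
    CS_cp h S.isPGroup' u.2 v.2 (fun e => hne (Subtype.ext e))
  have hbK : ∀ u, ∀ y ∈ K u, b * y * b⁻¹ ∈ cj b (K u) := fun u y hy => conj_mem_cj hy
  have hbO : ∀ u, cj b (K u) ∈ Ov Om (σ u : G) := fun u => h.Ov_cj (hK u).1 b
  have c0 : ∀ u, ∀ x ∈ K u, ∀ y ∈ K u, x * (b * y * b⁻¹) = b * y * b⁻¹ * x := fun u x hx y hy =>
    (hcp u (σ u) (hσn u).symm).2 (K u) (hK u).1 (cj b (K u)) (hbO u) x hx _ (hbK u y hy)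
  let ρ := actX (cj w (S : Subgroup G)) (CS Om (cj w (S : Subgroup G))) fun g hg x hx => CS_conj h hx hg
  have hcn : Cn Om (cj w (S : Subgroup G)) b σ K ρ := by
    refine ⟨h, fun u => (hK u).1.1, hσσ, hσn, c0, ?_, ?_, ?_, ?_, ?_, ?_⟩
    · intro i j hij _ x hx y hy
      exact (hcp i j hij).2 (K i) (hK i).1 (K j) (hK j).1 x hx y hy
    · intro i j _ hij x hx y hy
      have h1 : i ≠ σ j := fun e => hij (by rw [e, hσσ])
      exact (hcp i (σ j) h1).2 (K i) (hK i).1 (cj b (K j)) (hbO j) x hx _ (hbK j y hy)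
    · intro i hi
      rw [(hK i).1.2] at hi
      exact hσn i (Subtype.ext hi)
    · intro i k hk
      refine hRw (Subgroup.mem_inf.2 ⟨?_, ?_⟩)
      · exact mul_mem ((hK i).2 hk) (mul_mem (mul_mem hb ((hK i).2 hk)) (inv_mem hb))
      rw [mem_centralizer_singleton_iff]
      calc k * (b * k * b⁻¹) * b = (b * k * b⁻¹) * k * b := by rw [c0 i k hk k hk]
        _ = b * (k * (b⁻¹ * k * b)) := by group
        _ = b * (k * (b * k * b⁻¹)) := by rw [hbi]
    · rw [CS_cj h]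
      exact Nat.card_image_of_injective (fun u v huv => mul_left_cancel (mul_right_cancel huv)) _
    · intro x i hx hρ
      rw [(hK i).1.2] at hx
      have hwz : w * z * w⁻¹ ∈ CS Om (cj w (S : Subgroup G)) := by
        rw [CS_cj h]; exact ⟨z, hz, rfl⟩
      have h1 := congrArg (fun τ : Equiv.Perm (CS Om (cj w (S : Subgroup G))) => ((τ ⟨w * z * w⁻¹, hwz⟩ : CS Om _) : G)) hρ
      have h2 : (x : G) * (w * z * w⁻¹) * (x : G)⁻¹ = w * z * w⁻¹ := h1
      have h3 : (x : G) * (w * z * w⁻¹) = (w * z * w⁻¹) * x := mul_inv_eq_iff_eq_mul.1 h2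
      refine hcon i (CS_zz i.2) (hzu i) _ (CS_zz hwz) (hpt _ hwz) ?_
      rw [← hx]
      exact h3.symm
  haveI : Nonempty (CS Om (S : Subgroup G)) := ⟨⟨z, hz⟩⟩
  exact hcn.false

end Cfsg.Agent.Cit.Nil.RG
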