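import Cfsg.Agent.Cit.Nil.RG.Delta
import Cfsg.Agent.Cit.Nil.RG.Cnt

/-!
# (6b), (C3), T0, `m ≥ 2`: `AZ s` is strongly closed (blueprint, (9.2))

* `TZ.cent_le'` : `C(b) ≤ N(AZ s')` for `1 ≠ b ∈ AZ s'`, `s' = g s g⁻¹`;
* `TZ.closed` : for `s ∈ Z ∩ S` the subgroup `AZ s` is strongly closed in `S`.
-/

set_option autoImplicit false
set_option linter.style.haveILetI false
set_option linter.unusedSectionVars false

namespace Cfsg.Agent.Cit.Nil.RG

open Subgroup Cfsg Cit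
open RFour (ComZ AZ)

variable {G : Type*} [Group G] {Om : Set (Subgroup G)} {K L H : Subgroup G} {u v w x s e g z b : G}

/-- `Z ∩ C(s)` -/
def DD (Om : Set (Subgroup G)) (s : G) : Set G := {z | z ∈ ZZ Om ∧ s * z = z * s}

namespace TZ

variable (t : TZ Om)

include t

omit t in
theorem DD_AZ (hz : z ∈ DD Om s) : z ∈ AZ (ZZ Om) s := subset_closure hz

theorem DD_comm (hs : s ∈ ZZ Om) (hu : u ∈ DD Om s) (hv : v ∈ DD Om s) : u * v = v * u :=
  t.com.AZ_comm hs u (DD_AZ hu) v (DD_AZ hv)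

/-- `N(AZ s)` permutes `Z ∩ C(s)` -/
theorem DD_conj (hs : s ∈ ZZ Om) (hz : z ∈ DD Om s) (hg : g ∈ normalizer (AZ (ZZ Om) s : Set G)) :
    g * z * g⁻¹ ∈ DD Om s :=
  ⟨t.h.zz_cj hz.1 g, t.comm_of_AZ hs ((mem_normalizer_iff.1 hg z).1 (DD_AZ hz))⟩

/-- the action of `N(AZ s)` on `Z ∩ C(s)` -/
def rho (hs : s ∈ ZZ Om) : ↥(normalizer (AZ (ZZ Om) s : Set G)) →* Equiv.Perm (DD Om s) where
  toFun g :=
    { toFun := fun z => ⟨(g : G) * z * (g : G)⁻¹, t.DD_conj hs z.2 g.2⟩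
      invFun := fun z => ⟨(g : G)⁻¹ * z * (g : G)⁻¹⁻¹, t.DD_conj hs z.2 (inv_mem g.2)⟩
      left_inv := fun z => Subtype.ext (by
        change (g : G)⁻¹ * ((g : G) * z * (g : G)⁻¹) * (g : G)⁻¹⁻¹ = z
        group)
      right_inv := fun z => Subtype.ext (by
        change (g : G) * ((g : G)⁻¹ * z * (g : G)⁻¹⁻¹) * (g : G)⁻¹ = z
        group) }
  map_one' := Equiv.ext fun z => Subtype.ext (by
    change (1 : G) * z * (1 : G)⁻¹ = z
    group)
  map_mul' x y := Equiv.ext fun z => Subtype.ext (by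
    change ((x : G) * y) * z * ((x : G) * y)⁻¹ = x * (y * z * (y : G)⁻¹) * (x : G)⁻¹
    group)

theorem rho_apply (hs : s ∈ ZZ Om) (g : ↥(normalizer (AZ (ZZ Om) s : Set G))) (z : DD Om s) :
    (t.rho hs g z : G) = g * z * (g : G)⁻¹ := rfl

theorem card_DD (g s : G) : Nat.card (DD Om (g * s * g⁻¹)) = Nat.card (DD Om s) := by
  have h := t.h
  have key : ∀ {g s z : G}, z ∈ DD Om s → g * z * g⁻¹ ∈ DD Om (g * s * g⁻¹) := by
    rintro g s z ⟨h1, h2⟩
    refine ⟨h.zz_cj h1 g, ?_⟩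
    calc g * s * g⁻¹ * (g * z * g⁻¹) = g * (s * z) * g⁻¹ := by group
      _ = g * (z * s) * g⁻¹ := by rw [h2]
      _ = _ := by group
  refine Nat.card_congr
    { toFun := fun z => ⟨g⁻¹ * z * g⁻¹⁻¹, ?_⟩
      invFun := fun z => ⟨g * z * g⁻¹, key z.2⟩
      left_inv := fun z => Subtype.ext (by
        change g * (g⁻¹ * z * g⁻¹⁻¹) * g⁻¹ = z
        group)
      right_inv := fun z => Subtype.ext (by
        change g⁻¹ * (g * z * g⁻¹) * g⁻¹⁻¹ = z
        group) }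
  have h1 := key (g := g⁻¹) z.2
  have h2 : g⁻¹ * (g * s * g⁻¹) * g⁻¹⁻¹ = s := by group
  rwa [h2] at h1

/-- an involution `b` of `AZ s'` in `N(AZ s)` centralises some element of `Z ∩ C(s)` -/
theorem exists_comm [Finite G] (hs : s ∈ ZZ Om) (g : G) (hb : b ∈ AZ (ZZ Om) (g * s * g⁻¹)) (hb1 : b ≠ 1)
    (hbM : b ∈ normalizer (AZ (ZZ Om) s : Set G)) : ∃ z ∈ DD Om s, b * z = z * b := by
  by_contra hcon
  push Not at hcon
  have h := t.h
  have hs' : g * s * g⁻¹ ∈ ZZ Om := h.zz_cj hs g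
  have hbb : b * b = 1 := t.com.AZ_sq hs' b hb
  have hCb := t.cent_le hs' hb hb1
  have hch : ∀ z : DD Om s, ∃ K, K ∈ Ov Om (z : G) := fun z => z.2.1
  choose K hK using hch
  have hcp : ∀ z z' : DD Om s, z ≠ z' → CP Om (z : G) z' := fun z z' hne =>
    t.cp z.2.1 z'.2.1 (fun e => hne (Subtype.ext e)) (t.DD_comm hs z.2 z'.2)
  let σ : DD Om s → DD Om s := fun z => ⟨b * z * b⁻¹, t.DD_conj hs z.2 hbM⟩
  have hσ : ∀ z, (σ z : G) = b * z * b⁻¹ := fun _ => rfl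
  have hσσ : ∀ z, σ (σ z) = z := by
    intro z
    apply Subtype.ext
    rw [hσ, hσ]
    calc b * (b * z * b⁻¹) * b⁻¹ = (b * b) * z * (b * b)⁻¹ := by group
      _ = z := by rw [hbb]; group
  have hσn : ∀ z, σ z ≠ z := by
    intro z hz
    have h1 := congrArg Subtype.val hz
    rw [hσ] at h1
    exact hcon z z.2 (mul_inv_eq_iff_eq_mul.1 h1)
  have hbK : ∀ z : DD Om s, ∀ y ∈ K z, b * y * b⁻¹ ∈ cj b (K z) := fun z y hy => conj_mem_cj hy
  have hbO : ∀ z : DD Om s, cj b (K z) ∈ Ov Om (σ z : G) := fun z => h.Ov_cj (hK z) b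
  have c0 : ∀ z, ∀ x ∈ K z, ∀ y ∈ K z, x * (b * y * b⁻¹) = b * y * b⁻¹ * x := fun z x hx y hy =>
    (hcp z (σ z) (hσn z).symm).2 (K z) (hK z) (cj b (K z)) (hbO z) x hx _ (hbK z y hy)
  have hcn : Cn Om (normalizer (AZ (ZZ Om) (g * s * g⁻¹) : Set G)) b σ K (t.rho hs') := by
    refine ⟨h, fun z => (hK z).1, hσσ, hσn, c0, ?_, ?_, ?_, ?_, t.card_DD g s, ?_⟩
    · intro i j hij _ x hx y hy
      exact (hcp i j hij).2 (K i) (hK i) (K j) (hK j) x hx y hy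
    · intro i j _ hij x hx y hy
      have h1 : i ≠ σ j := fun e => hij (by rw [e, hσσ])
      exact (hcp i (σ j) h1).2 (K i) (hK i) (cj b (K j)) (hbO j) x hx _ (hbK j y hy)
    · intro i hi
      rw [(hK i).2] at hi
      exact hσn i (Subtype.ext hi)
    · intro i k hk
      apply hCb
      rw [mem_centralizer_singleton_iff]
      have h1 : b * (b * k * b⁻¹) = k * b := by
        calc b * (b * k * b⁻¹) = (b * b) * k * b⁻¹ := by group
          _ = k * b := by rw [hbb, one_mul, inv_eq_of_mul_eq_one_right hbb]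
      have h2 : k * b = b * (b * k * b⁻¹) := h1.symm
      symm
      calc b * (k * (b * k * b⁻¹)) = b * ((b * k * b⁻¹) * k) := by rw [c0 i k hk k hk]
        _ = b * (b * k * b⁻¹) * k := by group
        _ = k * b * k := by rw [h1]
        _ = k * (b * k * b⁻¹) * b := by group
    · intro x i hx hρ
      rw [(hK i).2] at hx
      have hxE : (x : G) ∈ AZ (ZZ Om) s := by
        rw [hx]
        exact mul_mem (DD_AZ i.2) (DD_AZ (σ i).2)
      have hx1 : (x : G) ≠ 1 := by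
        intro h1
        rw [hx] at h1
        apply hσn i
        apply Subtype.ext
        exact (eq_inv_of_mul_eq_one_right h1).trans (h.zz_inv i.2.1)
      have h1 := congrArg (fun τ : Equiv.Perm (DD Om (g * s * g⁻¹)) => ((τ ⟨g * s * g⁻¹, hs', rfl⟩ : DD Om _) : G)) hρ
      have h2 : (x : G) * (g * s * g⁻¹) * (x : G)⁻¹ = g * s * g⁻¹ := h1
      have h3 : g * s * g⁻¹ ∈ centralizer {(x : G)} := by
        rw [mem_centralizer_singleton_iff]
        exact (mul_inv_eq_iff_eq_mul.1 h2).symm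
      have h4 := t.mem_of_norm hs hs' (t.cent_le hs hxE hx1 h3)
      have h5 : AZ (ZZ Om) (g * s * g⁻¹) = AZ (ZZ Om) s := t.com.AZ_eq hs' hs h4
      rw [h5] at hb
      exact hcon s ⟨hs, rfl⟩ (t.com.AZ_comm hs b hb s (ComZ.self_mem hs))
  haveI : Nonempty (DD Om s) := ⟨⟨s, hs, rfl⟩⟩
  exact hcn.false

/-- **(9.2)** -/
theorem closed [Finite G] (S : Sylow 2 G) (hs : s ∈ ZZ Om) (hsS : s ∈ (S : Subgroup G)) :
    IsStronglyClosed (AZ (ZZ Om) s) (S : Subgroup G) := by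
  refine ⟨t.AZ_le_sylow S hs hsS, fun a ha g hg => ?_⟩
  by_cases ha1 : a = 1
  · subst ha1
    have h1 : g * 1 * g⁻¹ = 1 := by group
    rw [h1]; exact one_mem _
  have hb : g * a * g⁻¹ ∈ AZ (ZZ Om) (g * s * g⁻¹) := by
    rw [t.com.AZ_conj]
    exact conj_mem_cj ha
  have hb1 : g * a * g⁻¹ ≠ 1 := fun e => ha1 (conj_eq_one_iff.1 e)
  have hs' : g * s * g⁻¹ ∈ ZZ Om := t.h.zz_cj hs g
  obtain ⟨z, hz, hbz⟩ := t.exists_comm hs g hb hb1 (t.sylow_le S hs hsS hg)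
  have h1 := t.cent_le hs' hb hb1 (mem_centralizer_singleton_iff.2 hbz.symm)
  have h2 := t.mem_of_norm hs' hz.1 h1
  have h3 : AZ (ZZ Om) z = AZ (ZZ Om) (g * s * g⁻¹) := t.com.AZ_eq hz.1 hs' h2
  have h4 : AZ (ZZ Om) s = AZ (ZZ Om) z := t.com.AZ_eq hs hz.1 hz.2
  rw [h4, h3]
  exact hb

end TZ

end Cfsg.Agent.Cit.Nil.RG
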